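/-
The isomorphism of GL(4,2) with A8, by the action on the eight families of seven nondegenerate alternating forms.
-/
import Mathlib

set_option autoImplicit false
set_option linter.style.haveILetI false
set_option maxRecDepth 8000

namespace CfsgLib.GL4A8

open Equiv Matrix

/-- Four by four matrices over the field of two elements. -/
abbrev M4 := Matrix (Fin 4) (Fin 4) (ZMod 2)

/-- The alternating matrix with coordinates the bits of `c`. -/
def form (c : ℕ) : M4 :=
  let b : ℕ → ZMod 2 := fun k => if c.testBit k then 1 else 0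
  !![0, b 0, b 1, b 2; b 0, 0, b 3, b 4; b 1, b 3, 0, b 5; b 2, b 4, b 5, 0]

/-- The eight families. -/
def star : Fin 8 → List ℕ := ![[12, 22, 27, 39, 41, 53, 58], [12, 23, 26, 37, 43, 54, 57], [13, 22, 26, 35, 44, 49, 63], [13, 23, 27, 33, 46, 50, 60], [14, 18, 29, 39, 43, 49, 60], [14, 19, 28, 37, 41, 50, 63], [15, 18, 28, 35, 46, 53, 57], [15, 19, 29, 33, 44, 54, 58]]

/-- The action on a form. -/
def act (M A : M4) : M4 := M * A * Mᵀ

/-- `M` moves the families as `g` does. -/
def Moves (M : M4) (g : Perm (Fin 8)) : Prop :=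
  ∀ i, ∀ c ∈ star i, ∃ c' ∈ star (g i), act M (form c) = form c'

instance (M : M4) (g : Perm (Fin 8)) : Decidable (Moves M g) := by unfold Moves; infer_instance

/-- Elementary transvections with their permutations. -/
def gens : List ((Fin 4 × Fin 4) × Perm (Fin 8)) := [
  ((0, 1), ⟨![4, 5, 6, 7, 0, 1, 2, 3], ![4, 5, 6, 7, 0, 1, 2, 3], by decide, by decide⟩),
  ((0, 2), ⟨![2, 3, 0, 1, 6, 7, 4, 5], ![2, 3, 0, 1, 6, 7, 4, 5], by decide, by decide⟩),
  ((0, 3), ⟨![1, 0, 3, 2, 5, 4, 7, 6], ![1, 0, 3, 2, 5, 4, 7, 6], by decide, by decide⟩),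
  ((1, 0), ⟨![5, 6, 4, 7, 2, 0, 1, 3], ![5, 6, 4, 7, 2, 0, 1, 3], by decide, by decide⟩),
  ((1, 2), ⟨![1, 0, 3, 2, 7, 6, 5, 4], ![1, 0, 3, 2, 7, 6, 5, 4], by decide, by decide⟩),
  ((1, 3), ⟨![3, 2, 1, 0, 6, 7, 4, 5], ![3, 2, 1, 0, 6, 7, 4, 5], by decide, by decide⟩),
  ((2, 0), ⟨![7, 2, 1, 5, 6, 3, 4, 0], ![7, 2, 1, 5, 6, 3, 4, 0], by decide, by decide⟩),
  ((2, 1), ⟨![1, 0, 7, 6, 5, 4, 3, 2], ![1, 0, 7, 6, 5, 4, 3, 2], by decide, by decide⟩),
  ((2, 3), ⟨![5, 4, 6, 7, 1, 0, 2, 3], ![5, 4, 6, 7, 1, 0, 2, 3], by decide, by decide⟩),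
  ((3, 0), ⟨![1, 0, 7, 4, 3, 6, 5, 2], ![1, 0, 7, 4, 3, 6, 5, 2], by decide, by decide⟩),
  ((3, 1), ⟨![2, 7, 0, 5, 6, 3, 4, 1], ![2, 7, 0, 5, 6, 3, 4, 1], by decide, by decide⟩),
  ((3, 2), ⟨![6, 5, 4, 7, 2, 1, 0, 3], ![6, 5, 4, 7, 2, 1, 0, 3], by decide, by decide⟩)]

/-- Image code of the form `c` under an elementary transvection with basis images `l`. -/
def codeAct (l : List ℕ) (c : ℕ) : ℕ :=
  ((List.range 6).map fun k => if c.testBit k then l.getD k 0 else 0).foldl Nat.xor 0

/-- Basis images for the generators. -/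
def basisImg : List (List ℕ) := [[1, 2, 4, 10, 20, 32], [1, 2, 4, 9, 16, 36], [1, 2, 4, 8, 17, 34], [1, 10, 20, 8, 16, 32], [1, 3, 4, 8, 16, 48], [1, 2, 5, 8, 16, 40], [9, 2, 36, 8, 16, 32], [3, 2, 4, 8, 48, 32], [1, 2, 6, 8, 24, 32], [17, 34, 4, 8, 16, 32], [5, 2, 4, 40, 16, 32], [1, 6, 4, 24, 16, 32]]

theorem gens_some : ∀ i j : Fin 4, i ≠ j → ∃ p ∈ gens, p.1 = (i, j) := by decide +kernel

theorem basis_checked : ∀ q ∈ gens.zip basisImg, ∀ k < 6,
    (Matrix.transvection q.1.1.1 q.1.1.2 (1 : ZMod 2) : M4) * form (2 ^ k) * (Matrix.transvection q.1.1.1 q.1.1.2 (1 : ZMod 2))ᵀ =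
      form (q.2.getD k 0) := by
  decide +kernel

theorem code_checked : ((gens.zip basisImg).all (fun q => (List.finRange 8).all fun i =>
    (star i).all fun c => Nat.blt c 64 && (star (q.1.2 i)).contains (codeAct q.2 c))) = true := by
  decide +kernel

theorem basis_lt : (gens.zip basisImg).map Prod.fst = gens ∧
    ∀ q ∈ gens.zip basisImg, ∀ k < 6, q.2.getD k 0 < 64 := by decide +kernel

theorem xor_checked : ∀ x : ZMod 2, (x + x = 0) := by decide

theorem form_xor (a b : ℕ) : form (a ^^^ b) = form a + form b := by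
  have h : ∀ k, (if (a ^^^ b).testBit k then (1 : ZMod 2) else 0) =
      (if a.testBit k then 1 else 0) + (if b.testBit k then 1 else 0) := by
    intro k
    rw [Nat.testBit_xor]
    cases a.testBit k <;> cases b.testBit k <;> decide
  ext i j
  fin_cases i <;> fin_cases j <;> first | rfl | exact h _

theorem form_zero : form 0 = 0 := by decide +kernel

theorem bits_six : ∀ c < 64, ((List.range 6).map fun k => if c.testBit k then 2 ^ k else 0).foldl Nat.xor 0 = c := by
  decide +kernel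

theorem gens_checked : (∀ i j : Fin 4, i ≠ j → ∃ p ∈ gens, p.1 = (i, j)) ∧
    ∀ p ∈ gens, Moves (Matrix.transvection p.1.1 p.1.2 1) p.2 := by
  refine ⟨gens_some, fun p hp i c hc => ?_⟩
  rw [← basis_lt.1] at hp
  obtain ⟨q, hq, rfl⟩ := List.mem_map.mp hp
  have h := code_checked
  simp only [List.all_eq_true, Bool.and_eq_true, Nat.blt_eq, List.contains_iff_mem] at h
  obtain ⟨hlt, hmem⟩ := h q hq i (List.mem_finRange i) c hc
  refine ⟨_, hmem, ?_⟩
  set T : M4 := Matrix.transvection q.1.1.1 q.1.1.2 1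
  have key : ∀ (ks : List ℕ), (∀ k ∈ ks, k < 6) → ∀ a b : ℕ, act T (form a) = form b →
      act T (form ((ks.map fun k => if c.testBit k then 2 ^ k else 0).foldl Nat.xor a)) =
        form ((ks.map fun k => if c.testBit k then q.2.getD k 0 else 0).foldl Nat.xor b) := by
    intro ks
    induction ks with
    | nil => exact fun _ a b h => h
    | cons k ks ih =>
      intro hks a b hab
      simp only [List.map_cons, List.foldl_cons]
      refine ih (fun k' hk' => hks k' (List.mem_cons_of_mem _ hk')) _ _ ?_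
      show act T (form (a ^^^ _)) = form (b ^^^ _)
      rw [form_xor, form_xor, act, mul_add, add_mul]
      refine congrArg₂ (· + ·) hab ?_
      by_cases hb : c.testBit k = true
      · rw [if_pos hb, if_pos hb]
        exact basis_checked q hq k (hks k List.mem_cons_self)
      · rw [if_neg hb, if_neg hb, form_zero, mul_zero, zero_mul]
  have hk := key (List.range 6) (fun k hk => List.mem_range.mp hk) 0 0 (by rw [form_zero, act, mul_zero, zero_mul])
  rw [bits_six c hlt] at hk
  exact hk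

theorem star_distinct : ∀ i : Fin 8, ∀ a ∈ star i, ∀ b ∈ star i, a ≠ b → form a ≠ form b ∧
    ∀ j : Fin 8, (∃ a' ∈ star j, a' = a) → (∃ b' ∈ star j, b' = b) → j = i := by
  decide +kernel

theorem form_inj : ∀ i : Fin 8, ∀ a ∈ star i, ∀ j : Fin 8, ∀ b ∈ star j, form a = form b → a = b := by
  decide +kernel

theorem two_members : ∀ i : Fin 8, ∃ a ∈ star i, ∃ b ∈ star i, a ≠ b := by decide +kernel

theorem act_mul (M N A : M4) : act (M * N) A = act M (act N A) := by
  simp only [act, Matrix.transpose_mul, Matrix.mul_assoc]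

theorem act_injective (M : GL (Fin 4) (ZMod 2)) : Function.Injective (act (M : M4)) := by
  intro A B h
  have e := congrArg (act ((M⁻¹ : GL (Fin 4) (ZMod 2)) : M4)) h
  rwa [← act_mul, ← act_mul, ← Units.val_mul, inv_mul_cancel, Units.val_one, act, act, one_mul, one_mul,
    Matrix.transpose_one, mul_one, mul_one] at e

theorem moves_unique {M : GL (Fin 4) (ZMod 2)} {g h : Perm (Fin 8)} (hg : Moves M g) (hh : Moves M h) : g = h := by
  refine Equiv.ext fun i => ?_
  obtain ⟨a, ha, b, hb, hab⟩ := two_members i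
  obtain ⟨a₁, ha₁, ea⟩ := hg i a ha
  obtain ⟨b₁, hb₁, eb⟩ := hg i b hb
  obtain ⟨a₂, ha₂, ea'⟩ := hh i a ha
  obtain ⟨b₂, hb₂, eb'⟩ := hh i b hb
  have e1 := form_inj _ _ ha₁ _ _ ha₂ (ea.symm.trans ea')
  have e2 := form_inj _ _ hb₁ _ _ hb₂ (eb.symm.trans eb')
  have hne : a₂ ≠ b₂ := fun e => (star_distinct i a ha b hb hab).1 (act_injective M (by rw [ea', eb', e]))
  exact (star_distinct _ a₂ ha₂ b₂ hb₂ hne).2 _ ⟨_, ha₁, e1⟩ ⟨_, hb₁, e2⟩

theorem moves_mul {M N : M4} {g h : Perm (Fin 8)} (hg : Moves M g) (hh : Moves N h) : Moves (M * N) (g * h) := by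
  intro i c hc
  obtain ⟨c', hc', e⟩ := hh i c hc
  obtain ⟨c'', hc'', e'⟩ := hg _ c' hc'
  exact ⟨c'', hc'', by rw [act_mul, e, e']⟩

theorem moves_one : Moves 1 1 := fun i c hc => ⟨c, hc, by simp [act]⟩

theorem units_two : ∀ x : ZMod 2, x ≠ 0 → x = 1 := by decide

theorem exists_moves (M : GL (Fin 4) (ZMod 2)) : ∃ g, Moves M g := by
  haveI : Fact (Nat.Prime 2) := ⟨Nat.prime_two⟩
  obtain ⟨L, L', D, hD⟩ := Matrix.Pivot.exists_list_transvec_mul_diagonal_mul_list_transvec (M : M4)
  have htr : ∀ t : Matrix.TransvectionStruct (Fin 4) (ZMod 2), ∃ g, Moves t.toMatrix g := by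
    intro t
    rcases eq_or_ne t.c 0 with e | e
    · exact ⟨1, by rw [Matrix.TransvectionStruct.toMatrix, e, Matrix.transvection_zero]; exact moves_one⟩
    · obtain ⟨p, hp, hpe⟩ := gens_checked.1 t.i t.j t.hij
      refine ⟨p.2, ?_⟩
      have := gens_checked.2 p hp
      rw [hpe] at this
      rw [Matrix.TransvectionStruct.toMatrix, units_two _ e]
      exact this
  have hlist : ∀ L : List (Matrix.TransvectionStruct (Fin 4) (ZMod 2)),
      ∃ g, Moves (L.map Matrix.TransvectionStruct.toMatrix).prod g := by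
    intro L
    induction L with
    | nil => exact ⟨1, by simpa using moves_one⟩
    | cons t L ih =>
      obtain ⟨g, hg⟩ := htr t
      obtain ⟨h, hh⟩ := ih
      exact ⟨g * h, by rw [List.map_cons, List.prod_cons]; exact moves_mul hg hh⟩
  have hdet : (M : M4).det ≠ 0 := (Matrix.GeneralLinearGroup.det M).ne_zero
  have hD1 : D = fun _ => 1 := by
    rw [hD, Matrix.det_mul, Matrix.det_mul, Matrix.TransvectionStruct.det_toMatrix_prod,
      Matrix.TransvectionStruct.det_toMatrix_prod, one_mul, mul_one, Matrix.det_diagonal] at hdet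
    funext i
    exact units_two _ fun e => hdet (Finset.prod_eq_zero (Finset.mem_univ i) e)
  obtain ⟨g, hg⟩ := hlist L
  obtain ⟨h, hh⟩ := hlist L'
  exact ⟨g * h, by rw [hD, hD1, Matrix.diagonal_one, mul_one]; exact moves_mul hg hh⟩

/-- The action of GL(4,2) on the eight families. -/
noncomputable def toPerm : GL (Fin 4) (ZMod 2) →* Perm (Fin 8) where
  toFun M := (exists_moves M).choose
  map_one' := moves_unique (exists_moves 1).choose_spec moves_one
  map_mul' M N := moves_unique (exists_moves (M * N)).choose_spec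
    (moves_mul (exists_moves M).choose_spec (exists_moves N).choose_spec)

/-- The columns of a matrix fixing all forms, found in three stages. -/
def pairOK (i j : Fin 4) (u v : Fin 4 → ZMod 2) : Bool :=
  decide (∀ a b : Fin 4, u a * v b + v a * u b = (if a = i ∧ b = j ∨ a = j ∧ b = i then 1 else 0))

theorem cols_checked : ∀ u0 u1 : Fin 4 → ZMod 2, pairOK 0 1 u0 u1 = true →
    ∀ u2 : Fin 4 → ZMod 2, pairOK 0 2 u0 u2 = true → pairOK 1 2 u1 u2 = true →
    ∀ u3 : Fin 4 → ZMod 2, pairOK 0 3 u0 u3 = true → pairOK 1 3 u1 u3 = true →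
      u0 = Pi.single 0 1 ∧ u1 = Pi.single 1 1 ∧ u2 = Pi.single 2 1 ∧ u3 = Pi.single 3 1 := by
  decide +kernel

theorem split_checked : ∀ i j : Fin 4, i < j → ∃ p ∈ ([(12, 13), (12, 14), (18, 22), (18, 26), (12, 28), (12, 44)] : List (ℕ × ℕ)),
    (Matrix.single i j (1 : ZMod 2) + Matrix.single j i 1 = form p.1 + form p.2) := by
  decide +kernel

theorem pairs_checked : ∀ p ∈ ([(12, 13), (12, 14), (18, 22), (18, 26), (12, 28), (12, 44)] : List (ℕ × ℕ)),
    ∀ a ∈ [p.1, p.2], ∃ i j : Fin 8, i ≠ j ∧ a ∈ star i ∧ a ∈ star j ∧ ∀ b ∈ star i, b ∈ star j → b = a := by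
  decide +kernel

theorem toPerm_injective : Function.Injective toPerm := by
  rw [← MonoidHom.ker_eq_bot_iff, eq_bot_iff]
  intro M hM
  rw [Subgroup.mem_bot]
  have hm : Moves M 1 := by rw [← MonoidHom.mem_ker.mp hM]; exact (exists_moves M).choose_spec
  have hfix : ∀ p ∈ ([(12, 13), (12, 14), (18, 22), (18, 26), (12, 28), (12, 44)] : List (ℕ × ℕ)),
      ∀ a ∈ [p.1, p.2], act M (form a) = form a := by
    intro p hp a ha
    obtain ⟨i, j, -, hi, hj, hu⟩ := pairs_checked p hp a ha
    obtain ⟨c, hc, e⟩ := hm i a hi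
    obtain ⟨c', hc', e'⟩ := hm j a hj
    have hcc := form_inj _ _ hc _ _ hc' (e.symm.trans e')
    rw [hu c hc (hcc ▸ hc')] at e
    exact e
  let u : Fin 4 → Fin 4 → ZMod 2 := fun i a => (M : M4) a i
  have hok : ∀ i j : Fin 4, i < j → pairOK i j (u i) (u j) = true := by
    intro i j hij
    obtain ⟨p, hp, he⟩ := split_checked i j hij
    have h1 : act M (Matrix.single i j 1 + Matrix.single j i 1) = Matrix.single i j 1 + Matrix.single j i 1 := by
      rw [he, act, mul_add, add_mul]
      exact congrArg₂ (· + ·) (hfix p hp p.1 (by simp)) (hfix p hp p.2 (by simp))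
    rw [pairOK, decide_eq_true_eq]
    intro a b
    have h2 := congrFun (congrFun h1 a) b
    have hs : ∀ i j : Fin 4, (((M : M4) * Matrix.single i j (1 : ZMod 2) * (M : M4)ᵀ : M4)) a b = (M : M4) a i * (M : M4) b j := by
      intro i j
      rw [Matrix.mul_apply, Finset.sum_eq_single j]
      · rw [Matrix.mul_single_apply_same, mul_one, Matrix.transpose_apply]
      · intro k _ hk
        rw [Matrix.mul_single_apply_of_ne _ _ _ _ _ hk, zero_mul]
      · exact fun h => absurd (Finset.mem_univ j) h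
    rw [act, mul_add, add_mul, Matrix.add_apply, Matrix.add_apply, hs, hs, Matrix.single_apply, Matrix.single_apply] at h2
    have hne : i ≠ j := ne_of_lt hij
    refine Eq.trans ?_ (h2.trans ?_)
    · rfl
    · by_cases h1 : i = a ∧ j = b
      · have h1' : ¬ (j = a ∧ i = b) := fun h => hne (h1.1.trans h.1.symm)
        rw [if_pos h1, if_neg h1', add_zero, if_pos (Or.inl ⟨h1.1.symm, h1.2.symm⟩)]
      · by_cases h1' : j = a ∧ i = b
        · rw [if_neg h1, if_pos h1', zero_add, if_pos (Or.inr ⟨h1'.1.symm, h1'.2.symm⟩)]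
        · rw [if_neg h1, if_neg h1', add_zero, if_neg]
          rintro (h | h)
          · exact h1 ⟨h.1.symm, h.2.symm⟩
          · exact h1' ⟨h.1.symm, h.2.symm⟩
  obtain ⟨e0, e1, e2, e3⟩ := cols_checked (u 0) (u 1) (hok 0 1 (by decide)) (u 2) (hok 0 2 (by decide))
    (hok 1 2 (by decide)) (u 3) (hok 0 3 (by decide)) (hok 1 3 (by decide))
  refine Units.ext (Matrix.ext fun a b => ?_)
  rw [Units.val_one, Matrix.one_apply]
  have hb : (M : M4) a b = (Pi.single b 1 : Fin 4 → ZMod 2) a := by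
    fin_cases b
    · exact congrFun e0 a
    · exact congrFun e1 a
    · exact congrFun e2 a
    · exact congrFun e3 a
  rw [hb, Pi.single_apply]

/-- `GL(4,2)` is isomorphic to `A8`. -/
theorem nonempty_mulEquiv : Nonempty (GL (Fin 4) (ZMod 2) ≃* alternatingGroup (Fin 8)) := by
  haveI : Fact (Nat.Prime 2) := ⟨Nat.prime_two⟩
  have hcard : Nat.card (GL (Fin 4) (ZMod 2)) = 20160 := by
    rw [Matrix.card_GL_field]; simp [Fin.prod_univ_four]
  have hr : Nat.card toPerm.range = 20160 := by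
    rw [← hcard]; exact (Nat.card_congr (MonoidHom.ofInjective toPerm_injective).toEquiv).symm
  have hidx : toPerm.range.index = 2 := by
    have h := toPerm.range.card_mul_index
    rw [hr, Nat.card_perm, Nat.card_fin, show Nat.factorial 8 = 40320 from rfl] at h
    omega
  have hA : alternatingGroup (Fin 8) ≤ toPerm.range := by
    rw [← Equiv.Perm.closure_three_cycles_eq_alternating, Subgroup.closure_le]
    intro c hc
    haveI := Subgroup.normal_of_index_eq_two hidx
    have h1 : (c * c) ∈ toPerm.range := Subgroup.mul_self_mem_of_index_two hidx c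
    have h2 : c = (c * c) * (c * c) := by
      have h3 : c ^ 3 = 1 := by rw [← hc.orderOf]; exact pow_orderOf_eq_one c
      calc c = c * c ^ 3 := by rw [h3, mul_one]
        _ = (c * c) * (c * c) := by simp only [pow_succ, pow_zero, one_mul, mul_assoc]
    exact h2 ▸ mul_mem h1 h1
  have heq : toPerm.range = alternatingGroup (Fin 8) := by
    refine (Subgroup.eq_of_le_of_card_ge hA ?_).symm
    have h := (alternatingGroup (Fin 8)).card_mul_index
    rw [alternatingGroup.index_eq_two, Nat.card_perm, Nat.card_fin, show Nat.factorial 8 = 40320 from rfl] at h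
    omega
  exact ⟨(MonoidHom.ofInjective toPerm_injective).trans (MulEquiv.subgroupCongr heq)⟩

end CfsgLib.GL4A8
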