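/-
Two-constrained groups with radical of small rank: the radical quotient embeds in A8.
-/
import Mathlib
import Cfsg.Agent.Lib.Basic
import Cfsg.Agent.Lib.CoprimeGen
import Cfsg.Agent.Lib.ClassTwoSylow
import Cfsg.Agent.Lib.Elementary
import Cfsg.Agent.Lib.SmallSimple.GL4A8
import Cfsg.Prelude.Def_CaseTheorems

set_option autoImplicit false
set_option linter.style.haveILetI false

namespace CfsgLib.RadicalQuotient

open Cfsg

/-- Automorphisms of an elementary abelian group of order at most sixteen act as four by four matrices. -/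
theorem exists_gl4 {V : Type*} [CommGroup V] [Finite V] (he : ∀ x : V, x ^ 2 = 1)
    (hc : Nat.card V ≤ 2 ^ 4) :
    ∃ f : MulAut V →* GL (Fin 4) (ZMod 2), Function.Injective f := by
  haveI : Fact (Nat.Prime 2) := ⟨Nat.prime_two⟩
  letI : Module (ZMod 2) (Additive V) := AddCommGroup.zmodModule fun x => he x
  set n := Module.finrank (ZMod 2) (Additive V) with hn
  have hcard : Nat.card V = 2 ^ n := by
    rw [show Nat.card V = Nat.card (Additive V) from rfl, Module.natCard_eq_pow_finrank (K := ZMod 2),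
      Nat.card_zmod]
  have hn4 : n ≤ 4 := (Nat.pow_le_pow_iff_right (by norm_num)).mp (hcard ▸ hc)
  let W := Additive V × (Fin (4 - n) → ZMod 2)
  have hW : Module.finrank (ZMod 2) W = 4 := by
    rw [Module.finrank_prod, ← hn, Module.finrank_fin_fun]; omega
  let b : Module.Basis (Fin 4) (ZMod 2) W := Module.finBasisOfFinrankEq _ _ hW
  let ext : MulAut V →* (Module.End (ZMod 2) W)ˣ :=
    { toFun := fun σ => (LinearMap.GeneralLinearGroup.generalLinearEquiv (ZMod 2) W).symm
        ((LinearEquiv.ofBijective (AddMonoidHom.toZModLinearMap 2 (MonoidHom.toAdditive σ.toMonoidHom))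
          σ.bijective).prodCongr (LinearEquiv.refl _ _))
      map_one' := Units.ext (LinearMap.ext fun w => rfl)
      map_mul' := fun σ τ => Units.ext (LinearMap.ext fun w => rfl) }
  have hinj : Function.Injective ext := by
    intro σ τ h
    ext x
    exact congrArg (fun u : (Module.End (ZMod 2) W)ˣ => Additive.toMul ((u.1 (Additive.ofMul x, 0)).1)) h
  exact ⟨(Units.mapEquiv (LinearMap.toMatrixAlgEquiv b).toMulEquiv).toMonoidHom.comp ext,
    (Units.mapEquiv (LinearMap.toMatrixAlgEquiv b).toMulEquiv).injective.comp hinj⟩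

variable {X : Type*} [Group X] [Finite X]

/-- The 2-core of a reduced 2-constrained group contains its centraliser. -/
theorem centralizer_le (hc : IsPConstrained 2 X) (hO : oddCore X = ⊥) :
    Subgroup.centralizer (pCore 2 X : Set X) ≤ pCore 2 X := by
  have h := CfsgLib.ClassTwoSylow.centralizer_quotient_le hc
  set f := QuotientGroup.mk' (pPrimeCore 2 X)
  have hf : Function.Injective f := by
    rw [← MonoidHom.ker_eq_bot_iff, QuotientGroup.ker_mk']; exact hO
  haveI : ((pCore 2 X).map f).Normal := Subgroup.Normal.map inferInstance _ (QuotientGroup.mk'_surjective _)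
  haveI : ((pCore 2 (X ⧸ pPrimeCore 2 X)).comap f).Normal := Subgroup.Normal.comap inferInstance _
  have h1 : (pCore 2 X).map f ≤ pCore 2 _ := CfsgLib.le_pCore ((CfsgLib.isPGroup_pCore 2).map f)
  have h2 : (pCore 2 (X ⧸ pPrimeCore 2 X)).comap f ≤ pCore 2 X :=
    CfsgLib.le_pCore ((CfsgLib.isPGroup_pCore 2).comap_of_injective f hf)
  intro x hx
  refine h2 (h ?_)
  rw [Subgroup.mem_centralizer_iff]
  intro y hy
  obtain ⟨z, rfl⟩ := QuotientGroup.mk'_surjective _ y
  rw [← map_mul, ← map_mul, Subgroup.mem_centralizer_iff.mp hx z (h2 hy)]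

/-- The radical quotient embeds in `A8`. -/
theorem exists_embedding (hc : IsPConstrained 2 X) (hO : oddCore X = ⊥)
    (h4 : SectionalPRankLE 2 4 ↥(pCore 2 X)) :
    ∃ f : X ⧸ pCore 2 X →* alternatingGroup (Fin 8), Function.Injective f := by
  classical
  haveI : Fact (Nat.Prime 2) := ⟨Nat.prime_two⟩
  set Q := pCore 2 X with hQdef
  have hQ : IsPGroup 2 Q := CfsgLib.isPGroup_pCore 2
  set F := frattini Q with hF
  haveI : F.Characteristic := frattini_characteristic
  have hcomm : ∀ a b : Q ⧸ F, a * b = b * a := fun a b =>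
    (Subgroup.Normal.quotient_commutative_iff_commutator_le.mpr (CfsgLib.commutator_le_frattini_pGroup hQ)).is_comm.comm a b
  have hsq : ∀ a : Q ⧸ F, a ^ 2 = 1 := fun a => by
    obtain ⟨x, rfl⟩ := QuotientGroup.mk_surjective a
    rw [← QuotientGroup.mk_pow, QuotientGroup.eq_one_iff]
    exact CfsgLib.pow_mem_frattini_pGroup hQ x
  letI : CommGroup (Q ⧸ F) := { (inferInstance : Group (Q ⧸ F)) with mul_comm := hcomm }
  have hcard : Nat.card (Q ⧸ F) ≤ 2 ^ 4 := by
    set T := (⊤ : Subgroup Q)
    let π : T →* Q ⧸ F := (QuotientGroup.mk' F).comp T.subtype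
    have hπ : Function.Surjective π := fun a => by
      obtain ⟨x, rfl⟩ := QuotientGroup.mk_surjective a
      exact ⟨⟨x, trivial⟩, rfl⟩
    let ψ := QuotientGroup.quotientKerEquivOfSurjective π hπ
    have h := h4 T π.ker ⊤ ⟨⟨fun a b => Subtype.ext (ψ.injective (by
      rw [Subgroup.coe_mul, Subgroup.coe_mul, map_mul, map_mul, hcomm]))⟩⟩
      (fun a _ => ψ.injective (by rw [map_pow, hsq, map_one]))
    rwa [Subgroup.card_top, Nat.card_congr ψ.toEquiv] at h
  obtain ⟨g, hg⟩ := exists_gl4 hsq hcard
  obtain ⟨e⟩ := CfsgLib.GL4A8.nonempty_mulEquiv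
  let act : X →* MulAut (Q ⧸ F) :=
    { toFun := fun x => QuotientGroup.congr F F (MulAut.conjNormal x)
        (Subgroup.characteristic_iff_map_eq.mp inferInstance _)
      map_one' := by ext q; induction q using QuotientGroup.induction_on with | _ q => simp
      map_mul' := fun x y => by
        ext q
        induction q using QuotientGroup.induction_on with | _ q => exact congrArg QuotientGroup.mk (by rw [map_mul]; rfl) }
  have hker : act.ker = Q := by
    apply le_antisymm
    · refine CfsgLib.le_pCore fun ⟨x, hx⟩ => ?_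
      obtain ⟨k, m, hm, he⟩ := Nat.exists_eq_pow_mul_and_not_dvd (orderOf_pos x).ne' 2 (by norm_num)
      refine ⟨k, Subtype.ext ?_⟩
      set y := x ^ (2 ^ k) with hy
      show y = 1
      have hyo : orderOf y = m := by
        rw [hy, orderOf_pow, he, Nat.gcd_eq_right (dvd_mul_right _ _), Nat.mul_div_cancel_left _ (by positivity)]
      have hcop : m.Coprime 2 := (Nat.Prime.coprime_iff_not_dvd Nat.prime_two).mpr hm |>.symm
      have hyk : y ∈ act.ker := pow_mem hx _
      have hcen : y ∈ Subgroup.centralizer (Q : Set X) := by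
        refine CfsgLib.centralize_of_trivial_mod_frattini (A := Subgroup.zpowers y) ?_ ?_ ?_
          (Subgroup.mem_zpowers y)
        · rw [Subgroup.normalizer_eq_top]; exact le_top
        · rw [Nat.card_zpowers, hyo]
          obtain ⟨j, hj⟩ := IsPGroup.iff_card.mp (hQ.to_subgroup F)
          rw [hj]
          exact hcop.pow_right j
        · intro a ha q hq
          have hak : a ∈ act.ker := (Subgroup.zpowers_le.mpr hyk) ha
          have := congrArg (fun σ : MulAut (Q ⧸ F) => σ ((⟨q, hq⟩ : Q) : Q ⧸ F)) (MonoidHom.mem_ker.mp hak)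
          have h2 : MulAut.conjNormal a (⟨q, hq⟩ : Q) * (⟨q, hq⟩ : Q)⁻¹ ∈ F := by
            rw [← QuotientGroup.eq_one_iff, QuotientGroup.mk_mul, QuotientGroup.mk_inv, mul_inv_eq_one]
            exact this
          refine ⟨_, h2, ?_⟩
          simp [MulAut.conjNormal_apply]
      obtain ⟨j, hj⟩ := hQ ⟨y, centralizer_le hc hO hcen⟩
      have hj' : y ^ 2 ^ j = 1 := congrArg Subtype.val hj
      refine orderOf_eq_one_iff.mp ?_
      refine Nat.eq_one_of_dvd_coprimes (a := m) (hcop.pow_right j) ?_ (orderOf_dvd_of_pow_eq_one hj')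
      rw [hyo]
    · intro x hx
      rw [MonoidHom.mem_ker]
      ext a
      obtain ⟨q, rfl⟩ := QuotientGroup.mk_surjective a
      have h3 : (MulAut.conjNormal x q : Q) = ⟨x, hx⟩ * q * (⟨x, hx⟩ : Q)⁻¹ := Subtype.ext (by simp)
      show ((MulAut.conjNormal x q : Q) : Q ⧸ F) = (q : Q ⧸ F)
      rw [h3, QuotientGroup.mk_mul, QuotientGroup.mk_mul, QuotientGroup.mk_inv, hcomm (⟨x, hx⟩ : Q), mul_inv_cancel_right]
  refine ⟨e.toMonoidHom.comp (g.comp (QuotientGroup.lift Q act hker.ge)), ?_⟩
  refine e.injective.comp (hg.comp ?_)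
  rw [← MonoidHom.ker_eq_bot_iff, QuotientGroup.ker_lift, hker, QuotientGroup.map_mk'_self]

end CfsgLib.RadicalQuotient
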