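/-
Simple groups of order 168: all are isomorphic, as each is the same permutation group on its eight Sylow
7-subgroups.
-/
import Mathlib
import Cfsg.Agent.Lib.SmallOrder
import Cfsg.Agent.Lib.SLPerfect
import Cfsg.Agent.Lib.SLCard

set_option autoImplicit false
set_option linter.style.haveILetI false
set_option maxRecDepth 4000

namespace CfsgLib.Order168

open Equiv

/-- A permutation given by its list of images and the list of images of its inverse. -/
def ofLists (a b : Fin 8 → Fin 8) (h : ∀ i, b (a i) = i ∧ a (b i) = i) : Perm (Fin 8) :=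
  ⟨a, b, fun i => (h i).1, fun i => (h i).2⟩

/-- `x ↦ x + 1`, with `7` for infinity. -/
def c0 : Perm (Fin 8) := ofLists ![1, 2, 3, 4, 5, 6, 0, 7] ![6, 0, 1, 2, 3, 4, 5, 7] (by decide)

/-- `x ↦ 2 x`. -/
def m0 : Perm (Fin 8) := ofLists ![0, 2, 4, 6, 1, 3, 5, 7] ![0, 4, 1, 5, 2, 6, 3, 7] (by decide)

/-- `x ↦ -1/x`. -/
def t0 : Perm (Fin 8) := ofLists ![7, 6, 3, 2, 5, 4, 1, 0] ![7, 6, 3, 2, 5, 4, 1, 0] (by decide)

/-- The model group. -/
def model : Subgroup (Perm (Fin 8)) := Subgroup.closure {c0, m0, t0}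

theorem c0_mem : c0 ∈ model := Subgroup.subset_closure (by simp)

theorem m0_mem : m0 ∈ model := Subgroup.subset_closure (by simp)

theorem t0_mem : t0 ∈ model := Subgroup.subset_closure (by simp)

theorem orderOf_c0 : orderOf c0 = 7 := by
  haveI : Fact (Nat.Prime 7) := ⟨by norm_num⟩
  exact orderOf_eq_prime (by decide +kernel) (by decide +kernel)

theorem orderOf_m0 : orderOf m0 = 3 := by
  haveI : Fact (Nat.Prime 3) := ⟨by norm_num⟩
  exact orderOf_eq_prime (by decide +kernel) (by decide +kernel)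

theorem model_transitive (i : Fin 8) : ∃ g ∈ model, g 7 = i := by
  rcases eq_or_ne i 7 with rfl | h
  · exact ⟨1, one_mem _, rfl⟩
  · refine ⟨c0 ^ (i : ℕ) * t0, mul_mem (pow_mem c0_mem _) t0_mem, ?_⟩
    revert h; revert i
    decide +kernel

theorem card_model_ge : 168 ∣ Nat.card model := by
  have h7 : 7 ∣ Nat.card model := by
    rw [← orderOf_c0, ← Subgroup.orderOf_mk c0 c0_mem]; exact orderOf_dvd_natCard _
  have h3 : 3 ∣ Nat.card model := by
    rw [← orderOf_m0, ← Subgroup.orderOf_mk m0 m0_mem]; exact orderOf_dvd_natCard _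
  have h8 : 8 ∣ Nat.card model := by
    have htr : MulAction.IsPretransitive model (Fin 8) := ⟨fun a b => by
      obtain ⟨g, hg, rfl⟩ := model_transitive a
      obtain ⟨k, hk, rfl⟩ := model_transitive b
      exact ⟨⟨k * g⁻¹, mul_mem hk (inv_mem hg)⟩, by simp [Subgroup.smul_def]⟩⟩
    have := (MulAction.stabilizer model (7 : Fin 8)).index_dvd_card
    rwa [MulAction.index_stabilizer_of_transitive, Nat.card_fin] at this
  omega

section

variable {G : Type*} [Group G] [Finite G] [IsSimpleGroup G]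

omit [Finite G] in
theorem not_comm (hG : Nat.card G = 168) : ∀ φ : G →* ℤˣ, φ = 1 := by
  intro φ
  rcases Subgroup.Normal.eq_bot_or_eq_top (inferInstance : φ.ker.Normal) with h | h
  · have := Subgroup.card_dvd_of_injective φ ((MonoidHom.ker_eq_bot_iff φ).mp h)
    rw [hG, Nat.card_eq_fintype_card, Fintype.card_units_int] at this
    norm_num at this
  · exact MonoidHom.ext fun g => MonoidHom.mem_ker.mp (h ▸ Subgroup.mem_top g)

/-- A simple group of order 168 as a transitive group on eight points in which a point stabiliser has order 21 and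
contains a 7-cycle. -/
theorem exists_perm_rep (hG : Nat.card G = 168) :
    ∃ f : G →* Perm (Fin 8), Function.Injective f ∧ (∀ i j, ∃ g, f g i = j) ∧ c0 ∈ f.range ∧
      Nat.card {g : G // f g 7 = 7} = 21 ∧ ∀ g, Perm.sign (f g) = 1 := by
  classical
  haveI : Fact (Nat.Prime 7) := ⟨by norm_num⟩
  obtain ⟨P⟩ : Nonempty (Sylow 7 G) := inferInstance
  have hP : Nat.card P = 7 :=
    SmallOrder.card_sylow_eq (k := 1) P (by rw [hG]; norm_num) (by rw [hG]; norm_num)
  have hn : Nat.card (Sylow 7 G) = 8 := by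
    have h := SmallOrder.card_sylow_mem_filter P hP (n := 24) (by rw [hG]) (by norm_num)
    have h1 := SmallOrder.card_sylow_ne_one P (by rw [hP]; norm_num) (by rw [hP, hG]; norm_num)
    rw [show (Nat.divisors 24).filter (fun d => d % 7 = 1) = {1, 8} by decide +kernel] at h
    simp only [Finset.mem_insert, Finset.mem_singleton] at h
    omega
  let ρ := MulAction.toPermHom G (Sylow 7 G)
  have hρ : Function.Injective ρ := by
    rw [← MonoidHom.ker_eq_bot_iff]
    rcases Subgroup.Normal.eq_bot_or_eq_top (inferInstance : ρ.ker.Normal) with h | h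
    · exact h
    · exfalso
      have : Subsingleton (Sylow 7 G) := ⟨fun A B => by
        obtain ⟨g, rfl⟩ := MulAction.exists_smul_eq G A B
        exact (DFunLike.congr_fun (MonoidHom.mem_ker.mp (h ▸ Subgroup.mem_top g : g ∈ ρ.ker)) A).symm⟩
      have := Finite.card_le_one_iff_subsingleton.mpr this
      omega
  obtain ⟨σ, hσ, hσP⟩ : ∃ σ : G, orderOf σ = 7 ∧ σ • P = P := by
    haveI : IsCyclic (P : Subgroup G) := isCyclic_of_prime_card hP
    obtain ⟨s, hs⟩ := IsCyclic.exists_generator (α := (P : Subgroup G))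
    refine ⟨s, by rw [Subgroup.orderOf_coe, orderOf_eq_card_of_forall_mem_zpowers hs]; exact hP, ?_⟩
    exact Sylow.smul_eq_iff_mem_normalizer.mpr (Subgroup.le_normalizer s.2)
  let e₁ : Sylow 7 G ≃ Fin 8 := Finite.equivFinOfCardEq hn
  let e₀ : Sylow 7 G ≃ Fin 8 := e₁.trans (Equiv.swap (e₁ P) 7)
  have he0 : e₀ P = 7 := by simp [e₀]
  set x := e₀.permCongr (ρ σ)
  have hx7 : x 7 = 7 := by
    rw [← he0]
    simp [x, ρ, MulAction.toPermHom, hσP]
  have hxo : orderOf x = 7 := by
    have : x = e₀.permCongrHom (ρ σ) := rfl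
    rw [this, MulEquiv.orderOf_eq, orderOf_injective ρ hρ, hσ]
  have hc0 : c0.IsCycle := Perm.isCycle_of_prime_order' (by rw [orderOf_c0]; norm_num) (by rw [orderOf_c0, Fintype.card_fin]; norm_num)
  have hcyc : x.IsCycle := Perm.isCycle_of_prime_order' (by rw [hxo]; norm_num) (by rw [hxo, Fintype.card_fin]; norm_num)
  obtain ⟨τ, hτ⟩ := isConj_iff.mp (Perm.IsCycle.isConj hcyc hc0 (by rw [← hcyc.orderOf, hxo, ← hc0.orderOf, orderOf_c0]))
  have hτ7 : τ 7 = 7 := by
    have h1 : c0 (τ 7) = τ 7 := by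
      rw [← hτ]; simp [hx7]
    have h2 : ∀ i : Fin 8, c0 i = i → i = 7 := by decide +kernel
    exact h2 _ h1
  let f : G →* Perm (Fin 8) := (MulAut.conj τ).toMonoidHom.comp (e₀.permCongrHom.toMonoidHom.comp ρ)
  have hf : ∀ g i, f g i = τ (e₀ (g • e₀.symm (τ⁻¹ i))) := fun g i => rfl
  refine ⟨f, ?_, fun i j => ?_, ⟨σ, hτ⟩, ?_, fun g => ?_⟩
  · exact (MulAut.conj τ).injective.comp (e₀.permCongrHom.injective.comp hρ)
  · obtain ⟨g, hg⟩ := MulAction.exists_smul_eq G (e₀.symm (τ⁻¹ i)) (e₀.symm (τ⁻¹ j))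
    exact ⟨g, by rw [hf, hg, e₀.apply_symm_apply]; simp⟩
  · have hiff : ∀ g, f g 7 = 7 ↔ g • P = P := fun g => by
      have e : τ⁻¹ 7 = (7 : Fin 8) := by rw [Perm.inv_eq_iff_eq, hτ7]
      rw [hf, e, ← he0, e₀.symm_apply_apply]
      conv_lhs => rhs; rw [he0, ← hτ7, ← he0]
      rw [τ.injective.eq_iff, e₀.injective.eq_iff]
    rw [Nat.card_congr (Equiv.subtypeEquivRight hiff)]
    have h := (MulAction.stabilizer G P).card_mul_index
    rw [MulAction.index_stabilizer_of_transitive, hn, hG] at h
    have : Nat.card {g : G // g • P = P} = Nat.card (MulAction.stabilizer G P) := rfl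
    omega
  · exact DFunLike.congr_fun (not_comm hG (Perm.sign.comp f)) g

theorem centralizer_m0 : ∀ i : Fin 8, m0 i = i → (i = 0 ∨ i = 7) := by
  decide +kernel

/-- Every simple group of order 168 is isomorphic to the model. -/
theorem nonempty_mulEquiv_model (hG : Nat.card G = 168) : Nonempty (G ≃* model) := by
  classical
  obtain ⟨f, hf, htr, ⟨σ, hσ⟩, hstab, hsgn⟩ := exists_perm_rep hG
  let S : Subgroup G :=
    (MulAction.stabilizer (Perm (Fin 8)) (7 : Fin 8)).comap f
  have hS : Nat.card S = 21 := hstab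
  haveI : Fact (Nat.Prime 3) := ⟨by norm_num⟩
  -- the stabiliser contains `m0`
  obtain ⟨y, hy⟩ := exists_prime_orderOf_dvd_card' (G := S) 3 (by rw [hS]; norm_num)
  have hy7 : f y 7 = 7 := y.2
  have hσS : σ ∈ S := by
    show f σ 7 = 7
    rw [hσ]; decide +kernel
  have hσ7 : orderOf σ = 7 := by rw [← orderOf_injective f hf, hσ, orderOf_c0]
  have hnorm : (Subgroup.zpowers (⟨σ, hσS⟩ : S)).Normal := by
    haveI : Fact (Nat.Prime 7) := ⟨by norm_num⟩
    let Q : Sylow 7 S := Sylow.ofCard (Subgroup.zpowers (⟨σ, hσS⟩ : S)) (by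
      rw [Nat.card_zpowers, Subgroup.orderOf_mk, hσ7, hS]; decide +kernel)
    have h1 := SmallOrder.card_sylow_mem_filter Q
      (k := 7) (n := 3) (by
        show Nat.card (Subgroup.zpowers (⟨σ, hσS⟩ : S)) = 7
        rw [Nat.card_zpowers, Subgroup.orderOf_mk, hσ7]) (by rw [hS]) (by norm_num)
    rw [show (Nat.divisors 3).filter (fun d => d % 7 = 1) = {1} by decide +kernel, Finset.mem_singleton] at h1
    haveI : Subsingleton (Sylow 7 S) := (Nat.card_eq_one_iff_unique.mp h1).1
    haveI := Sylow.characteristic_of_subsingleton Q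
    exact (inferInstance : (Q : Subgroup S).Normal)
  obtain ⟨n, hn⟩ := Subgroup.mem_zpowers_iff.mp (hnorm.conj_mem _ (Subgroup.mem_zpowers _) y)
  obtain ⟨k, hk, hk'⟩ : ∃ k < 7, c0 ^ k = c0 ^ n := by
    obtain ⟨k, hk⟩ := ((isOfFinOrder_of_finite c0).mem_powers_iff_mem_zpowers).mpr ⟨n, rfl⟩
    exact ⟨k % 7, Nat.mod_lt _ (by norm_num), by rw [← orderOf_c0, pow_mod_orderOf]; exact hk⟩
  have hcon : f y * c0 = c0 ^ k * f y := by
    have h := congrArg (fun z : S => f z) hn
    simp only [Subgroup.coe_zpow, map_zpow, hσ, Subgroup.coe_mul, Subgroup.coe_inv, map_mul, map_inv] at h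
    rw [hk', h, inv_mul_cancel_right]
  -- `f y` is `x ↦ k x + b`, so a translate of it is a power of `m0`
  set b := f y 0
  have haff : ∀ i : Fin 8, ∀ s < 7, f y ((c0 ^ s) i) = (c0 ^ (k * s)) (f y i) := by
    intro i s _
    rw [pow_mul, ← Perm.mul_apply, ← Perm.mul_apply,
      ((show SemiconjBy (f y) c0 (c0 ^ k) from hcon).pow_right s).eq]
  have hb : b ≠ 7 := fun e => absurd ((f y).injective (e.trans hy7.symm)) (by decide)
  have hfy : ∀ s < 7, f y ((c0 ^ s) 0) = (c0 ^ (k * s)) b := haff 0
  have key : ∀ k < 7, k ≠ 1 → k ^ 3 % 7 = 1 → k = 2 ∨ k = 4 := by decide +kernel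
  have hy1 : (f y) ^ 3 = 1 := by
    rw [← map_pow, show (y : G) ^ 3 = 1 by
      rw [← Subgroup.coe_pow, ← hy, pow_orderOf_eq_one, Subgroup.coe_one], map_one]
  have hk3 : k ^ 3 % 7 = 1 := by
    have h1 : (f y) ^ 3 * c0 = (c0 ^ (k ^ 3)) * (f y) ^ 3 := by
      have h2 : ∀ r : ℕ, (f y) ^ r * c0 = c0 ^ (k ^ r) * (f y) ^ r := by
        intro r
        induction r with
        | zero => simp
        | succ r ih =>
          rw [pow_succ', mul_assoc, ih, ← mul_assoc,
            ((show SemiconjBy (f y) c0 (c0 ^ k) from hcon).pow_right _).eq, ← pow_mul, mul_assoc, pow_succ' k]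
      exact h2 3
    rw [hy1, one_mul, mul_one] at h1
    have := pow_eq_pow_iff_modEq.mp (show c0 ^ (k ^ 3) = c0 ^ 1 by rw [pow_one]; exact h1.symm)
    rw [orderOf_c0] at this
    exact this
  -- read off `m0`
  obtain ⟨z, hzS, hz⟩ : ∃ z ∈ S, f z = m0 := by
    by_cases hk1 : k = 1
    · exfalso
      subst hk1
      have hpt : ∀ s < 7, f y ((c0 ^ s) 0) = (c0 ^ s) b := fun s hs => by simpa using hfy s hs
      obtain ⟨r, hr, hrb⟩ : ∃ r < 7, (c0 ^ r) 0 = b := by
        revert hb; generalize b = c; revert c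
        decide +kernel
      have heq : f y = c0 ^ r := by
        refine Equiv.ext fun i => ?_
        rcases eq_or_ne i 7 with rfl | hi
        · rw [hy7]
          have : ∀ r < 7, (c0 ^ r) 7 = 7 := by decide +kernel
          rw [this r hr]
        · obtain ⟨s, hs, rfl⟩ : ∃ s < 7, (c0 ^ s) 0 = i := by
            revert hi; revert i
            decide +kernel
          rw [hpt s hs, ← hrb, ← Perm.mul_apply, ← Perm.mul_apply, ← pow_add, ← pow_add, add_comm]
      have h7 : orderOf y ∣ 7 := by
        rw [← Subgroup.orderOf_coe, ← orderOf_injective f hf, heq, ← orderOf_c0]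
        exact orderOf_pow_dvd r
      rw [hy] at h7
      norm_num at h7
    · have hk24 := key k hk hk1 hk3
      -- translate and, if needed, square
      obtain ⟨r, hr, hrb⟩ : ∃ r < 7, (c0 ^ r) b = 0 := by
        revert hb; generalize b = c; revert c
        decide +kernel
      set v := c0 ^ r * f y
      have hv : ∀ i : Fin 8, v i = if i = 7 then 7 else (c0 ^ (k * (i : ℕ))) 0 := by
        intro i
        have h7 : ∀ r < 7, (c0 ^ r) 7 = 7 := by decide +kernel
        rcases eq_or_ne i 7 with rfl | hi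
        · rw [if_pos rfl, Perm.mul_apply, hy7, h7 r hr]
        · rw [if_neg hi]
          have e : (c0 ^ (i : ℕ)) 0 = i := by
            revert hi; revert i
            decide +kernel
          have hil : (i : ℕ) < 7 := by
            have := i.isLt
            have : (i : ℕ) ≠ 7 := fun e => hi (Fin.ext e)
            omega
          conv_lhs => rw [← e, Perm.mul_apply, hfy _ hil, ← Perm.mul_apply, ← pow_add, add_comm, pow_add,
            Perm.mul_apply, hrb]
      rcases hk24 with rfl | rfl
      · refine ⟨σ ^ r * y, mul_mem (pow_mem hσS _) y.2, ?_⟩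
        rw [map_mul, map_pow, hσ]
        refine Equiv.ext fun i => ?_
        rw [hv]; revert i
        decide +kernel
      · refine ⟨(σ ^ r * y) ^ 2, pow_mem (mul_mem (pow_mem hσS _) y.2) _, ?_⟩
        rw [map_pow, map_mul, map_pow, hσ]
        refine Equiv.ext fun i => ?_
        rw [pow_two, Perm.mul_apply, hv, hv]; revert i
        decide +kernel
  -- the stabiliser of two points
  let T : Subgroup G := S ⊓ (MulAction.stabilizer (Perm (Fin 8)) (0 : Fin 8)).comap f
  have hT : Nat.card T ≤ 3 := by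
    have hmulle : 7 * Nat.card T ≤ Nat.card S := by
      let ψ : Fin 7 × T → S := fun p => ⟨σ ^ (p.1 : ℕ) * p.2, mul_mem (pow_mem hσS _) p.2.2.1⟩
      have hψ : Function.Injective ψ := by
        rintro ⟨a, u⟩ ⟨a', u'⟩ e
        have e' := congrArg (fun z : S => f z 0) e
        have hu : f u 0 = 0 := u.2.2
        have hu' : f u' 0 = 0 := u'.2.2
        simp only [ψ, map_mul, map_pow, hσ, Perm.mul_apply, hu, hu'] at e'
        have : ∀ a a' : Fin 7, (c0 ^ (a : ℕ)) 0 = (c0 ^ (a' : ℕ)) 0 → a = a' := by decide +kernel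
        obtain rfl := this a a' e'
        have e2 := congrArg Subtype.val e
        exact Prod.ext rfl (Subtype.ext (mul_left_cancel e2))
      have := Nat.card_le_card_of_injective ψ hψ
      rwa [Nat.card_prod, Nat.card_fin] at this
    omega
  have hzT : z ∈ T := ⟨hzS, by show f z 0 = 0; rw [hz]; decide +kernel⟩
  have hTz : T = Subgroup.zpowers z := by
    refine (Subgroup.eq_of_le_of_card_ge (Subgroup.zpowers_le.mpr hzT) ?_).symm
    rw [Nat.card_zpowers, ← orderOf_injective f hf, hz, orderOf_m0]; exact hT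
  -- an involution swapping the two points
  obtain ⟨u, hu7, hu0⟩ : ∃ u : G, f u 7 = 0 ∧ f u 0 = 7 := by
    obtain ⟨g, hg⟩ := htr 7 0
    have hg0 : f g 0 ≠ 0 := fun e => absurd ((f g).injective (e.trans hg.symm)) (by decide)
    obtain ⟨h, hh⟩ := htr 0 7
    -- move `f g 0` to `7` fixing `0`
    have hw : f h (f g 0) ≠ 7 := fun e => hg0 ((f h).injective (e.trans hh.symm))
    obtain ⟨h', hh'⟩ := htr 7 0
    obtain ⟨r, hr⟩ : ∃ r : ℕ, (c0 ^ r) (f h (f g 0)) = f h 7 := by
      have hne : f h 7 ≠ 7 := fun e => absurd ((f h).injective (e.trans hh.symm)) (by decide)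
      revert hw hne
      generalize f h (f g 0) = a; generalize f h 7 = b'
      intro ha hb'
      have : ∀ a b : Fin 8, a ≠ 7 → b ≠ 7 → ∃ r < 7, (c0 ^ r) a = b := by decide +kernel
      obtain ⟨r, -, hr⟩ := this a b' ha hb'
      exact ⟨r, hr⟩
    refine ⟨h⁻¹ * σ ^ r * h * g, ?_, ?_⟩
    · have : ∀ r : ℕ, (c0 ^ r) 7 = 7 := fun r => by
        induction r with
        | zero => rfl
        | succ r ih => rw [pow_succ', Perm.mul_apply, ih]; decide +kernel
      rw [map_mul, map_mul, map_mul, map_inv, map_pow, hσ]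
      simp only [Perm.mul_apply]
      rw [hg, hh, this r, Perm.inv_eq_iff_eq, hh]
    · rw [map_mul, map_mul, map_mul, map_inv, map_pow, hσ]
      simp only [Perm.mul_apply]
      rw [hr, Perm.inv_eq_iff_eq]
  have hu2 : u * u ∈ T := ⟨by show f (u * u) 7 = 7; rw [map_mul, Perm.mul_apply, hu7, hu0],
    by show f (u * u) 0 = 0; rw [map_mul, Perm.mul_apply, hu0, hu7]⟩
  set t := u ^ 3
  have ht7 : f t 7 = 0 ∧ f t 0 = 7 := by
    simp [t, pow_succ, map_mul, hu7, hu0]
  have ht2 : f t * f t = 1 := by
    rw [hTz] at hu2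
    obtain ⟨i, hi⟩ := Subgroup.mem_zpowers_iff.mp hu2
    have : (u * u) ^ 3 = 1 := by
      rw [← hi, ← zpow_natCast, ← zpow_mul, mul_comm, zpow_mul, zpow_natCast,
        show z ^ 3 = 1 by rw [← orderOf_m0, ← hz, orderOf_injective f hf, pow_orderOf_eq_one], one_zpow]
    rw [← map_mul, show t * t = (u * u) ^ 3 by simp only [t, pow_succ, pow_zero, one_mul, mul_assoc], this, map_one]
  have htconj : f t * m0 * f t = m0 ∨ f t * m0 * f t = m0 ^ 2 := by
    have hmem : t * z * t ∈ T := ⟨by
        show f (t * z * t) 7 = 7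
        have : m0 0 = 0 := by decide +kernel
        simp [map_mul, hz, ht7.1, ht7.2, this],
      by
        show f (t * z * t) 0 = 0
        have : m0 7 = 7 := by decide +kernel
        simp [map_mul, hz, ht7.1, ht7.2, this]⟩
    rw [hTz] at hmem
    obtain ⟨i, hi⟩ := ((isOfFinOrder_of_finite z).mem_powers_iff_mem_zpowers).mpr hmem
    have hi' := congrArg f hi
    simp only [map_pow, map_mul, hz] at hi'
    have h3 : ∀ i, m0 ^ i = m0 ^ (i % 3) := fun i => by rw [← orderOf_m0, pow_mod_orderOf]
    rw [h3] at hi'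
    rcases (show i % 3 = 0 ∨ i % 3 = 1 ∨ i % 3 = 2 by omega) with e | e | e <;> rw [e] at hi'
    · exfalso
      rw [pow_zero] at hi'
      have : m0 = 1 := by
        calc m0 = f t * (f t * m0 * f t) * f t := by
              simp only [← mul_assoc, ht2, one_mul]; rw [mul_assoc, ht2, mul_one]
          _ = 1 := by rw [← hi', mul_one, ht2]
      exact absurd this (by decide +kernel)
    · exact Or.inl (by rw [← hi', pow_one])
    · exact Or.inr hi'.symm
  have htwist : f t * m0 * f t = m0 ^ 2 := by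
    refine htconj.resolve_left fun hc => ?_
    -- otherwise the normaliser of `⟨z⟩` is abelian
    have htz : t * z = z * t := hf (by
      rw [map_mul, map_mul, hz]
      calc f t * m0 = f t * m0 * (f t * f t) := by rw [ht2, mul_one]
        _ = m0 * f t := by rw [← mul_assoc, hc])
    have hzo : orderOf z = 3 := by rw [← orderOf_injective f hf, hz, orderOf_m0]
    let Q : Sylow 3 G := Sylow.ofCard (Subgroup.zpowers z) (by
      rw [Nat.card_zpowers, hzo, hG]; decide +kernel)
    have hle : Subgroup.normalizer (Q : Set G) ≤ Subgroup.centralizer (Q : Set G) := by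
      intro g hg
      have hgz : g⁻¹ * z * g ∈ Subgroup.zpowers z :=
        (Subgroup.mem_normalizer_iff''.mp hg z).mp (Subgroup.mem_zpowers z)
      have hfixed : ∀ i, m0 i = i → f g i = 0 ∨ f g i = 7 := by
        intro i hi
        refine centralizer_m0 _ ?_
        obtain ⟨j, hj⟩ := ((isOfFinOrder_of_finite z).mem_powers_iff_mem_zpowers).mpr
          ((Subgroup.mem_normalizer_iff.mp hg z).mp (Subgroup.mem_zpowers z))
        obtain ⟨j', hj'⟩ := ((isOfFinOrder_of_finite z).mem_powers_iff_mem_zpowers).mpr hgz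
        have e : f z (f g i) = f g ((f z ^ j') i) := by
          rw [← map_pow, ← Perm.mul_apply, ← Perm.mul_apply, ← map_mul, ← map_mul]
          congr 2
          simp only at hj'
          rw [hj', ← mul_assoc, ← mul_assoc, mul_inv_cancel, one_mul]
        rw [hz] at e
        have hfix : ∀ n : ℕ, (m0 ^ n) i = i := fun n => by
          induction n with
          | zero => rfl
          | succ n ih => rw [pow_succ, Perm.mul_apply, hi, ih]
        rw [e, hfix]
      have hzc : z ∈ Subgroup.centralizer (Q : Set G) := by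
        intro x hx
        obtain ⟨j, rfl⟩ := hx
        exact ((Commute.refl z).zpow_left j).eq
      have htc : t ∈ Subgroup.centralizer (Q : Set G) := by
        intro x hx
        obtain ⟨j, rfl⟩ := hx
        exact ((show Commute z t from htz.symm).zpow_left j).eq
      have hzpc : T ≤ Subgroup.centralizer (Q : Set G) := by
        rw [hTz]; exact Subgroup.zpowers_le.mpr hzc
      have hne : f g 7 ≠ f g 0 := fun e => absurd ((f g).injective e) (by decide)
      rcases hfixed 7 (by decide +kernel) with h7 | h7 <;> rcases hfixed 0 (by decide +kernel) with h0 | h0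
      · exact absurd (h7.trans h0.symm) hne
      · have : t * g ∈ T := ⟨by show f (t * g) 7 = 7; rw [map_mul, Perm.mul_apply, h7, ht7.2],
          by show f (t * g) 0 = 0; rw [map_mul, Perm.mul_apply, h0, ht7.1]⟩
        exact (Subgroup.mul_mem_cancel_left _ htc).mp (hzpc this)
      · exact hzpc ⟨h7, h0⟩
      · exact absurd (h7.trans h0.symm) hne
    have hcardG := SmallOrder.card_eq_sylow_of_normalizer_le_centralizer Q hle (by
      show Subgroup.zpowers z ≠ ⊥
      rw [Ne, Subgroup.zpowers_eq_bot]; intro e; rw [e, orderOf_one] at hzo; omega)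
    have : Nat.card (Subgroup.zpowers z) = 168 := hG ▸ hcardG.symm
    rw [Nat.card_zpowers, hzo] at this
    omega
  have ht0 : ∃ i < 3, f t = m0 ^ i * t0 := by
    have hdet : ∀ j : Fin 8, j ≠ 0 → j ≠ 7 → ∃ s < 3, (m0 ^ s) 1 = j ∨ (m0 ^ s) 3 = j := by decide +kernel
    have h7 := ht7
    have hs := hsgn t
    generalize f t = τ at h7 hs ht2 htwist ⊢
    -- `τ` is determined by its values at `1` and `3`
    have hval : ∀ (e : ℕ), τ * m0 * τ = m0 ^ e → ∀ i s, τ ((m0 ^ s) i) = (m0 ^ (e * s)) (τ i) := by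
      intro e he i s
      have hsc : SemiconjBy τ m0 (m0 ^ e) := by
        show τ * m0 = m0 ^ e * τ
        rw [← he, mul_assoc _ τ τ, ht2, mul_one]
      rw [← Perm.mul_apply, ← Perm.mul_apply, pow_mul, (hsc.pow_right s).eq]
    obtain ⟨h7a, h7b⟩ := h7
    have hne : ∀ i : Fin 8, i ≠ 0 → i ≠ 7 → τ i ≠ 0 ∧ τ i ≠ 7 := fun i hi hi' =>
      ⟨fun e => hi' (τ.injective (e.trans h7a.symm)), fun e => hi (τ.injective (e.trans h7b.symm))⟩
    have h11 := fun j => congrArg (fun g : Perm (Fin 8) => g j) ht2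
    simp only [Perm.mul_apply, Perm.one_apply] at h11
    have hsign : ∀ a b : Fin 8, ∀ g : Perm (Fin 8),
        (∀ i : Fin 8, g i = if i = 0 then 7 else if i = 7 then 0 else
          if i = 1 then a else if i = 2 then (m0 ^ 2) a else if i = 4 then (m0 ^ 4) a else
          if i = 3 then b else if i = 6 then (m0 ^ 2) b else (m0 ^ 4) b) →
        g * g = 1 → Perm.sign g = 1 → ∃ i < 3, ∀ j, g j = (m0 ^ i * t0) j := by
      intro a b g hg hgg hgs
      have key : ∀ a b : Fin 8,
          let v : Fin 8 → Fin 8 := fun i => if i = 0 then 7 else if i = 7 then 0 else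
            if i = 1 then a else if i = 2 then (m0 ^ 2) a else if i = 4 then (m0 ^ 4) a else
            if i = 3 then b else if i = 6 then (m0 ^ 2) b else (m0 ^ 4) b
          (∀ j, v (v j) = j) → ((Finset.univ.filter fun j => v j ≠ j).card / 2 % 2 = 0) →
            ∃ i < 3, ∀ j, v j = (m0 ^ i * t0) j := by decide +kernel
      obtain ⟨i, hi, hv⟩ := key a b (fun j => by
        show _ = j
        simp only [← hg]
        exact congrArg (fun h : Perm (Fin 8) => h j) hgg) (by
        simp only [← hg]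
        rw [show (Finset.univ.filter fun j => g j ≠ j) = g.support by ext; simp]
        rw [Perm.sign_of_cycleType] at hgs
        have hall : ∀ n ∈ g.cycleType, n = 2 := fun n hn =>
          ((Nat.dvd_prime Nat.prime_two).mp ((Perm.dvd_of_mem_cycleType hn).trans
            (orderOf_dvd_of_pow_eq_one (by rw [pow_two, hgg])))).resolve_left
            (by have := Perm.two_le_of_mem_cycleType hn; omega)
        have hsum : g.cycleType.sum = 2 * g.cycleType.card := by
          conv_lhs => rw [Multiset.eq_replicate_card.mpr hall]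
          simp [mul_comm]
        rw [← Perm.sum_cycleType, hsum, Nat.mul_div_cancel_left _ (by norm_num)]
        rw [hsum, pow_add, pow_mul, neg_one_sq, one_pow, one_mul] at hgs
        exact Nat.even_iff.mp ((neg_one_pow_eq_one_iff_even (by decide)).mp hgs))
      exact ⟨i, hi, fun j => (hg j).trans (hv j)⟩
    obtain ⟨i, hi, hti⟩ := hsign (τ 1) (τ 3) τ (fun i => by
      have e1 := hval 2 htwist 1 1
      have e2 := hval 2 htwist 1 2
      have e3 := hval 2 htwist 3 1
      have e4 := hval 2 htwist 3 2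
      simp only [mul_one] at e1 e3
      fin_cases i
      · exact h7b
      · rfl
      · exact e1
      · rfl
      · exact e2
      · exact e4
      · exact e3
      · exact h7a) ht2 hs
    exact ⟨i, hi, Equiv.ext hti⟩
  -- conclusion
  obtain ⟨i, -, hti⟩ := ht0
  have hle : model ≤ f.range := by
    rw [model, Subgroup.closure_le]
    rintro g (rfl | rfl | rfl)
    · exact ⟨σ, hσ⟩
    · exact ⟨z, hz⟩
    · refine ⟨(z ^ i)⁻¹ * t, ?_⟩
      rw [map_mul, map_inv, map_pow, hz, hti, inv_mul_cancel_left]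
  have hcard : Nat.card f.range = 168 := by
    rw [← hG]; exact (Nat.card_congr (MonoidHom.ofInjective hf).toEquiv).symm
  have hmodel : model = f.range :=
    Subgroup.eq_of_le_of_card_ge hle (by rw [hcard]; exact Nat.le_of_dvd Nat.card_pos card_model_ge)
  exact ⟨(MonoidHom.ofInjective hf).trans (MulEquiv.subgroupCongr hmodel.symm)⟩

/-- Two simple groups of order 168 are isomorphic. -/
theorem nonempty_mulEquiv (hG : Nat.card G = 168) {H : Type*} [Group H] [Finite H] [IsSimpleGroup H]
    (hH : Nat.card H = 168) : Nonempty (G ≃* H) := by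
  obtain ⟨a⟩ := nonempty_mulEquiv_model hG
  obtain ⟨b⟩ := nonempty_mulEquiv_model hH
  exact ⟨a.trans b.symm⟩

end

end CfsgLib.Order168

namespace CfsgLib.Order168

theorem units_two : ∀ x : (ZMod 2)ˣ, (x : ZMod 2) = 1 := by decide

/-- `GL(3,2)` is simple of order 168. -/
theorem gl32 : IsSimpleGroup (GL (Fin 3) (ZMod 2)) ∧ Nat.card (GL (Fin 3) (ZMod 2)) = 168 := by
  haveI : Fact (Nat.Prime 2) := ⟨Nat.prime_two⟩
  have hcard : Nat.card (GL (Fin 3) (ZMod 2)) = 168 := by
    rw [Matrix.card_GL_field]; simp [Fin.prod_univ_three]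
  refine ⟨?_, hcard⟩
  haveI hs := CfsgLib.SLPerfect.isSimpleGroup (F := ZMod 2) (n := 3) le_rfl
  let S := Matrix.SpecialLinearGroup (Fin 3) (ZMod 2)
  have hZ : Subgroup.center S = ⊥ := by
    rw [← Subgroup.card_eq_one, CfsgLib.SLCard.card_SL_center (F := ZMod 2) (n := 3) (by norm_num), ZMod.card]
    norm_num
  have hu : Function.Bijective (Matrix.SpecialLinearGroup.toGL : S → GL (Fin 3) (ZMod 2)) := by
    refine ⟨Matrix.SpecialLinearGroup.toGL_injective, fun g => ⟨⟨g.1, ?_⟩, Units.ext rfl⟩⟩
    exact units_two (Matrix.GeneralLinearGroup.det g)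
  exact (((QuotientGroup.quotientMulEquivOfEq hZ).trans QuotientGroup.quotientBot).trans
    (MulEquiv.ofBijective _ hu)).symm.isSimpleGroup

end CfsgLib.Order168
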