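import Mathlib
import Cfsg.Agent.Lib.SmallOrder
import Cfsg.Agent.Lib.SylowCentral.Dihedral
import Cfsg.Agent.S0107
import Cfsg.Agent.S0991
import Cfsg.Agent.S3377

/-!
Simple groups of order 360: involution centralizers are dihedral of order eight, and there is a pair
`x³ = z² = (xz)⁵ = 1`, so a subgroup of index six.
-/

set_option autoImplicit false
set_option linter.style.haveILetI false
set_option linter.unusedSectionVars false

namespace CfsgLib.Order360

open CfsgLib.SmallOrder

universe u

variable {G : Type u} [Group G] [Finite G] [IsSimpleGroup G] (h : Nat.card G = 360)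
include h

theorem not_comm : ¬ IsMulCommutative G := fun hc => by
  letI : CommGroup G := { (inferInstance : Group G) with mul_comm := fun a b => hc.is_comm.comm a b }
  have := IsSimpleGroup.prime_card (α := G)
  rw [h] at this
  norm_num at this

theorem le_five {H : Subgroup G} (hH : H.index ≤ 5) : H = ⊤ := by
  by_contra hne
  have := (card_dvd_factorial_index hne).trans (Nat.factorial_dvd_factorial hH)
  rw [h] at this
  norm_num [Nat.factorial] at this

theorem six_iso {H : Subgroup G} (hH : H.index = 6) : Nonempty (G ≃* alternatingGroup (Fin 6)) := by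
  have hne : H ≠ ⊤ := fun e => by rw [e, Subgroup.index_top] at hH; omega
  obtain ⟨f, hf⟩ : ∃ f : G →* alternatingGroup (Fin 6), Function.Injective f :=
    hH ▸ Cfsg.Agent.S0991.result (not_comm h) H hne
  refine ⟨MulEquiv.ofBijective f ((Nat.bijective_iff_injective_and_card f).mpr ⟨hf, ?_⟩)⟩
  rw [h, nat_card_alternatingGroup, Nat.card_fin]
  rfl

theorem card_le_of_ne_top {H : Subgroup G} (hH : H ≠ ⊤) : Nat.card H ≤ 60 := by
  by_contra hle
  have h1 := H.card_mul_index
  rw [h] at h1
  refine hH (le_five h ?_)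
  by_contra h5
  have : Nat.card H * 6 ≤ Nat.card H * H.index := Nat.mul_le_mul_left _ (by omega)
  omega

theorem normalizer_ne_top {H : Subgroup G} (h1 : H ≠ ⊥) (h2 : H ≠ ⊤) : Subgroup.normalizer (H : Set G) ≠ ⊤ :=
  fun e => (Subgroup.normalizer_eq_top_iff.mp e).eq_bot_or_eq_top.elim h1 h2

theorem centralizer_ne_top {x : G} (hx : x ≠ 1) : Subgroup.centralizer ({x} : Set G) ≠ ⊤ := fun e => by
  have hz : x ∈ Subgroup.center G := Subgroup.mem_center_iff.mpr fun g =>
    (Subgroup.mem_centralizer_singleton_iff.mp (e ▸ Subgroup.mem_top g : g ∈ Subgroup.centralizer ({x} : Set G)))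
  rcases (inferInstance : (Subgroup.center G).Normal).eq_bot_or_eq_top with c | c
  · exact hx (Subgroup.mem_bot.mp (c ▸ hz))
  · exact not_comm h ⟨⟨fun a b => (Subgroup.mem_center_iff.mp (c ▸ Subgroup.mem_top b : b ∈ Subgroup.center G) a)⟩⟩

/-! ### Sylow subgroups for three -/

theorem card_three (P : Sylow 3 G) : Nat.card (P : Subgroup G) = 9 := by
  haveI := Fact.mk Nat.prime_three
  exact card_sylow_eq P (k := 2) (by rw [h]; norm_num) (by rw [h]; norm_num)

theorem comm_three (P : Sylow 3 G) : ∀ a ∈ (P : Subgroup G), ∀ b ∈ (P : Subgroup G), a * b = b * a := by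
  haveI := Fact.mk Nat.prime_three
  intro a ha b hb
  exact congrArg Subtype.val (IsPGroup.commutative_of_card_eq_prime_sq (p := 3) (by rw [card_three h P]; norm_num)
    (⟨a, ha⟩ : (P : Subgroup G)) ⟨b, hb⟩)

theorem card_syl_three : Nat.card (Sylow 3 G) = 10 := by
  haveI := Fact.mk Nat.prime_three
  obtain ⟨P⟩ : Nonempty (Sylow 3 G) := inferInstance
  have hP := card_three h P
  have hd : Nat.card (Sylow 3 G) ∈ (40 : ℕ).divisors.filter (fun d => d % 3 = 1) :=
    card_sylow_mem_filter P hP (by rw [h]) (by norm_num)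
  have h1 : Nat.card (Sylow 3 G) ≠ 1 := card_sylow_ne_one P (hP.trans_ne (by norm_num)) (by rw [h]; exact fun e => absurd (e.trans hP) (by norm_num))
  have hN := card_normalizer_mul_card_sylow P
  rw [h] at hN
  have hmem : Nat.card (Sylow 3 G) ∈ ({1, 4, 10, 40} : Finset ℕ) := by
    rwa [show (40 : ℕ).divisors.filter (fun d => d % 3 = 1) = {1, 4, 10, 40} by decide +kernel] at hd
  simp only [Finset.mem_insert, Finset.mem_singleton] at hmem
  rcases hmem with e | e | e | e
  · exact absurd e h1
  · exfalso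
    rw [e] at hN
    have := card_le_of_ne_top h (normalizer_ne_top h (H := (P : Subgroup G)) (fun b => by
      rw [b, Subgroup.card_bot] at hP; omega) (fun b => by rw [b, Subgroup.card_top, h] at hP; omega))
    change Nat.card (Subgroup.normalizer ((P : Subgroup G) : Set G)) * 4 = 360 at hN
    omega
  · exact e
  · exfalso
    rw [e] at hN
    have heq : (P : Subgroup G) = Subgroup.normalizer ((P : Subgroup G) : Set G) :=
      Subgroup.eq_of_le_of_card_ge Subgroup.le_normalizer (by
        change Nat.card (Subgroup.normalizer ((P : Subgroup G) : Set G)) * 40 = 360 at hN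
        omega)
    have := card_eq_sylow_of_normalizer_le_centralizer P (fun g hg => Subgroup.mem_centralizer_iff.mpr fun a ha =>
      comm_three h P a ha g (heq ▸ hg)) (fun b => by rw [b, Subgroup.card_bot] at hP; omega)
    rw [h] at this
    exact absurd (this.trans hP) (by norm_num)

theorem card_normalizer_three (P : Sylow 3 G) : Nat.card (Subgroup.normalizer ((P : Subgroup G) : Set G)) = 36 := by
  haveI := Fact.mk Nat.prime_three
  have hN := card_normalizer_mul_card_sylow P
  rw [h, card_syl_three h] at hN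
  change Nat.card (Subgroup.normalizer ((P : Subgroup G) : Set G)) * 10 = 360 at hN
  omega

/-! ### Sylow subgroups for five -/

omit h in
theorem five_perm (ψ : G ≃* alternatingGroup (Fin 6)) {x : G} (hx : orderOf x = 5) :
    Nat.card (Subgroup.centralizer ({x} : Set G)) = 5 := by
  let f : G →* Equiv.Perm (Fin 6) := (alternatingGroup (Fin 6)).subtype.comp ψ.toMonoidHom
  have hf : Function.Injective f := Subtype.val_injective.comp ψ.injective
  have hfx : orderOf (f x) = 5 := by rw [orderOf_injective f hf, hx]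
  obtain ⟨m, hm⟩ := Equiv.Perm.cycleType_prime_order (σ := f x) (by rw [hfx]; exact Nat.prime_five)
  rw [hfx] at hm
  have hm0 : m = 0 := by
    have h1 := Equiv.Perm.sum_cycleType (σ := f x)
    have h2 : (f x).support.card ≤ 6 := (Finset.card_le_univ _).trans_eq (Fintype.card_fin 6)
    rw [hm, Multiset.sum_replicate, smul_eq_mul] at h1
    omega
  subst hm0
  have h5 : Nat.card (Subgroup.centralizer ({f x} : Set (Equiv.Perm (Fin 6)))) = 5 := by
    rw [Equiv.Perm.nat_card_centralizer, hm]
    simp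
  have hle : (Subgroup.centralizer ({x} : Set G)).map f ≤ Subgroup.centralizer ({f x} : Set (Equiv.Perm (Fin 6))) := by
    rintro _ ⟨g, hg, rfl⟩
    rw [Subgroup.mem_centralizer_singleton_iff, ← map_mul, ← map_mul, Subgroup.mem_centralizer_singleton_iff.mp hg]
  have hd := Subgroup.card_dvd_of_le hle
  rw [Subgroup.card_map_of_injective hf, h5] at hd
  have hmem : x ∈ Subgroup.centralizer ({x} : Set G) := Subgroup.mem_centralizer_singleton_iff.mpr rfl
  exact Nat.dvd_antisymm hd (hx ▸ Subgroup.orderOf_dvd_natCard _ hmem)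

/-- The centralizer of an element of order five has order five. -/
theorem five : ∀ x : G, orderOf x = 5 → Nat.card (Subgroup.centralizer ({x} : Set G)) = 5 := by
  haveI := Fact.mk Nat.prime_five
  obtain ⟨F⟩ : Nonempty (Sylow 5 G) := inferInstance
  have hF : Nat.card F = 5 := card_sylow_eq F (k := 1) (by rw [h]; norm_num) (by rw [h]; norm_num)
  have hd : Nat.card (Sylow 5 G) ∈ (72 : ℕ).divisors.filter (fun d => d % 5 = 1) :=
    card_sylow_mem_filter F hF (by rw [h]) (by norm_num)
  rw [show (72 : ℕ).divisors.filter (fun d => d % 5 = 1) = {1, 6, 36} by decide +kernel] at hd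
  simp only [Finset.mem_insert, Finset.mem_singleton] at hd
  rcases hd with e | e | e
  · exact absurd e (card_sylow_ne_one F (hF.trans_ne (by norm_num)) (by rw [h]; exact fun e => absurd (e.trans hF) (by norm_num)))
  · obtain ⟨ψ⟩ := six_iso h (e ▸ F.card_eq_index_normalizer.symm)
    exact fun x hx => five_perm ψ hx
  · intro x hx
    obtain ⟨Q, hQ⟩ := (IsPGroup.of_card (n := 1) (by rw [Nat.card_zpowers, hx, pow_one]) : IsPGroup 5 (Subgroup.zpowers x)).exists_le_sylow
    have hQ5 : Nat.card Q = 5 := card_sylow_eq Q (k := 1) (by rw [h]; norm_num) (by rw [h]; norm_num)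
    have hQx : Subgroup.zpowers x = (Q : Subgroup G) := Subgroup.eq_of_le_of_card_ge hQ (by
      rw [Nat.card_zpowers, hx]; exact hQ5.le)
    have hN := card_normalizer_mul_card_sylow Q
    rw [h, e] at hN
    change Nat.card (Subgroup.normalizer ((Q : Subgroup G) : Set G)) * 36 = 360 at hN
    have hCN : Subgroup.centralizer ({x} : Set G) ≤ Subgroup.normalizer ((Q : Subgroup G) : Set G) := by
      rw [← hQx]
      refine le_trans ?_ (Subgroup.centralizer_le_normalizer _)
      rw [Subgroup.zpowers_eq_closure, Subgroup.centralizer_closure]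
    have hd := Subgroup.card_dvd_of_le hCN
    have hQC : (Q : Subgroup G) ≤ Subgroup.centralizer ({x} : Set G) := by
      rw [← hQx, Subgroup.zpowers_le, Subgroup.mem_centralizer_singleton_iff]
    have h5 := Subgroup.card_dvd_of_le hQC
    change Nat.card Q ∣ _ at h5
    rw [hQ5] at h5
    rw [show Nat.card (Subgroup.normalizer ((Q : Subgroup G) : Set G)) = 10 by omega] at hd
    obtain ⟨c, hc⟩ := h5
    have hle := Nat.le_of_dvd (by norm_num) hd
    rcases (show c = 1 ∨ c = 2 by have : 0 < c := Nat.pos_of_ne_zero (fun e => by rw [e] at hc; exact absurd hc Nat.card_pos.ne'); omega) with rfl | rfl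
    · exact hc
    · exfalso
      have heq : Subgroup.centralizer ({x} : Set G) = Subgroup.normalizer ((Q : Subgroup G) : Set G) :=
        Subgroup.eq_of_le_of_card_ge hCN (by omega)
      have hle' : Subgroup.normalizer ((Q : Subgroup G) : Set G) ≤ Subgroup.centralizer ((Q : Subgroup G) : Set G) := by
        rw [← heq, ← hQx, Subgroup.zpowers_eq_closure, Subgroup.centralizer_closure]
      have := card_eq_sylow_of_normalizer_le_centralizer Q hle' (fun b => by
        rw [← hQx, Subgroup.zpowers_eq_bot] at b; rw [b, orderOf_one] at hx; omega)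
      rw [h] at this
      exact absurd (this.trans hQ5) (by norm_num)

omit h in
theorem sign_act (Y : Type*) [Fintype Y] [DecidableEq Y] [MulAction G Y] (g : G) (hc : 2 < Nat.card G) :
    Equiv.Perm.sign (MulAction.toPermHom G Y g) = 1 := by
  let σ : G →* ℤˣ := (Equiv.Perm.sign).comp (MulAction.toPermHom G Y)
  rcases (inferInstance : σ.ker.Normal).eq_bot_or_eq_top with e | e
  · have := Nat.card_le_card_of_injective σ ((MonoidHom.ker_eq_bot_iff σ).mp e)
    rw [Nat.card_eq_fintype_card (α := ℤˣ), Fintype.card_units_int] at this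
    omega
  · exact MonoidHom.mem_ker.mp (e ▸ Subgroup.mem_top g : g ∈ σ.ker)

/-- Two Sylow `3`-subgroups meet trivially. -/
theorem ti_three
    {P Q : Sylow 3 G} {x : G} (hxP : x ∈ (P : Subgroup G)) (hxQ : x ∈ (Q : Subgroup G)) (hx : x ≠ 1) : P = Q := by
  haveI := Fact.mk Nat.prime_three
  haveI := Fact.mk Nat.prime_two
  by_contra hne
  have hle : ∀ R : Sylow 3 G, x ∈ (R : Subgroup G) → (R : Subgroup G) ≤ Subgroup.centralizer ({x} : Set G) :=
    fun R hR y hy => Subgroup.mem_centralizer_singleton_iff.mpr (comm_three h R y hy x hR)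
  let C := Subgroup.centralizer ({x} : Set G)
  have h9 : 9 ∣ Nat.card C := card_three h P ▸ Subgroup.card_dvd_of_le (hle P hxP)
  have hC360 : Nat.card C ∣ 360 := h ▸ C.card_subgroup_dvd_card
  have hC60 : Nat.card C ≤ 60 := card_le_of_ne_top h (centralizer_ne_top h hx)
  have hC5 : ¬ 5 ∣ Nat.card C := fun hd => by
    haveI := Fact.mk Nat.prime_five
    obtain ⟨y, hy⟩ := exists_prime_orderOf_dvd_card' 5 hd
    have hy' : orderOf (y : G) = 5 := by rw [Subgroup.orderOf_coe, hy]
    have hxy : x ∈ Subgroup.centralizer ({(y : G)} : Set G) :=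
      Subgroup.mem_centralizer_singleton_iff.mpr (Subgroup.mem_centralizer_singleton_iff.mp y.2).symm
    have hd1 := Subgroup.orderOf_dvd_natCard _ hxy
    rw [five h _ hy'] at hd1
    have hd2 : orderOf x ∣ 9 := card_three h P ▸ Subgroup.orderOf_dvd_natCard _ hxP
    exact hx (orderOf_eq_one_iff.mp (Nat.eq_one_of_dvd_coprimes (by norm_num : Nat.Coprime 5 9) hd1 hd2))
  let P' : Sylow 3 C := P.subtype (hle P hxP)
  let Q' : Sylow 3 C := Q.subtype (hle Q hxQ)
  have hPQ : P' ≠ Q' := fun e => hne (Sylow.subtype_injective e)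
  have hn1 : Nat.card (Sylow 3 C) ≠ 1 := fun e => hPQ ((Nat.card_eq_one_iff_unique.mp e).1.elim _ _)
  have hP' : Nat.card P' = 9 := card_sylow_eq P' (k := 2) h9
    (fun hd => by have := hd.trans hC360; norm_num at this)
  obtain ⟨m, hm⟩ := h9
  have hn := card_sylow_mem_filter P' hP' hm (by norm_num)
  have hm6 : m ≤ 6 := by omega
  have hm5 : ¬ 5 ∣ m := fun hd => hC5 (hm ▸ hd.mul_left 9)
  have hm4 : Nat.card C = 36 := by
    interval_cases m
    all_goals first
      | omega
      | (exfalso; revert hn1; revert hn; generalize Nat.card (Sylow 3 C) = n; intro hn; fin_cases hn <;> omega)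
      | (exfalso; exact absurd (hm ▸ hC360) (by norm_num))
  obtain ⟨R⟩ : Nonempty (Sylow 2 C) := inferInstance
  have hR : Nat.card R = 4 := card_sylow_eq R (k := 2) (by rw [hm4]; norm_num) (by rw [hm4]; norm_num)
  let xC : C := ⟨x, Subgroup.mem_centralizer_singleton_iff.mpr rfl⟩
  have hxcen : ∀ c : C, c * xC = xC * c := fun c => Subtype.ext (Subgroup.mem_centralizer_singleton_iff.mp c.2)
  have hR2 : Subgroup.normalizer ((R : Subgroup C) : Set C) = ⊤ := by
    by_contra hN
    let N := Subgroup.normalizer ((R : Subgroup C) : Set C)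
    have hxN : xC ∈ N := by
      refine Subgroup.centralizer_le_normalizer _ ?_
      rw [Subgroup.mem_centralizer_iff]
      exact fun r _ => hxcen r
    have d4 : 4 ∣ Nat.card N := hR ▸ Subgroup.card_dvd_of_le Subgroup.le_normalizer
    have d3 : 3 ∣ Nat.card N := by
      have hd2 : orderOf x ∣ 9 := card_three h P ▸ Subgroup.orderOf_dvd_natCard _ hxP
      refine dvd_trans ?_ (Subgroup.orderOf_dvd_natCard N hxN)
      rw [Subgroup.orderOf_mk]
      obtain ⟨j, hj, e⟩ := (Nat.dvd_prime_pow Nat.prime_three).mp (show orderOf x ∣ 3 ^ 2 by norm_num [hd2])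
      rcases Nat.eq_zero_or_pos j with rfl | hj0
      · exact absurd (orderOf_eq_one_iff.mp (by rw [e, pow_zero])) hx
      · exact e ▸ dvd_pow_self 3 hj0.ne'
    have d36 : Nat.card N ∣ 36 := hm4 ▸ N.card_subgroup_dvd_card
    have d12 : 12 ∣ Nat.card N := Nat.Coprime.mul_dvd_of_dvd_of_dvd (by norm_num : Nat.Coprime 4 3) d4 d3
    have hne36 : Nat.card N ≠ 36 := fun e => hN (Subgroup.eq_top_of_card_eq _ (e.trans hm4.symm))
    have h12 : Nat.card N = 12 := by
      have := Nat.le_of_dvd (by norm_num) d36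
      obtain ⟨c, hc⟩ := d12
      rw [hc] at d36 hne36 this ⊢
      have : c ≤ 3 := by omega
      interval_cases c <;> first | rfl | norm_num at d36 hne36 | omega
    have hcomm : ∀ a ∈ (R : Subgroup C), ∀ b ∈ (R : Subgroup C), a * b = b * a := fun a ha b hb =>
      congrArg Subtype.val (IsPGroup.commutative_of_card_eq_prime_sq (p := 2)
        (show Nat.card (R : Subgroup C) = 2 ^ 2 by rw [hR]; norm_num) (⟨a, ha⟩ : (R : Subgroup C)) ⟨b, hb⟩)
    have hle' : N ≤ Subgroup.centralizer ((R : Subgroup C) : Set C) := by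
      have hsup : (R : Subgroup C) ⊔ Subgroup.zpowers xC = N := by
        refine Subgroup.eq_of_le_of_card_ge (sup_le Subgroup.le_normalizer (Subgroup.zpowers_le.mpr hxN)) ?_
        rw [h12]
        refine Nat.le_of_dvd Nat.card_pos ?_
        refine Nat.Coprime.mul_dvd_of_dvd_of_dvd (by norm_num : Nat.Coprime 4 3)
          (hR ▸ Subgroup.card_dvd_of_le le_sup_left) (dvd_trans ?_ (Subgroup.card_dvd_of_le le_sup_right))
        have hd2 : orderOf x ∣ 9 := card_three h P ▸ Subgroup.orderOf_dvd_natCard _ hxP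
        rw [Nat.card_zpowers, Subgroup.orderOf_mk]
        obtain ⟨j, hj, e⟩ := (Nat.dvd_prime_pow Nat.prime_three).mp (show orderOf x ∣ 3 ^ 2 by norm_num [hd2])
        rcases Nat.eq_zero_or_pos j with rfl | hj0
        · exact absurd (orderOf_eq_one_iff.mp (by rw [e, pow_zero])) hx
        · exact e ▸ dvd_pow_self 3 hj0.ne'
      rw [← hsup, sup_le_iff]
      refine ⟨fun a ha => Subgroup.mem_centralizer_iff.mpr fun b hb => hcomm b hb a ha, ?_⟩
      rw [Subgroup.zpowers_le, Subgroup.mem_centralizer_iff]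
      exact fun r _ => hxcen r
    have hK := MonoidHom.ker_transferSylow_isComplement' R hle'
    have hK9 : Nat.card (MonoidHom.transferSylow R hle').ker = 9 := by
      have := hK.card_mul
      change _ * Nat.card R = _ at this
      rw [hR, hm4] at this
      omega
    have hKS : ∀ P'' : Sylow 3 C, (P'' : Subgroup C) = (MonoidHom.transferSylow R hle').ker := fun P'' => by
      have hP'' : Nat.card P'' = 9 := card_sylow_eq P'' (k := 2) (by rw [hm4]; norm_num) (by rw [hm4]; norm_num)
      exact (Subgroup.eq_of_le_of_card_ge ((IsPGroup.of_card (n := 2) (by rw [hK9]; norm_num) :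
        IsPGroup 3 (MonoidHom.transferSylow R hle').ker).le_sylow_of_normal P'') (by
          change Nat.card P'' ≤ _; omega)).symm
    exact hPQ (Sylow.ext ((hKS P').trans (hKS Q').symm))
  -- the centralizer normalizes a subgroup of order four
  let R₀ : Subgroup G := (R : Subgroup C).map C.subtype
  have hR₀ : Nat.card R₀ = 4 := by rw [Subgroup.card_map_of_injective C.subtype_injective]; exact hR
  have hCR : C ≤ Subgroup.normalizer (R₀ : Set G) := by
    intro c hc
    have hn' : (R : Subgroup C).Normal := Subgroup.normalizer_eq_top_iff.mp hR2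
    refine Subgroup.mem_normalizer_fintype fun r hr => ?_
    obtain ⟨r', hr', rfl⟩ := hr
    exact ⟨⟨c, hc⟩ * r' * ⟨c, hc⟩⁻¹, hn'.conj_mem r' hr' _, rfl⟩
  have h8 : 8 ∣ Nat.card (Subgroup.normalizer (R₀ : Set G)) := by
    have hp : IsPGroup 2 R₀ := IsPGroup.of_card (n := 2) (by rw [hR₀]; norm_num)
    obtain ⟨S, hS⟩ := hp.exists_le_sylow
    have hS8 : Nat.card S = 8 := card_sylow_eq S (k := 3) (by rw [h]; norm_num) (by rw [h]; norm_num)
    refine hS8 ▸ Subgroup.card_dvd_of_le (fun s hs => Subgroup.mem_normalizer_fintype fun r hr => ?_)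
    have hidx : (R₀.subgroupOf (S : Subgroup G)).index = 2 := by
      have h1 := (R₀.subgroupOf (S : Subgroup G)).card_mul_index
      rw [Nat.card_congr (Subgroup.subgroupOfEquivOfLe hS).toEquiv, hR₀] at h1
      change 4 * _ = Nat.card S at h1
      omega
    exact (Subgroup.normal_of_index_eq_two hidx).conj_mem ⟨r, hS hr⟩ hr ⟨s, hs⟩
  have h72 : 72 ∣ Nat.card (Subgroup.normalizer (R₀ : Set G)) :=
    Nat.Coprime.mul_dvd_of_dvd_of_dvd (by norm_num : Nat.Coprime 8 9) h8
      ((card_three h P ▸ Subgroup.card_dvd_of_le (hle P hxP)).trans (Subgroup.card_dvd_of_le hCR))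
  have := card_le_of_ne_top h (normalizer_ne_top h (H := R₀) (fun b => by rw [b, Subgroup.card_bot] at hR₀; omega)
    (fun b => by rw [b, Subgroup.card_top, h] at hR₀; omega))
  have := Nat.le_of_dvd Nat.card_pos h72
  omega

/-- An involution normalizing a Sylow `3`-subgroup inverts it and fixes exactly two Sylow `3`-subgroups. -/
theorem inverts
    {P : Sylow 3 G} {s : G} (hs : orderOf s = 2) (hsP : s • P = P) :
    (∀ x ∈ (P : Subgroup G), s * x * s⁻¹ = x⁻¹) ∧ Nat.card {Q : Sylow 3 G // s • Q = Q} = 2 := by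
  classical
  haveI := Fact.mk Nat.prime_three
  haveI := Fintype.ofFinite (Sylow 3 G)
  have hs2 : s * s = 1 := by rw [← pow_two, ← hs, pow_orderOf_eq_one]
  let τ : Equiv.Perm (Sylow 3 G) := MulAction.toPermHom G (Sylow 3 G) s
  have hτ : ∀ Q, τ Q = s • Q := fun Q => rfl
  have hkerφ : ∀ g : G, (∀ Q : Sylow 3 G, g • Q = Q) → g = 1 := by
    intro g hg
    rcases (inferInstance : (MulAction.toPermHom G (Sylow 3 G)).ker.Normal).eq_bot_or_eq_top with e | e
    · exact Subgroup.mem_bot.mp (e ▸ (MonoidHom.mem_ker.mpr (Equiv.ext hg) : g ∈ _))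
    · exfalso
      have : Subsingleton (Sylow 3 G) := ⟨fun a b => by
        obtain ⟨k, rfl⟩ := MulAction.exists_smul_eq G a b
        have hk : MulAction.toPermHom G (Sylow 3 G) k = 1 := MonoidHom.mem_ker.mp (e ▸ Subgroup.mem_top k)
        exact (Equiv.Perm.ext_iff.mp hk a).symm⟩
      have h1 := card_syl_three h
      rw [Nat.card_eq_one_iff_unique.mpr ⟨this, inferInstance⟩] at h1
      omega
  have hsq : τ ^ 2 = 1 := by rw [← map_pow, pow_two, hs2, map_one]
  have hτ1 : τ ≠ 1 := fun e => by
    rw [hkerφ s (fun Q => Equiv.ext_iff.mp e Q), orderOf_one] at hs; omega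
  -- parity
  have hpar : τ.support.card % 4 = 0 := by
    have hord : orderOf τ = 2 := orderOf_eq_prime hsq hτ1
    obtain ⟨m, hm⟩ := Equiv.Perm.cycleType_prime_order (σ := τ) (by rw [hord]; exact Nat.prime_two)
    rw [hord] at hm
    have h1 : Equiv.Perm.sign τ = 1 := sign_act (Sylow 3 G) s (by rw [h]; norm_num)
    rw [Equiv.Perm.sign_of_cycleType, hm] at h1
    rw [← Equiv.Perm.sum_cycleType, hm]
    simp only [Multiset.sum_replicate, Multiset.card_replicate, smul_eq_mul] at h1 ⊢
    rcases Nat.even_or_odd (m + 1) with he | ho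
    · obtain ⟨j, hj⟩ := he; omega
    · exfalso
      have : ((-1 : ℤˣ)) ^ ((m + 1) * 2 + (m + 1)) = -1 := Odd.neg_one_pow (by
        obtain ⟨j, hj⟩ := ho; exact ⟨3 * j + 1, by omega⟩)
      rw [this] at h1
      exact absurd h1 (by decide)
  have hsupp : τ.support.card + Nat.card {Q : Sylow 3 G // s • Q = Q} = 10 := by
    rw [← card_syl_three h, Nat.card_eq_fintype_card (α := Sylow 3 G), Nat.card_eq_fintype_card,
      Fintype.card_subtype, ← Finset.card_univ, ← Finset.card_filter_add_card_filter_not (s := Finset.univ) (fun Q => s • Q = Q)]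
    rw [add_comm]
    congr 2
  -- the regular orbit
  obtain ⟨Q₀, hQ₀, hsQ₀⟩ : ∃ Q₀ : Sylow 3 G, Q₀ ≠ P ∧ s • Q₀ = Q₀ := by
    by_contra hno
    push Not at hno
    have : Nat.card {Q : Sylow 3 G // s • Q = Q} = 1 := Nat.card_eq_one_iff_unique.mpr
      ⟨⟨fun a b => Subtype.ext ((not_imp_not.mp (hno a) a.2).trans (not_imp_not.mp (hno b) b.2).symm)⟩, ⟨⟨P, hsP⟩⟩⟩
    omega
  have hsnorm : ∀ x ∈ (P : Subgroup G), s * x * s⁻¹ ∈ (P : Subgroup G) := fun x hx =>
    (Subgroup.mem_normalizer_iff.mp (Sylow.smul_eq_iff_mem_normalizer.mp hsP) x).mp hx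
  have hfixP : ∀ x ∈ (P : Subgroup G), x • P = P := fun x hx =>
    Sylow.smul_eq_iff_mem_normalizer.mpr (Subgroup.le_normalizer hx)
  have hfree : ∀ x ∈ (P : Subgroup G), x • Q₀ = Q₀ → x = 1 := fun x hx hxQ => by
    by_contra hx1
    refine hQ₀ (ti_three h (P := P) hx ?_ hx1).symm
    have hxN := Sylow.smul_eq_iff_mem_normalizer.mp hxQ
    have hp : IsPGroup 3 (Subgroup.zpowers x) := P.2.to_le (Subgroup.zpowers_le.mpr hx)
    have hsup := (hp.to_sup_of_normal_right' Q₀.2 (Subgroup.zpowers_le.mpr hxN))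
    exact Q₀.3 hsup le_sup_right ▸ Subgroup.mem_sup_left (Subgroup.mem_zpowers x)
  let β : Option (P : Subgroup G) → Sylow 3 G := fun o => o.elim P fun x => (x : G) • Q₀
  have hβ : Function.Bijective β := by
    refine (Nat.bijective_iff_injective_and_card β).mpr ⟨?_, ?_⟩
    · rintro (_ | a) (_ | b) e
      · rfl
      · exfalso; refine hQ₀ ?_
        simp only [β, Option.elim] at e
        rw [← inv_smul_smul (b : G) Q₀, ← e]; exact hfixP _ (inv_mem b.2)
      · exfalso; refine hQ₀ ?_
        simp only [β, Option.elim] at e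
        rw [← inv_smul_smul (a : G) Q₀, e]; exact hfixP _ (inv_mem a.2)
      · simp only [β, Option.elim] at e
        refine congrArg some (Subtype.ext ?_)
        have := hfree ((b : G)⁻¹ * a) (mul_mem (inv_mem b.2) a.2) (by rw [mul_smul, e, inv_smul_smul])
        exact (inv_mul_eq_one.mp this).symm
    · rw [Finite.card_option, card_syl_three h]
      exact congrArg (· + 1) (card_three h P)
  have hmove : ∀ x : (P : Subgroup G), s • ((x : G) • Q₀) = (x : G) • Q₀ ↔ s * x * s⁻¹ = x := fun x => by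
    have e0 : s • ((x : G) • Q₀) = (s * x * s⁻¹) • Q₀ := by
      rw [mul_smul, mul_smul, inv_smul_eq_iff.mpr hsQ₀.symm]
    rw [e0]
    refine ⟨fun e => ?_, fun e => by rw [e]⟩
    have := hfree ((x : G)⁻¹ * (s * x * s⁻¹)) (mul_mem (inv_mem x.2) (hsnorm _ x.2)) (by rw [mul_smul, e, inv_smul_smul])
    exact (inv_mul_eq_one.mp this).symm
  let K : Subgroup G := (P : Subgroup G) ⊓ Subgroup.centralizer ({s} : Set G)
  have hK : ∀ x : G, x ∈ K ↔ x ∈ (P : Subgroup G) ∧ s * x * s⁻¹ = x := fun x => by
    simp only [K, Subgroup.mem_inf, Subgroup.mem_centralizer_singleton_iff]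
    exact and_congr_right fun _ => ⟨fun e => by rw [← e, mul_inv_cancel_right], fun e => (mul_inv_eq_iff_eq_mul.mp e).symm⟩
  have hfixK : Nat.card {Q : Sylow 3 G // s • Q = Q} = Nat.card K + 1 := by
    rw [← Finite.card_option]
    refine (Nat.card_eq_of_bijective
      (fun o : Option K => o.elim (⟨P, hsP⟩ : {Q : Sylow 3 G // s • Q = Q}) fun x =>
        ⟨(x : G) • Q₀, (hmove ⟨x, ((hK x).mp x.2).1⟩).mpr ((hK x).mp x.2).2⟩) ⟨?_, ?_⟩).symm
    · rintro (_ | a) (_ | b) e
      · rfl
      · exact absurd (hβ.1 (a₁ := none) (a₂ := some ⟨b, ((hK b).mp b.2).1⟩) (congrArg Subtype.val e)) (by simp)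
      · exact absurd (hβ.1 (a₁ := some ⟨a, ((hK a).mp a.2).1⟩) (a₂ := none) (congrArg Subtype.val e)) (by simp)
      · have := hβ.1 (a₁ := some ⟨a, ((hK a).mp a.2).1⟩) (a₂ := some ⟨b, ((hK b).mp b.2).1⟩) (congrArg Subtype.val e)
        have h' := congrArg Subtype.val (Option.some.inj this)
        exact congrArg some (Subtype.ext h')
    · rintro ⟨Q, hQ⟩
      obtain ⟨o, rfl⟩ := hβ.2 Q
      cases o with
      | none => exact ⟨none, rfl⟩
      | some x => exact ⟨some ⟨x, (hK x).mpr ⟨x.2, (hmove x).mp hQ⟩⟩, rfl⟩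
  have hKd : Nat.card K ∣ 9 := card_three h P ▸ Subgroup.card_dvd_of_le inf_le_left
  have hK9 : Nat.card K ≠ 9 := fun e => by
    rw [e] at hfixK
    have h0 : τ.support.card = 0 := by omega
    exact hτ1 (Equiv.Perm.card_support_eq_zero.mp h0)
  have hK1 : Nat.card K = 1 := by
    have : Nat.card K ∈ Nat.divisors 9 := Nat.mem_divisors.mpr ⟨hKd, by norm_num⟩
    rw [show Nat.divisors 9 = {1, 3, 9} by decide] at this
    simp only [Finset.mem_insert, Finset.mem_singleton] at this
    rcases this with e | e | e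
    · exact e
    · omega
    · exact absurd e hK9
  refine ⟨fun x hx => ?_, by omega⟩
  have hmem : x * (s * x * s⁻¹) ∈ K := (hK _).mpr ⟨mul_mem hx (hsnorm x hx), by
    calc s * (x * (s * x * s⁻¹)) * s⁻¹ = (s * x * s⁻¹) * ((s * s) * x * (s * s)⁻¹) := by group
      _ = x * (s * x * s⁻¹) := by rw [hs2, one_mul, inv_one, mul_one]; exact (comm_three h P x hx _ (hsnorm x hx)).symm⟩
  haveI := (Nat.card_eq_one_iff_unique.mp hK1).1
  have h1 : x * (s * x * s⁻¹) = 1 := congrArg Subtype.val (Subsingleton.elim (⟨_, hmem⟩ : K) 1)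
  exact eq_inv_of_mul_eq_one_right h1

omit h in
theorem ord_comm (a b : G) : orderOf (a * b) = orderOf (b * a) := by
  rw [show b * a = MulAut.conj b (a * b) by rw [MulAut.conj_apply]; group, MulEquiv.orderOf_eq]

theorem mem_sylow_three {x : G} (hx : orderOf x = 3) : ∃ P : Sylow 3 G, x ∈ (P : Subgroup G) := by
  haveI := Fact.mk Nat.prime_three
  obtain ⟨P, hP⟩ := (IsPGroup.of_card (n := 1) (by rw [Nat.card_zpowers, hx, pow_one]) :
    IsPGroup 3 (Subgroup.zpowers x)).exists_le_sylow
  exact ⟨P, hP (Subgroup.mem_zpowers x)⟩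

theorem centralizer_three {P : Sylow 3 G} {x : G} (hxP : x ∈ (P : Subgroup G)) (hx : x ≠ 1) :
    Subgroup.centralizer ({x} : Set G) = (P : Subgroup G) := by
  haveI := Fact.mk Nat.prime_three
  haveI := Fact.mk Nat.prime_two
  let C := Subgroup.centralizer ({x} : Set G)
  have hPC : (P : Subgroup G) ≤ C := fun y hy =>
    Subgroup.mem_centralizer_singleton_iff.mpr (comm_three h P y hy x hxP)
  have hfix : ∀ y ∈ C, y • P = P := fun y hy => ti_three h (x := x) (by
    rw [Sylow.coe_subgroup_smul, Subgroup.mem_pointwise_smul_iff_inv_smul_mem, ← map_inv, MulAut.smul_def,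
      MulAut.conj_apply, inv_inv, mul_assoc, ← Subgroup.mem_centralizer_singleton_iff.mp hy, inv_mul_cancel_left]
    exact hxP) hxP hx
  have hCN : C ≤ Subgroup.normalizer ((P : Subgroup G) : Set G) := fun y hy =>
    Sylow.smul_eq_iff_mem_normalizer.mp (hfix y hy)
  have hd := Subgroup.card_dvd_of_le hCN
  rw [card_normalizer_three h P] at hd
  have h2 : ¬ 2 ∣ Nat.card C := fun h2 => by
    obtain ⟨y, hy⟩ := exists_prime_orderOf_dvd_card' 2 h2
    have e := (inverts h (s := (y : G)) (by rw [Subgroup.orderOf_coe, hy]) (hfix y y.2)).1 x hxP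
    rw [Subgroup.mem_centralizer_singleton_iff.mp y.2, mul_inv_cancel_right] at e
    have hsq : x ^ 2 = 1 := by rw [sq]; nth_rw 2 [e]; exact mul_inv_cancel x
    exact hx (orderOf_eq_one_iff.mp (Nat.eq_one_of_dvd_coprimes (by norm_num : Nat.Coprime 2 9)
      (orderOf_dvd_of_pow_eq_one hsq) (card_three h P ▸ Subgroup.orderOf_dvd_natCard _ hxP)))
  have h9 : Nat.card C ∣ 9 := by
    have hc : Nat.Coprime (Nat.card C) 4 :=
      Nat.Coprime.pow_right 2 ((Nat.prime_two.coprime_iff_not_dvd.mpr h2).symm)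
    exact hc.dvd_of_dvd_mul_left (show Nat.card C ∣ 4 * 9 from hd)
  exact (Subgroup.eq_of_le_of_card_ge hPC (by
    change _ ≤ Nat.card P
    rw [card_three h P]; exact Nat.le_of_dvd (by norm_num) h9)).symm

theorem not_nine (x : G) : orderOf x ≠ 9 := fun hx => by
  haveI := Fact.mk Nat.prime_three
  obtain ⟨P, hP⟩ := (IsPGroup.of_card (n := 2) (by rw [Nat.card_zpowers, hx]; norm_num) :
    IsPGroup 3 (Subgroup.zpowers x)).exists_le_sylow
  have hzP : Subgroup.zpowers x = (P : Subgroup G) := Subgroup.eq_of_le_of_card_ge hP (by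
    change Nat.card P ≤ _
    rw [card_three h P, Nat.card_zpowers, hx])
  haveI : IsCyclic (P : Subgroup G) := hzP ▸ inferInstance
  have hC : Subgroup.centralizer ((P : Subgroup G) : Set G) = (P : Subgroup G) := by
    refine le_antisymm ?_ fun y hy => Subgroup.mem_centralizer_iff.mpr fun a ha => comm_three h P a ha y hy
    have hx1 : x ≠ 1 := fun e => by rw [e, orderOf_one] at hx; omega
    refine le_trans (Subgroup.centralizer_le ?_) (centralizer_three h (hP (Subgroup.mem_zpowers x)) hx1).le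
    exact Set.singleton_subset_iff.mpr (hP (Subgroup.mem_zpowers x))
  have key := Subgroup.card_dvd_of_injective _ (QuotientGroup.kerLift_injective (P : Subgroup G).normalizerMonoidHom)
  rw [Subgroup.normalizerMonoidHom_ker, ← Subgroup.index, (inferInstance : IsCyclic (P : Subgroup G)).card_mulAut,
    card_three h P, show Nat.totient 9 = 6 by decide] at key
  have hm := ((Subgroup.centralizer ((P : Subgroup G) : Set G)).subgroupOf
    (Subgroup.normalizer ((P : Subgroup G) : Set G))).card_mul_index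
  rw [Nat.card_congr (Subgroup.subgroupOfEquivOfLe (Subgroup.centralizer_le_normalizer _)).toEquiv, hC,
    card_three h P, card_normalizer_three h P] at hm
  rw [hC] at key
  rw [show ((P : Subgroup G).subgroupOf (Subgroup.normalizer ((P : Subgroup G) : Set G))).index = 4 by omega] at key
  norm_num at key

theorem orderOf_three {P : Sylow 3 G} {x : G} (hxP : x ∈ (P : Subgroup G)) (hx : x ≠ 1) : orderOf x = 3 := by
  have hd : orderOf x ∈ Nat.divisors 9 :=
    Nat.mem_divisors.mpr ⟨card_three h P ▸ Subgroup.orderOf_dvd_natCard _ hxP, by norm_num⟩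
  rw [show Nat.divisors 9 = {1, 3, 9} by decide] at hd
  simp only [Finset.mem_insert, Finset.mem_singleton] at hd
  rcases hd with e | e | e
  · exact absurd (orderOf_eq_one_iff.mp e) hx
  · exact e
  · exact absurd e (not_nine h x)

theorem dvd_three_of_comm {x g : G} (hx : orderOf x = 3) (hg : g * x = x * g) : orderOf g ∣ 3 := by
  obtain ⟨P, hP⟩ := mem_sylow_three h hx
  have hx1 : x ≠ 1 := fun e => by rw [e, orderOf_one] at hx; omega
  have hgP : g ∈ (P : Subgroup G) := centralizer_three h hP hx1 ▸ Subgroup.mem_centralizer_singleton_iff.mpr hg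
  by_cases hg1 : g = 1
  · rw [hg1, orderOf_one]; norm_num
  · rw [orderOf_three h hgP hg1]

theorem card_centralizer_inv {t : G} (ht : orderOf t = 2) : Nat.card (Subgroup.centralizer ({t} : Set G)) ∣ 8 := by
  let C := Subgroup.centralizer ({t} : Set G)
  have h3 : ¬ 3 ∣ Nat.card C := fun hd => by
    haveI := Fact.mk Nat.prime_three
    obtain ⟨y, hy⟩ := exists_prime_orderOf_dvd_card' 3 hd
    have := dvd_three_of_comm h (x := (y : G)) (g := t) (by rw [Subgroup.orderOf_coe, hy])
      (Subgroup.mem_centralizer_singleton_iff.mp y.2).symm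
    rw [ht] at this
    norm_num at this
  have h5 : ¬ 5 ∣ Nat.card C := fun hd => by
    haveI := Fact.mk Nat.prime_five
    obtain ⟨y, hy⟩ := exists_prime_orderOf_dvd_card' 5 hd
    have := Subgroup.orderOf_dvd_natCard (Subgroup.centralizer ({(y : G)} : Set G)) (x := t)
      (Subgroup.mem_centralizer_singleton_iff.mpr (Subgroup.mem_centralizer_singleton_iff.mp y.2).symm)
    rw [five h _ (by rw [Subgroup.orderOf_coe, hy]), ht] at this
    norm_num at this
  have hd : Nat.card C ∣ 8 * (3 * 3 * 5) := (h.trans (by norm_num : 360 = 8 * (3 * 3 * 5))) ▸ C.card_subgroup_dvd_card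
  refine Nat.Coprime.dvd_of_dvd_mul_right ?_ hd
  have c3 := (Nat.prime_three.coprime_iff_not_dvd.mpr h3).symm
  exact (c3.mul_right c3).mul_right (Nat.prime_five.coprime_iff_not_dvd.mpr h5).symm

omit h in
theorem sq_center {Q : Type*} [Group Q] [Finite Q] (hQ : Nat.card Q = 8) (hna : ∃ a b : Q, a * b ≠ b * a) {z : Q}
    (hz2 : z * z = 1) (hz1 : z ≠ 1) (hzc : ∀ a, a * z = z * a) : ∀ x : Q, x * x = 1 ∨ x * x = z := by
  haveI := Fact.mk Nat.prime_two
  intro x
  obtain ⟨a, b, hab⟩ := hna
  obtain ⟨j, hj, hjx⟩ := (Nat.dvd_prime_pow Nat.prime_two).mp (show orderOf x ∣ 2 ^ 3 from (hQ ▸ orderOf_dvd_natCard x : orderOf x ∣ 8))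
  have htop : orderOf x = 8 → False := fun e => hab (by
    have ht : Subgroup.zpowers x = ⊤ := Subgroup.eq_top_of_card_eq _ (by rw [Nat.card_zpowers, e, hQ])
    obtain ⟨m, hm⟩ := Subgroup.mem_zpowers_iff.mp (ht ▸ Subgroup.mem_top a : a ∈ Subgroup.zpowers x)
    obtain ⟨n, hn⟩ := Subgroup.mem_zpowers_iff.mp (ht ▸ Subgroup.mem_top b : b ∈ Subgroup.zpowers x)
    rw [← hm, ← hn, ← zpow_add, ← zpow_add, add_comm])
  interval_cases j
  · left; rw [orderOf_eq_one_iff.mp (hjx.trans (pow_zero 2)), one_mul]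
  · left; rw [← sq, ← pow_one 2, ← hjx, pow_orderOf_eq_one]
  · right
    norm_num at hjx
    have hidx : (Subgroup.zpowers x).index = 2 := by
      have := (Subgroup.zpowers x).card_mul_index
      rw [Nat.card_zpowers, hjx, hQ] at this
      omega
    by_cases hzx : z ∈ Subgroup.zpowers x
    · obtain ⟨k, hk, rfl⟩ : ∃ k < 4, x ^ k = z := by
        classical
        obtain ⟨k, hk, e⟩ := Finset.mem_image.mp (mem_zpowers_iff_mem_range_orderOf.mp hzx)
        exact ⟨k, hjx ▸ Finset.mem_range.mp hk, e⟩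
      have h4 : 4 ∣ k + k := hjx ▸ orderOf_dvd_of_pow_eq_one (by rw [pow_add, hz2])
      interval_cases k
      · exact absurd (pow_zero x) hz1
      · omega
      · rw [pow_two]
      · omega
    · exfalso
      have hdec : ∀ g : Q, g ∈ Subgroup.zpowers x ∨ g * z ∈ Subgroup.zpowers x := fun g =>
        or_iff_not_imp_left.mpr fun hg => (Subgroup.mul_mem_iff_of_index_two hidx).mpr (iff_of_false hg hzx)
      have hx' : ∀ g : Q, Commute g x := fun g => by
        rcases hdec g with e | e <;> obtain ⟨m, hm⟩ := Subgroup.mem_zpowers_iff.mp e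
        · exact hm ▸ (Commute.refl x).zpow_left m
        · have : g = x ^ m * z := by rw [hm, mul_assoc, hz2, mul_one]
          rw [this]
          exact Commute.mul_left ((Commute.refl x).zpow_left m) (hzc x).symm
      apply hab
      change Commute a b
      rcases hdec a with e | e <;> obtain ⟨m, hm⟩ := Subgroup.mem_zpowers_iff.mp e
      · exact hm ▸ ((hx' b).zpow_right m).symm
      · have : a = x ^ m * z := by rw [hm, mul_assoc, hz2, mul_one]
        rw [this]
        exact Commute.mul_left ((hx' b).zpow_right m).symm (hzc b).symm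
  · exact (htop (hjx.trans (by norm_num))).elim

omit h in
theorem pResidual_two (hodd : ∃ g : G, g ≠ 1 ∧ Nat.Coprime (orderOf g) 2) : Cfsg.pResidual 2 G = ⊤ := by
  have hn : (Cfsg.pResidual 2 G).Normal := ⟨fun x hx g => by
    have : (Cfsg.pResidual 2 G).map (MulAut.conj g).toMonoidHom ≤ Cfsg.pResidual 2 G := by
      rw [Cfsg.pResidual, MonoidHom.map_closure]
      refine (Subgroup.closure_le _).mpr ?_
      rintro _ ⟨y, hy, rfl⟩
      refine Subgroup.subset_closure ?_
      change Nat.Coprime (orderOf (MulAut.conj g y)) 2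
      rw [MulEquiv.orderOf_eq]
      exact hy
    exact this ⟨x, hx, rfl⟩⟩
  obtain ⟨g, hg1, hg⟩ := hodd
  refine hn.eq_bot_or_eq_top.resolve_left fun e => hg1 (Subgroup.mem_bot.mp ?_)
  rw [← e]
  exact Subgroup.subset_closure hg

/-- Every involution centralizer is dihedral of order eight. -/
theorem centralizer_dihedral {t : G} (ht : orderOf t = 2) :
    Nonempty (Subgroup.centralizer ({t} : Set G) ≃* DihedralGroup 4) := by
  classical
  haveI := Fact.mk Nat.prime_two
  haveI := Fact.mk Nat.prime_three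
  obtain ⟨S⟩ : Nonempty (Sylow 2 G) := inferInstance
  have hS : Nat.card (S : Subgroup G) = 8 := card_sylow_eq S (k := 3) (by rw [h]; norm_num) (by rw [h]; norm_num)
  haveI : Nontrivial (S : Subgroup G) := Finite.one_lt_card_iff_nontrivial.mp (by rw [hS]; norm_num)
  haveI := S.isPGroup'.center_nontrivial
  have h2 : 2 ∣ Nat.card (Subgroup.center (S : Subgroup G)) := by
    obtain ⟨n, hn⟩ := (S.isPGroup'.to_subgroup (Subgroup.center (S : Subgroup G))).exists_card_eq
    rw [hn]
    rcases Nat.eq_zero_or_pos n with rfl | h0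
    · have := Finite.one_lt_card (α := Subgroup.center (S : Subgroup G))
      rw [hn] at this
      norm_num at this
    · exact dvd_pow_self 2 h0.ne'
  obtain ⟨⟨⟨z, hzS⟩, hzc⟩, hz'⟩ := exists_prime_orderOf_dvd_card' 2 h2
  have hz : orderOf z = 2 := by rw [← hz', Subgroup.orderOf_mk, Subgroup.orderOf_mk]
  have hzc' : ∀ a : (S : Subgroup G), a * ⟨z, hzS⟩ = ⟨z, hzS⟩ * a := Subgroup.mem_center_iff.mp hzc
  have hCS : (S : Subgroup G) = Subgroup.centralizer ({z} : Set G) :=
    Subgroup.eq_of_le_of_card_ge (fun a ha => Subgroup.mem_centralizer_singleton_iff.mpr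
        (congrArg Subtype.val (hzc' ⟨a, ha⟩))) (by
      rw [hS]; exact Nat.le_of_dvd (by norm_num) (card_centralizer_inv h hz))
  have hna : ∃ a b : (S : Subgroup G), a * b ≠ b * a := by
    by_contra hab
    push Not at hab
    have hSC : (S : Subgroup G) ≤ Subgroup.centralizer ((S : Subgroup G) : Set G) := fun a ha =>
      Subgroup.mem_centralizer_iff.mpr fun b hb => congrArg Subtype.val (hab ⟨b, hb⟩ ⟨a, ha⟩)
    suffices hN : Subgroup.normalizer ((S : Subgroup G) : Set G) = (S : Subgroup G) by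
      have := card_eq_sylow_of_normalizer_le_centralizer S (hN.le.trans hSC) (fun b => by
        rw [b, Subgroup.card_bot] at hS; omega)
      rw [h] at this
      exact absurd (this.trans hS) (by norm_num)
    set N := Subgroup.normalizer ((S : Subgroup G) : Set G) with hNdef
    by_contra hne
    have hd8 : 8 ∣ Nat.card N := hS ▸ Subgroup.card_dvd_of_le Subgroup.le_normalizer
    have hd : Nat.card N ∣ 360 := h ▸ N.card_subgroup_dvd_card
    obtain ⟨c, hc⟩ := hd8
    have hc1 : c ≠ 1 := fun e => hne (Subgroup.eq_of_le_of_card_ge Subgroup.le_normalizer (by rw [hS, hc, e])).symm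
    have hc45 : c ∣ 45 := Nat.dvd_of_mul_dvd_mul_left (show 0 < 8 by norm_num) (hc ▸ hd)
    obtain ⟨q, hq, hqc⟩ := Nat.exists_prime_and_dvd hc1
    haveI := Fact.mk hq
    obtain ⟨g, hg⟩ := exists_prime_orderOf_dvd_card' q (show q ∣ Nat.card N by rw [hc]; exact hqc.mul_left 8)
    have hq35 : q = 3 ∨ q = 5 := by
      rcases (Nat.Prime.dvd_mul hq).mp (show q ∣ 9 * 5 from hqc.trans hc45) with e | e
      · exact Or.inl ((Nat.prime_dvd_prime_iff_eq hq Nat.prime_three).mp (hq.dvd_of_dvd_pow (show q ∣ 3 ^ 2 from e)))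
      · exact Or.inr ((Nat.prime_dvd_prime_iff_eq hq Nat.prime_five).mp e)
    let σ : Equiv.Perm (S : Subgroup G) := ((S : Subgroup G).normalizerMonoidHom g).toEquiv
    have hσv : ∀ a : (S : Subgroup G), ((σ a : (S : Subgroup G)) : G) = (g : G) * a * (g : G)⁻¹ := fun a => rfl
    have hσq : σ ^ q = 1 := by
      have e : ((S : Subgroup G).normalizerMonoidHom g) ^ q = 1 := by rw [← map_pow, ← hg, pow_orderOf_eq_one, map_one]
      have e2 := congrArg (MulAut.toPerm (S : Subgroup G)) e
      rw [map_pow, map_one] at e2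
      exact e2
    have hfix : ∀ a : (S : Subgroup G), σ a = a → a = 1 := fun a ha => by
      by_contra ha1
      have hcm : (g : G) * a = a * g := mul_inv_eq_iff_eq_mul.mp ((hσv a).symm.trans (congrArg Subtype.val ha))
      have hgq : orderOf (g : G) = q := by rw [Subgroup.orderOf_coe, hg]
      have ha8 : orderOf (a : G) ∣ 8 := hS ▸ Subgroup.orderOf_dvd_natCard _ a.2
      refine ha1 (Subtype.ext (orderOf_eq_one_iff.mp ?_))
      rcases hq35 with rfl | rfl
      · exact Nat.eq_one_of_dvd_coprimes (by norm_num : Nat.Coprime 3 8) (dvd_three_of_comm h hgq hcm.symm) ha8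
      · refine Nat.eq_one_of_dvd_coprimes (by norm_num : Nat.Coprime 5 8) ?_ ha8
        rw [← five h _ hgq]
        exact Subgroup.orderOf_dvd_natCard _ (Subgroup.mem_centralizer_singleton_iff.mpr hcm.symm)
    haveI := Fintype.ofFinite (S : Subgroup G)
    have hsupp : σ.support = (Finset.univ : Finset (S : Subgroup G)).erase 1 := by
      ext a
      simp only [Equiv.Perm.mem_support, Finset.mem_erase, Finset.mem_univ, and_true]
      refine ⟨fun ha e => ha ?_, fun ha e => ha (hfix a e)⟩
      rw [e]; exact map_one ((S : Subgroup G).normalizerMonoidHom g)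
    have hcard : σ.support.card = 7 := by
      rw [hsupp, Finset.card_erase_of_mem (Finset.mem_univ _), Finset.card_univ, ← Nat.card_eq_fintype_card, hS]
    have hσ1 : σ ≠ 1 := fun e => by rw [e, Equiv.Perm.support_one, Finset.card_empty] at hcard; omega
    obtain ⟨m, hm⟩ := Equiv.Perm.cycleType_prime_order (σ := σ) (by rw [orderOf_eq_prime hσq hσ1]; exact hq)
    rw [orderOf_eq_prime hσq hσ1] at hm
    have := Equiv.Perm.sum_cycleType (σ := σ)
    rw [hm, Multiset.sum_replicate, smul_eq_mul, hcard] at this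
    rcases hq35 with rfl | rfl <;> omega
  have hz1 : z ≠ 1 := fun e => by rw [e, orderOf_one] at hz; omega
  have hz2 : z * z = 1 := by rw [← pow_two, ← hz, pow_orderOf_eq_one]
  have hsqS := sq_center (Q := (S : Subgroup G)) hS hna (z := ⟨z, hzS⟩) (Subtype.ext hz2)
    (fun e => hz1 (congrArg Subtype.val e)) hzc'
  have hctx : CfsgSylowCentral.Ctx (S : Subgroup G) z :=
    { mem := fun x => by rw [hCS, Subgroup.mem_centralizer_singleton_iff]
      z2 := hz2
      z1 := hz1
      pg := S.isPGroup'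
      sq := fun x hx => (hsqS ⟨x, hx⟩).imp (congrArg Subtype.val) (congrArg Subtype.val)
      ex4 := by
        by_contra hno
        push Not at hno
        have h1 : ∀ x : (S : Subgroup G), x⁻¹ = x := fun x =>
          inv_eq_of_mul_eq_one_right ((hsqS x).resolve_right fun e => hno x x.2 (congrArg Subtype.val e))
        obtain ⟨a, b, hab⟩ := hna
        exact hab (by rw [← h1 (a * b), mul_inv_rev, h1 a, h1 b])
      conjp := fun R hR => by
        obtain ⟨R', hR'⟩ := hR.exists_le_sylow
        obtain ⟨g, hg⟩ := MulAction.exists_smul_eq G R' S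
        refine ⟨g⁻¹, fun x hx => ?_⟩
        rw [inv_inv, ← hg, Sylow.coe_subgroup_smul]
        exact Subgroup.smul_mem_pointwise_smul _ (MulAut.conj g) _ (hR' hx)
      odd := Nat.not_even_iff_odd.mp fun e => S.not_dvd_index (even_iff_two_dvd.mp e)
      simple := inferInstance
      nonab := not_comm h }
  obtain ⟨φ⟩ := CfsgSylowCentral.dihedral hctx
  have hO : Cfsg.pResidual 2 G = ⊤ := by
    obtain ⟨P⟩ : Nonempty (Sylow 3 G) := inferInstance
    haveI : Nontrivial (P : Subgroup G) := Finite.one_lt_card_iff_nontrivial.mp (by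
      rw [card_three h P]; norm_num)
    obtain ⟨x, hx⟩ := exists_ne (1 : (P : Subgroup G))
    have hx' : (x : G) ≠ 1 := fun e => hx (Subtype.ext e)
    exact pResidual_two ⟨x, hx', by rw [orderOf_three h x.2 hx']; norm_num⟩
  obtain ⟨g, hg⟩ := Cfsg.Agent.S0107.result S 2 le_rfl ⟨φ⟩ hO z t hz ht
  refine ⟨MulEquiv.trans ?_ φ⟩
  refine (MulEquiv.subgroupCongr ?_).trans ((S : Subgroup G).equivMapOfInjective (MulAut.conj g).toMonoidHom
    (MulAut.conj g).injective).symm
  rw [hCS]
  ext y
  rw [Subgroup.mem_map_equiv, Subgroup.mem_centralizer_singleton_iff, Subgroup.mem_centralizer_singleton_iff, ← hg,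
    MulAut.conj_symm_apply]
  constructor
  · intro e
    calc g⁻¹ * y * g * z = g⁻¹ * (y * (g * z * g⁻¹)) * g := by group
      _ = g⁻¹ * (g * z * g⁻¹ * y) * g := by rw [e]
      _ = z * (g⁻¹ * y * g) := by group
  · intro e
    calc y * (g * z * g⁻¹) = g * (g⁻¹ * y * g * z) * g⁻¹ := by group
      _ = g * (z * (g⁻¹ * y * g)) * g⁻¹ := by rw [e]
      _ = g * z * g⁻¹ * y := by group

omit h in
theorem d8_facts : (∀ d : DihedralGroup 4, (∀ e, d * e = e * d) → d * d = 1 → d ≠ 1 → d = DihedralGroup.r 2) ∧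
    Fintype.card {d : DihedralGroup 4 // d * d = 1 ∧ d ≠ 1 ∧ d ≠ DihedralGroup.r 2} = 4 := by
  decide +kernel

theorem orderOf_cases (g : G) : orderOf g ∈ ({1, 2, 3, 4, 5} : Finset ℕ) := by
  by_cases h3 : 3 ∣ orderOf g
  · have hx := orderOf_pow_orderOf_div (orderOf_pos g).ne' h3
    have := dvd_three_of_comm h (g := g) hx (Commute.refl g |>.pow_right _)
    rw [Nat.dvd_antisymm this h3]; decide
  by_cases h5 : 5 ∣ orderOf g
  · have hx := orderOf_pow_orderOf_div (orderOf_pos g).ne' h5
    have := Subgroup.orderOf_dvd_natCard (Subgroup.centralizer ({g ^ (orderOf g / 5)} : Set G)) (x := g)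
      (Subgroup.mem_centralizer_singleton_iff.mpr (Commute.refl g |>.pow_right _))
    rw [five h _ hx] at this
    rw [Nat.dvd_antisymm this h5]; decide
  have hd : orderOf g ∣ 8 * (3 * 3 * 5) := (h.trans (by norm_num : 360 = 8 * (3 * 3 * 5))) ▸ orderOf_dvd_natCard g
  have c3 := (Nat.prime_three.coprime_iff_not_dvd.mpr h3).symm
  obtain ⟨j, hj, hjx⟩ := (Nat.dvd_prime_pow Nat.prime_two).mp (show orderOf g ∣ 2 ^ 3 from
    ((c3.mul_right c3).mul_right (Nat.prime_five.coprime_iff_not_dvd.mpr h5).symm).dvd_of_dvd_mul_right hd)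
  interval_cases j
  iterate 3 (rw [hjx]; decide)
  exfalso
  norm_num at hjx
  have ht := orderOf_pow_orderOf_div (orderOf_pos g).ne' (show 2 ∣ orderOf g by rw [hjx]; norm_num)
  obtain ⟨e⟩ := centralizer_dihedral h ht
  have hgC : g ∈ Subgroup.centralizer ({g ^ (orderOf g / 2)} : Set G) :=
    Subgroup.mem_centralizer_singleton_iff.mpr (Commute.refl g |>.pow_right _)
  have h4 : ∀ d : DihedralGroup 4, d ^ 4 = 1 := by decide +kernel
  have hg4 : g ^ 4 = 1 := by
    have := congrArg Subtype.val (e.injective (show e ((⟨g, hgC⟩ : Subgroup.centralizer _) ^ 4) = e 1 by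
      rw [map_pow, map_one, h4]))
    exact this
  have := Nat.le_of_dvd (by norm_num) (orderOf_dvd_of_pow_eq_one hg4)
  omega

/-! ### Counting -/

/-- The involutions commuting with `z`, other than `z`. -/
noncomputable def around [Fintype G] (z : G) : Finset G :=
  open scoped Classical in Finset.univ.filter fun w => orderOf w = 2 ∧ w * z = z * w ∧ w ≠ z

omit h in
theorem mem_around [Fintype G] {z w : G} : w ∈ around z ↔ orderOf w = 2 ∧ w * z = z * w ∧ w ≠ z := by
  simp [around]

theorem card_around [Fintype G] {z : G} (hz : orderOf z = 2) : (around z).card = 4 := by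
  classical
  obtain ⟨e⟩ := centralizer_dihedral h hz
  set C := Subgroup.centralizer ({z} : Set G) with hC
  let zC : C := ⟨z, Subgroup.mem_centralizer_singleton_iff.mpr rfl⟩
  have hzC : orderOf zC = 2 := by rw [Subgroup.orderOf_mk, hz]
  have he : e zC = DihedralGroup.r 2 := by
    refine d8_facts.1 _ (fun d => ?_) (by rw [← map_mul, ← pow_two, ← hzC, pow_orderOf_eq_one, map_one]) (fun e1 => ?_)
    · rw [← e.apply_symm_apply d, ← map_mul, ← map_mul]
      exact congrArg e (Subtype.ext (Subgroup.mem_centralizer_singleton_iff.mp (e.symm d).2).symm)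
    · rw [EmbeddingLike.map_eq_one_iff.mp e1, orderOf_one] at hzC
      omega
  rw [← d8_facts.2, ← Fintype.card_coe]
  have hmemC : ∀ w ∈ around z, w ∈ C := fun w hw => Subgroup.mem_centralizer_singleton_iff.mpr (mem_around.mp hw).2.1
  have hback : ∀ d : DihedralGroup 4, d * d = 1 ∧ d ≠ 1 ∧ d ≠ DihedralGroup.r 2 → (e.symm d : G) ∈ around z := by
    intro d hd
    refine mem_around.mpr ⟨?_, Subgroup.mem_centralizer_singleton_iff.mp (e.symm d).2, fun e1 => hd.2.2 ?_⟩
    · rw [Subgroup.orderOf_coe, MulEquiv.orderOf_eq]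
      exact orderOf_eq_prime (by rw [pow_two]; exact hd.1) hd.2.1
    · rw [← he, ← e.apply_symm_apply d]
      exact congrArg e (Subtype.ext e1)
  refine Fintype.card_congr
    { toFun := fun w => ⟨e ⟨w.1, hmemC w.1 w.2⟩, ?_, ?_, ?_⟩
      invFun := fun d => ⟨e.symm d.1, hback d.1 d.2⟩
      left_inv := fun w => Subtype.ext (show (e.symm (e ⟨w.1, hmemC w.1 w.2⟩) : G) = w.1 by rw [e.symm_apply_apply])
      right_inv := fun d => Subtype.ext (e.apply_symm_apply d.1) }
  · rw [← map_mul, ← map_one e]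
    refine congrArg e (Subtype.ext ?_)
    change w.1 * w.1 = 1
    rw [← pow_two, ← (mem_around.mp w.2).1, pow_orderOf_eq_one]
  · intro e1
    have h1 : w.1 = 1 := congrArg Subtype.val (EmbeddingLike.map_eq_one_iff.mp e1)
    have := (mem_around.mp w.2).1
    rw [h1, orderOf_one] at this
    omega
  · intro e1
    rw [← he] at e1
    exact (mem_around.mp w.2).2.2 (congrArg Subtype.val (e.injective e1))

theorem card_both_le [Fintype G] {z w : G} (hz : orderOf z = 2) (hw : w ∈ around z) :
    ∀ F : Finset G, (∀ k ∈ F, k * z = z * k ∧ k * w = w * k) → F.card ≤ 4 := by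
  classical
  intro F hF
  obtain ⟨hw2, hwz, hne⟩ := mem_around.mp hw
  obtain ⟨e⟩ := centralizer_dihedral h hz
  let C := Subgroup.centralizer ({z} : Set G)
  let K : Subgroup C := (Subgroup.centralizer ({w} : Set G)).subgroupOf C
  have hC8 : Nat.card C = 8 := by rw [Nat.card_congr e.toEquiv, Nat.card_eq_fintype_card]; rfl
  have hK : K ≠ ⊤ := fun et => by
    let wC : C := ⟨w, Subgroup.mem_centralizer_singleton_iff.mpr hwz⟩
    let zC : C := ⟨z, Subgroup.mem_centralizer_singleton_iff.mpr rfl⟩
    have key : ∀ c : C, orderOf c = 2 → (∀ a : C, c * a = a * c) → e c = DihedralGroup.r 2 := fun c hc hcc => by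
      refine d8_facts.1 _ (fun d => ?_) (by rw [← map_mul, ← pow_two, ← hc, pow_orderOf_eq_one, map_one]) (fun e1 => ?_)
      · rw [← e.apply_symm_apply d, ← map_mul, ← map_mul, hcc]
      · rw [EmbeddingLike.map_eq_one_iff.mp e1, orderOf_one] at hc
        omega
    have h1 := key wC (by rw [Subgroup.orderOf_mk, hw2]) fun a => Subtype.ext
      (Subgroup.mem_centralizer_singleton_iff.mp (Subgroup.mem_subgroupOf.mp (et ▸ Subgroup.mem_top a : a ∈ K))).symm
    have h2 := key zC (by rw [Subgroup.orderOf_mk, hz]) fun a => Subtype.ext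
      (Subgroup.mem_centralizer_singleton_iff.mp a.2).symm
    exact hne (congrArg Subtype.val (e.injective (h1.trans h2.symm)))
  have hKle : Nat.card K ≤ 4 := by
    have hd := K.card_subgroup_dvd_card
    rw [hC8] at hd
    have hne8 : Nat.card K ≠ 8 := fun e8 => hK (Subgroup.eq_top_of_card_eq _ (e8.trans hC8.symm))
    have := Nat.le_of_dvd (by norm_num) hd
    interval_cases Nat.card K <;> omega
  refine le_trans ?_ hKle
  rw [← Nat.card_eq_finsetCard]
  refine Nat.card_le_card_of_injective (fun k : F => (⟨⟨k.1, Subgroup.mem_centralizer_singleton_iff.mpr (hF k.1 k.2).1⟩,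
    Subgroup.mem_subgroupOf.mpr (Subgroup.mem_centralizer_singleton_iff.mpr (hF k.1 k.2).2)⟩ : K)) fun a b e => ?_
  exact Subtype.ext (congrArg (fun k : K => ((k : C) : G)) e)

omit h in
/-- In a quotient of `⟨x, z | x³ = z² = (xz)³ = 1⟩` the conjugates of `z` form a four-group. -/
theorem tetra {x z : G} (hx : x ^ 3 = 1) (hz : z * z = 1) (hxz : (x * z) ^ 3 = 1) :
    (x * z * x⁻¹) * z = z * (x * z * x⁻¹) ∧ x * (x * z * x⁻¹) * x⁻¹ = z * (x * z * x⁻¹) := by
  have hxi : x⁻¹ = x * x := inv_eq_of_mul_eq_one_right (by rw [← hx, pow_three])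
  have hzi : z⁻¹ = z := inv_eq_of_mul_eq_one_right hz
  have hxzx : x * z * x = z * x⁻¹ * z := by
    calc x * z * x = (x * z) ^ 3 * (z⁻¹ * x⁻¹ * z⁻¹) := by rw [pow_three]; group
      _ = z * x⁻¹ * z := by rw [hxz, one_mul, hzi]
  constructor
  · have hsq : (z * (x * z * x⁻¹)) * (z * (x * z * x⁻¹)) = 1 := by
      calc (z * (x * z * x⁻¹)) * (z * (x * z * x⁻¹)) = z * (x * z * x) * (x * z * x) * z * (x * x) := by
            simp only [hxi, mul_assoc]
        _ = (z * z) * x⁻¹ * (z * z) * x⁻¹ * (z * z) * (x * x) := by rw [hxzx]; group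
        _ = 1 := by rw [hz]; group
    calc (x * z * x⁻¹) * z = (z * (x * z * x⁻¹))⁻¹ := by
          have hwi : (x * z * x⁻¹)⁻¹ = x * z * x⁻¹ := by rw [mul_inv_rev, mul_inv_rev, inv_inv, hzi, mul_assoc]
          rw [mul_inv_rev, hwi, hzi]
      _ = z * (x * z * x⁻¹) := inv_eq_of_mul_eq_one_right hsq
  · calc x * (x * z * x⁻¹) * x⁻¹ = (x * x) * z * (x * x)⁻¹ := by group
      _ = x⁻¹ * z * x := by rw [← hxi, inv_inv]
      _ = z * (z * x⁻¹ * z) * x := by rw [← mul_assoc z (z * x⁻¹) z, ← mul_assoc z z x⁻¹, hz, one_mul]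
      _ = z * (x * z * x) * x := by rw [hxzx]
      _ = z * (x * z * (x * x)) := by group
      _ = z * (x * z * x⁻¹) := by rw [hxi]

omit h in
theorem pow_three_eq {x : G} (hx : orderOf x = 3) : x ^ 3 = 1 := hx ▸ pow_orderOf_eq_one x

theorem conj_mem_around [Fintype G] {x z : G} (hx : orderOf x = 3) (hz : orderOf z = 2) (hxz : (x * z) ^ 3 = 1) :
    x * z * x⁻¹ ∈ around z := by
  have hz2 : z * z = 1 := by rw [← pow_two, ← hz, pow_orderOf_eq_one]
  refine mem_around.mpr ⟨?_, (tetra (pow_three_eq hx) hz2 hxz).1, fun e => ?_⟩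
  · rw [← MulAut.conj_apply, MulEquiv.orderOf_eq, hz]
  · have := dvd_three_of_comm h (g := z) hx (mul_inv_eq_iff_eq_mul.mp e).symm
    rw [hz] at this
    norm_num at this

theorem fibre_le [Fintype G] [DecidableEq G] {z w : G} (hz : orderOf z = 2) (hw : w ∈ around z) {F : Finset G}
    (hF : ∀ x ∈ F, orderOf x = 3 ∧ (x * z) ^ 3 = 1 ∧ x * z * x⁻¹ = w) : F.card ≤ 4 := by
  rcases F.eq_empty_or_nonempty with rfl | ⟨x₀, hx₀⟩
  · simp
  have hz2 : z * z = 1 := by rw [← pow_two, ← hz, pow_orderOf_eq_one]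
  have hmap : ∀ x ∈ F, x * z * x⁻¹ = w ∧ x * w * x⁻¹ = z * w := fun x hx => by
    obtain ⟨h1, h2, h3⟩ := hF x hx
    refine ⟨h3, ?_⟩
    rw [← h3]
    exact (tetra (pow_three_eq h1) hz2 h2).2
  rw [← Finset.card_image_of_injective F (mul_right_injective x₀⁻¹)]
  refine card_both_le h hz hw _ fun k hk => ?_
  obtain ⟨x, hx, rfl⟩ := Finset.mem_image.mp hk
  obtain ⟨a1, a2⟩ := hmap x hx
  obtain ⟨b1, b2⟩ := hmap x₀ hx₀
  constructor <;> refine mul_inv_eq_iff_eq_mul.mp ?_
  · calc x₀⁻¹ * x * z * (x₀⁻¹ * x)⁻¹ = x₀⁻¹ * (x * z * x⁻¹) * x₀ := by group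
      _ = z := by rw [a1, ← b1]; group
  · calc x₀⁻¹ * x * w * (x₀⁻¹ * x)⁻¹ = x₀⁻¹ * (x * w * x⁻¹) * x₀ := by group
      _ = w := by rw [a2, ← b2]; group

/-- Some `x` of order three has `x z` of order five. -/
theorem exists_pair : ∃ x z : G, orderOf x = 3 ∧ orderOf z = 2 ∧ orderOf (x * z) = 5 := by
  classical
  haveI := Fintype.ofFinite G
  haveI := Fintype.ofFinite (Sylow 3 G)
  haveI := Fact.mk Nat.prime_two
  haveI := Fact.mk Nat.prime_three
  obtain ⟨z, hz⟩ := exists_prime_orderOf_dvd_card' (G := G) 2 (by rw [h]; norm_num)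
  have hz2 : z * z = 1 := by rw [← pow_two, ← hz, pow_orderOf_eq_one]
  by_contra hno
  push Not at hno
  let A : Finset G := Finset.univ.filter fun x => orderOf x = 3
  let T : ℕ → Finset G := fun n => A.filter fun x => orderOf (x * z) = n
  let O : Sylow 3 G → Finset G := fun P => Finset.univ.filter fun x => x ∈ (P : Subgroup G) ∧ x ≠ 1
  have hO : ∀ P, (O P).card = 8 := fun P => by
    have e : O P = (Finset.univ.filter fun x => x ∈ (P : Subgroup G)).erase 1 := by
      ext x; simp [O, and_comm]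
    rw [e, Finset.card_erase_of_mem (by simp), ← Fintype.card_subtype, ← Nat.card_eq_fintype_card]
    exact congrArg (· - 1) (card_three h P)
  have hA : 80 ≤ A.card := by
    have hd : (Set.univ : Set (Sylow 3 G)).PairwiseDisjoint O := fun P _ Q _ hne =>
      Finset.disjoint_left.mpr fun x hxP hxQ => by
        simp only [O, Finset.mem_filter, Finset.mem_univ, true_and] at hxP hxQ
        exact hne (ti_three h hxP.1 hxQ.1 hxP.2)
    refine le_trans ?_ (Finset.card_le_card (s := (Finset.univ : Finset (Sylow 3 G)).biUnion O) ?_)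
    · rw [Finset.card_biUnion (fun P _ Q _ hne => hd (Set.mem_univ P) (Set.mem_univ Q) hne),
        Finset.sum_congr rfl (fun P _ => hO P), Finset.sum_const, Finset.card_univ, ← Nat.card_eq_fintype_card,
        card_syl_three h]
      norm_num
    · intro x hx
      simp only [Finset.mem_biUnion, O, Finset.mem_filter, Finset.mem_univ, true_and] at hx
      obtain ⟨P, hxP, hx1⟩ := hx
      simp only [A, Finset.mem_filter, Finset.mem_univ, true_and]
      exact orderOf_three h hxP hx1
  have hT : A ⊆ T 2 ∪ T 3 ∪ T 4 := by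
    intro x hx
    have hx3 : orderOf x = 3 := (Finset.mem_filter.mp hx).2
    have := orderOf_cases h (x * z)
    simp only [Finset.mem_insert, Finset.mem_singleton] at this
    simp only [T, Finset.mem_union, Finset.mem_filter]
    rcases this with e | e | e | e | e
    · exfalso
      have e' : x = z := (eq_inv_of_mul_eq_one_left (orderOf_eq_one_iff.mp e)).trans (inv_eq_of_mul_eq_one_right hz2)
      rw [e', hz] at hx3; omega
    · exact Or.inl (Or.inl ⟨hx, e⟩)
    · exact Or.inl (Or.inr ⟨hx, e⟩)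
    · exact Or.inr ⟨hx, e⟩
    · exact absurd e (hno x z hx3 hz)
  have hT2 : (T 2).card ≤ 16 := by
    refine le_trans (Finset.card_le_card (t := (Finset.univ.filter fun P : Sylow 3 G => z • P = P).biUnion O) ?_) ?_
    · intro x hx
      simp only [T, A, Finset.mem_filter, Finset.mem_univ, true_and] at hx
      obtain ⟨P, hP⟩ := mem_sylow_three h hx.1
      have hx1 : x ≠ 1 := fun e => by rw [e, orderOf_one] at hx; omega
      simp only [O, Finset.mem_biUnion, Finset.mem_filter, Finset.mem_univ, true_and]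
      refine ⟨P, ti_three h (x := x) ?_ hP hx1, hP, hx1⟩
      rw [Sylow.coe_subgroup_smul, Subgroup.mem_pointwise_smul_iff_inv_smul_mem, ← map_inv, MulAut.smul_def,
        MulAut.conj_apply, inv_inv, inv_eq_of_mul_eq_one_right hz2]
      have e : x * z * (x * z) = 1 := by rw [← pow_two, ← hx.2, pow_orderOf_eq_one]
      have : z * x * z = x⁻¹ := (inv_eq_of_mul_eq_one_right (show x * (z * x * z) = 1 by rw [← e]; group)).symm
      rw [this]
      exact inv_mem hP
    · refine le_trans (Finset.card_biUnion_le_card_mul _ _ 8 fun P _ => (hO P).le) ?_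
      by_cases hf : ∃ P : Sylow 3 G, z • P = P
      · obtain ⟨P, hP⟩ := hf
        have := (inverts h hz hP).2
        rw [Nat.card_eq_fintype_card, Fintype.card_subtype] at this
        omega
      · push Not at hf
        rw [Finset.filter_false_of_mem (fun P _ => hf P), Finset.card_empty]
        omega
  have hT3 : (T 3).card ≤ 16 := by
    refine le_trans (Finset.card_le_mul_card_image_of_maps_to (f := fun x => x * z * x⁻¹) (t := around z)
      (fun x hx => ?_) 4 fun w hw => fibre_le h hz hw fun x hx => ?_) (by rw [card_around h hz])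
    · simp only [T, A, Finset.mem_filter, Finset.mem_univ, true_and] at hx
      exact conj_mem_around h hx.1 hz (hx.2 ▸ pow_orderOf_eq_one _)
    · simp only [T, A, Finset.mem_filter, Finset.mem_univ, true_and] at hx
      exact ⟨hx.1.1, hx.1.2 ▸ pow_orderOf_eq_one _, hx.2⟩
  have hzi : z⁻¹ = z := inv_eq_of_mul_eq_one_right hz2
  let qf : G → G := fun x => x * z * x⁻¹ * z * x
  have hq : ∀ x ∈ T 4, qf x ∈ around z ∧ (x * qf x) ^ 3 = 1 ∧ x * qf x * x⁻¹ ≠ z ∧ x * qf x * x⁻¹ ≠ qf x * z := by
    intro x hx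
    simp only [T, A, Finset.mem_filter, Finset.mem_univ, true_and] at hx
    obtain ⟨hx3, hx4⟩ := hx
    have hx3' := pow_three_eq hx3
    have hxi : x⁻¹ = x * x := inv_eq_of_mul_eq_one_right (by rw [← hx3', pow_three])
    have hzx : orderOf (z * x) = 4 := by rw [← ord_comm, hx4]
    have hxz1 : x * z ≠ 1 := fun e => by rw [e, orderOf_one] at hx4; omega
    set s := x * z * x with hs
    have hs0 : s = MulAut.conj x⁻¹ (z * x)⁻¹ := by
      rw [MulAut.conj_apply, mul_inv_rev, hzi, inv_inv, hs]
      rw [← mul_assoc x⁻¹ x⁻¹ z]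
      nth_rw 2 [hxi]
      nth_rw 1 [hxi]
      calc x * z * x = x ^ 3 * (x * z * x) := by rw [hx3', one_mul]
        _ = _ := by rw [pow_three]; group
    have hso : orderOf s = 4 := by rw [hs0, MulEquiv.orderOf_eq, orderOf_inv, hzx]
    have hs4 : s ^ 4 = 1 := hso ▸ pow_orderOf_eq_one s
    have hzs : z * s * z = s⁻¹ := by
      refine eq_inv_of_mul_eq_one_left ?_
      rw [← pow_orderOf_eq_one (z * x), hzx, hs]
      simp only [pow_succ, pow_zero, one_mul, mul_assoc]
    have hq2 : qf x = s * s := by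
      calc qf x = x * z * (x * x) * z * x := by rw [← hxi]
        _ = s * s := by rw [hs]; group
    have hq' : orderOf (qf x) = 2 := by
      rw [hq2, ← pow_two, orderOf_pow' _ (by norm_num : (2 : ℕ) ≠ 0), hso]; rfl
    have hqi : (qf x)⁻¹ = qf x := inv_eq_of_mul_eq_one_right (by rw [← pow_two, ← hq', pow_orderOf_eq_one])
    have hqz : qf x * z = z * qf x := by
      have e : z * qf x * z⁻¹ = (qf x)⁻¹ := by
        calc z * qf x * z⁻¹ = (z * s * z⁻¹) * (z * s * z⁻¹) := by rw [hq2]; group
          _ = s⁻¹ * s⁻¹ := by rw [hzi, hzs]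
          _ = (qf x)⁻¹ := by rw [hq2, hs]; group
      rw [hqi] at e
      exact (mul_inv_eq_iff_eq_mul.mp e).symm
    have hqne : qf x ≠ z := fun e => by
      have e1 : MulAut.conj x z = MulAut.conj z x⁻¹ := by
        rw [MulAut.conj_apply, MulAut.conj_apply]
        calc x * z * x⁻¹ = qf x * x⁻¹ * z⁻¹ := by simp only [qf]; group
          _ = z * x⁻¹ * z⁻¹ := by rw [e]
      have e2 := congrArg orderOf e1
      rw [MulEquiv.orderOf_eq, MulEquiv.orderOf_eq, hz, orderOf_inv, hx3] at e2
      omega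
    have hx' : x * qf x * x⁻¹ = x⁻¹ * z * x⁻¹ * z := by
      calc x * qf x * x⁻¹ = (x * x) * z * x⁻¹ * z := by simp only [qf]; group
        _ = _ := by rw [← hxi]
    have hxq : (x * qf x) ^ 3 = 1 := by
      have e : x * qf x = MulAut.conj (x⁻¹ * z) x⁻¹ := by
        rw [MulAut.conj_apply, mul_inv_rev, inv_inv, hzi]
        calc x * qf x = x * qf x * x⁻¹ * x := by group
          _ = _ := by rw [hx']; group
      rw [e, ← map_pow, inv_pow, hx3', inv_one, map_one]
    refine ⟨mem_around.mpr ⟨hq', hqz, hqne⟩, hxq, fun e => hxz1 ?_, fun e => hxz1 ?_⟩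
    · rw [hx'] at e
      calc x * z = x * ((x⁻¹ * z * x⁻¹ * z) * z⁻¹) ^ 0 * z := by rw [pow_zero, mul_one]
        _ = x * x * ((x⁻¹ * z * x⁻¹ * z) * z⁻¹) * x := by rw [pow_zero, mul_one]; group
        _ = x * x * (z * z⁻¹) * x := by rw [e]
        _ = 1 := by rw [mul_inv_cancel, mul_one, ← hxi, inv_mul_cancel]
    · rw [hx', ← hqi] at e
      calc x * z = (z * z)⁻¹ * x * z⁻¹ := by rw [hz2, hzi, inv_one, one_mul]
        _ = (x⁻¹ * z)⁻¹ * ((qf x)⁻¹ * z) * z⁻¹ * x := by simp only [qf]; group
        _ = (x⁻¹ * z)⁻¹ * (x⁻¹ * z * x⁻¹ * z) * z⁻¹ * x := by rw [e]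
        _ = 1 := by group
  have hT4 : (T 4).card ≤ 32 := by
    refine le_trans (Finset.card_le_mul_card_image_of_maps_to (f := qf) (t := around z)
      (fun x hx => (hq x hx).1) 8 fun q hqa => ?_) (by rw [card_around h hz])
    obtain ⟨hqo, hqz, hqne⟩ := mem_around.mp hqa
    let W : Finset G := ((around q).erase z).erase (q * z)
    have hzq : z ∈ around q := mem_around.mpr ⟨hz, hqz.symm, hqne.symm⟩
    have hq2 : q * q = 1 := by rw [← pow_two, ← hqo, pow_orderOf_eq_one]
    have hqzq : q * z ∈ (around q).erase z := by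
      refine Finset.mem_erase.mpr ⟨fun e => ?_, mem_around.mpr ⟨orderOf_eq_prime ?_ ?_, ?_, fun e => ?_⟩⟩
      · rw [mul_eq_right.mp e, orderOf_one] at hqo; omega
      · rw [pow_two]
        calc q * z * (q * z) = q * (z * q) * z := by group
          _ = 1 := by rw [← hqz, ← mul_assoc q q z, hq2, one_mul, hz2]
      · intro e
        exact hqne ((eq_inv_of_mul_eq_one_left e).trans hzi)
      · rw [mul_assoc, ← hqz]
      · rw [mul_eq_left.mp e, orderOf_one] at hz; omega
    have hW : W.card = 2 := by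
      rw [Finset.card_erase_of_mem hqzq, Finset.card_erase_of_mem hzq, card_around h hqo]
    refine le_trans (Finset.card_le_mul_card_image_of_maps_to (f := fun x => x * q * x⁻¹) (t := W)
      (fun x hx => ?_) 4 fun w hw => fibre_le h (w := w) hqo ?_ fun x hx => ?_) (by rw [hW])
    · obtain ⟨hx4, rfl⟩ := Finset.mem_filter.mp hx
      obtain ⟨-, h3, h4, h5⟩ := hq x hx4
      exact Finset.mem_erase.mpr ⟨h5, Finset.mem_erase.mpr
        ⟨h4, conj_mem_around h (Finset.mem_filter.mp (Finset.mem_filter.mp hx4).1).2 hqo h3⟩⟩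
    · exact Finset.mem_of_mem_erase (Finset.mem_of_mem_erase hw)
    · obtain ⟨hxq, hxw⟩ := Finset.mem_filter.mp hx
      obtain ⟨hx4, rfl⟩ := Finset.mem_filter.mp hxq
      exact ⟨(Finset.mem_filter.mp (Finset.mem_filter.mp hx4).1).2, (hq x hx4).2.1, hxw⟩
  have h1 := Finset.card_le_card hT
  have h2 := Finset.card_union_le (T 2 ∪ T 3) (T 4)
  have h3 := Finset.card_union_le (T 2) (T 3)
  omega

theorem iso_A6 : Nonempty (G ≃* alternatingGroup (Fin 6)) := by
  obtain ⟨x, z, hx, hz, hxz⟩ := exists_pair h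
  have hz2 : z * z = 1 := by rw [← pow_two, ← hz, pow_orderOf_eq_one]
  let f : Fin 2 → G := ![x, x⁻¹ * z]
  have hrel : ∀ r ∈ ({FreeGroup.of (0 : Fin 2) ^ 3, FreeGroup.of (1 : Fin 2) ^ 5,
      (FreeGroup.of (0 : Fin 2) * FreeGroup.of 1) ^ 2} : Set (FreeGroup (Fin 2))), FreeGroup.lift f r = 1 := by
    intro r hr
    simp only [Set.mem_insert_iff, Set.mem_singleton_iff] at hr
    rcases hr with rfl | rfl | rfl
    · rw [map_pow, FreeGroup.lift_apply_of]; exact pow_three_eq hx
    · rw [map_pow, FreeGroup.lift_apply_of]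
      change (x⁻¹ * z) ^ 5 = 1
      have e : orderOf (x⁻¹ * z) = 5 := by
        rw [show x⁻¹ * z = (z⁻¹ * x)⁻¹ by group, orderOf_inv, inv_eq_of_mul_eq_one_right hz2, ← ord_comm, hxz]
      rw [← e, pow_orderOf_eq_one]
    · rw [map_pow, map_mul, FreeGroup.lift_apply_of, FreeGroup.lift_apply_of]
      change (x * (x⁻¹ * z)) ^ 2 = 1
      rw [mul_inv_cancel_left, pow_two, hz2]
  obtain ⟨E⟩ := Cfsg.Agent.S3377.result
  let ψ : alternatingGroup (Fin 5) →* G := (PresentedGroup.toGroup hrel).comp E.symm.toMonoidHom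
  haveI : IsSimpleGroup (alternatingGroup (Fin 5)) := alternatingGroup.isSimpleGroup_five
  have hψ : Function.Injective ψ := by
    rw [← MonoidHom.ker_eq_bot_iff]
    refine (inferInstance : ψ.ker.Normal).eq_bot_or_eq_top.resolve_right fun e => ?_
    have h1 : ψ (E (PresentedGroup.of 0)) = 1 := MonoidHom.mem_ker.mp (e ▸ Subgroup.mem_top _)
    simp only [ψ, MonoidHom.comp_apply, MulEquiv.coe_toMonoidHom, MulEquiv.symm_apply_apply, PresentedGroup.toGroup.of] at h1
    rw [show x = 1 from h1, orderOf_one] at hx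
    omega
  refine six_iso h (H := ψ.range) ?_
  have hm := ψ.range.card_mul_index
  have h60 : Nat.card (alternatingGroup (Fin 5)) = 60 := by rw [nat_card_alternatingGroup, Nat.card_fin]; rfl
  rw [← Nat.card_congr (MonoidHom.ofInjective hψ).toEquiv, h60, h] at hm
  omega

end CfsgLib.Order360
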