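/-
Subgroups of A8 and GL(4,2) with trivial solvable radical.
-/
import Cfsg.Agent.Lib.SmallSimple.Order168
import Cfsg.Agent.Lib.SmallSimple.GL4A8
import Cfsg.Agent.Lib.CharTheory.Burnside
import Cfsg.Agent.Lib.MaxSub.SixPoints
import Cfsg.Agent.S0678
import Cfsg.Agent.S0494

set_option autoImplicit false
set_option linter.style.haveILetI false
set_option maxRecDepth 4000

namespace CfsgLib.EightSubgroups

open Equiv MulAction
open scoped Pointwise

/-- Only the trivial normal subgroup is solvable. -/
def RadFree (X : Type*) [Group X] : Prop := ∀ N : Subgroup X, N.Normal → Group.IsSolvable N → N = ⊥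

/-- The list of groups. -/
def Listed (X : Type*) [Group X] : Prop :=
  (∃ n : ℕ, 5 ≤ n ∧ n ≤ 8 ∧ Nonempty (X ≃* alternatingGroup (Fin n))) ∨
    Nonempty (X ≃* Perm (Fin 5)) ∨ Nonempty (X ≃* Perm (Fin 6)) ∨ Nonempty (X ≃* GL (Fin 3) (ZMod 2))

theorem Listed.congr {X Y : Type*} [Group X] [Group Y] (e : X ≃* Y) (h : Listed Y) : Listed X := by
  rcases h with ⟨n, h5, h8, ⟨f⟩⟩ | ⟨⟨f⟩⟩ | ⟨⟨f⟩⟩ | ⟨⟨f⟩⟩
  · exact Or.inl ⟨n, h5, h8, ⟨e.trans f⟩⟩
  · exact Or.inr (Or.inl ⟨e.trans f⟩)
  · exact Or.inr (Or.inr (Or.inl ⟨e.trans f⟩))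
  · exact Or.inr (Or.inr (Or.inr ⟨e.trans f⟩))

theorem RadFree.congr {X Y : Type*} [Group X] [Group Y] (e : X ≃* Y) (h : RadFree X) : RadFree Y := by
  intro N hN hs
  haveI := hs
  have h1 := h (N.comap e.toMonoidHom) inferInstance
    (Group.isSolvable_of_isSolvable_injective (f := e.toMonoidHom.subgroupComap N)
      fun a b hab => Subtype.ext (e.injective (congrArg Subtype.val hab)))
  rw [eq_bot_iff]
  intro x hx
  have : e.symm x ∈ N.comap e.toMonoidHom := by simpa using hx
  rw [h1, Subgroup.mem_bot] at this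
  rw [Subgroup.mem_bot, ← e.apply_symm_apply x, this, map_one]

theorem isSolvable_of_squarefree {X : Type*} [Group X] [Finite X] (h : Squarefree (Nat.card X)) :
    Group.IsSolvable X := by
  haveI := IsZGroup.of_squarefree h
  infer_instance

theorem isSolvable_two {X : Type*} [Group X] [Finite X] {p q : ℕ} (a b : ℕ) (hp : p.Prime) (hq : q.Prime)
    (h : Nat.card X = p ^ a * q ^ b) : Group.IsSolvable X :=
  CfsgLib.CharTheory.isSolvable_of_card_two_primes hp hq h

theorem isSolvable_84 {X : Type*} [Group X] [Finite X] (h : Nat.card X = 84) : Group.IsSolvable X := by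
  haveI : Fact (Nat.Prime 7) := ⟨by norm_num⟩
  obtain ⟨P⟩ : Nonempty (Sylow 7 X) := inferInstance
  have hP : Nat.card P = 7 := SmallOrder.card_sylow_eq (k := 1) P (by rw [h]; norm_num) (by rw [h]; norm_num)
  have h1 := SmallOrder.card_sylow_mem_filter P hP (n := 12) (by rw [h]) (by norm_num)
  rw [show (Nat.divisors 12).filter (fun d => d % 7 = 1) = {1} by decide +kernel, Finset.mem_singleton] at h1
  haveI : Subsingleton (Sylow 7 X) := (Nat.card_eq_one_iff_unique.mp h1).1
  haveI := Sylow.normal_of_subsingleton P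
  haveI : Group.IsSolvable (P : Subgroup X) :=
    isSolvable_two 1 0 (by norm_num : Nat.Prime 7) Nat.prime_two (by rw [show Nat.card (P : Subgroup X) = 7 from hP]; norm_num)
  haveI : Group.IsSolvable (X ⧸ (P : Subgroup X)) :=
    isSolvable_two 2 1 Nat.prime_two Nat.prime_three (by
      rw [← Subgroup.index_eq_card]
      have := (P : Subgroup X).card_mul_index
      rw [show Nat.card (P : Subgroup X) = 7 from hP, h] at this
      omega)
  exact Group.isSolvable_of_ker_le_range (P : Subgroup X).subtype (QuotientGroup.mk' (P : Subgroup X)) (by simp)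

/-- Proper divisors of 168 and of 60 give solvable groups. -/
theorem isSolvable_of_dvd {X : Type*} [Group X] [Finite X] {n : ℕ} (hn : n = 60 ∨ n = 168)
    (hd : Nat.card X ∣ n) (hne : Nat.card X ≠ n) : Group.IsSolvable X := by
  have hmem : Nat.card X ∈ Nat.divisors n := Nat.mem_divisors.mpr ⟨hd, by omega⟩
  have key : ∀ n ∈ [60, 168], ∀ d ∈ Nat.divisors n, d ≠ n → d = 84 ∨ Squarefree d ∨
      (∃ p ∈ [2, 3, 5, 7], ∃ q ∈ [2, 3, 5, 7], ∃ a < 4, ∃ b < 4, d = p ^ a * q ^ b) := by
    decide +kernel
  rcases key n (by simp; omega) _ hmem hne with e | e | ⟨p, hp, q, hq, a, -, b, -, e⟩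
  · exact isSolvable_84 e
  · exact isSolvable_of_squarefree e
  · have hpr : ∀ p ∈ [2, 3, 5, 7], Nat.Prime p := by decide
    exact isSolvable_two a b (hpr p hp) (hpr q hq) e

/-- A radical-free group of order 60 or 168 is simple. -/
theorem isSimple_of_radFree {X : Type*} [Group X] [Finite X] {n : ℕ} (hn : n = 60 ∨ n = 168)
    (hc : Nat.card X = n) (h : RadFree X) : IsSimpleGroup X := by
  haveI : Nontrivial X := Finite.one_lt_card_iff_nontrivial.mp (by omega)
  refine ⟨fun N hN => ?_⟩
  by_cases he : Nat.card N = n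
  · exact Or.inr (Subgroup.eq_top_of_card_eq N (he.trans hc.symm))
  · exact Or.inl (h N hN (isSolvable_of_dvd hn (hc ▸ N.card_subgroup_dvd_card) he))

section Deg

variable {α : Type*} [Fintype α] [DecidableEq α]

theorem card_alt (m : ℕ) (hm : Fintype.card α = m) (h2 : 2 ≤ m) :
    Nat.card (alternatingGroup α) * 2 = m.factorial := by
  haveI : Nontrivial α := Fintype.one_lt_card_iff_nontrivial.mp (by omega)
  have h := (alternatingGroup α).card_mul_index
  rwa [alternatingGroup.index_eq_two, Nat.card_perm, Nat.card_eq_fintype_card (α := α), hm] at h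

/-- A subgroup of small index contains the alternating group. -/
theorem alternatingGroup_le_of_index {m : ℕ} (hm : Fintype.card α = m) (h5 : 5 ≤ m) {K : Subgroup (Perm α)}
    (h : ¬ Nat.card (alternatingGroup α) ∣ ((K ⊓ alternatingGroup α).subgroupOf (alternatingGroup α)).index.factorial) :
    alternatingGroup α ≤ K := by
  haveI := alternatingGroup.isSimpleGroup (α := α) (by rw [Nat.card_eq_fintype_card, hm]; omega)
  by_contra hne
  refine h (SmallOrder.card_dvd_factorial_index ?_)
  rw [Ne, Subgroup.subgroupOf_eq_top]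
  exact fun e => hne (e.trans inf_le_left)

theorem listed_of_alt {m : ℕ} (hm : Fintype.card α = m) (h5 : 5 ≤ m) (h6 : m ≤ 6) {K : Subgroup (Perm α)}
    (h : alternatingGroup α ≤ K) : Listed K := by
  haveI : Nontrivial α := Fintype.one_lt_card_iff_nontrivial.mp (by omega)
  have hd := Subgroup.index_dvd_of_le h
  rw [alternatingGroup.index_eq_two] at hd
  let e : α ≃ Fin m := Fintype.equivFinOfCardEq hm
  rcases (Nat.dvd_prime Nat.prime_two).mp hd with he | he
  · have htop := Subgroup.index_eq_one.mp he
    have f : K ≃* Perm (Fin m) :=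
      ((MulEquiv.subgroupCongr htop).trans Subgroup.topEquiv).trans e.permCongrHom
    interval_cases m
    · exact Or.inr (Or.inl ⟨f⟩)
    · exact Or.inr (Or.inr (Or.inl ⟨f⟩))
  · have hK : alternatingGroup α = K := by
      refine Subgroup.eq_of_le_of_card_ge h (le_of_eq ?_)
      have h1 := K.card_mul_index
      have h2 := (alternatingGroup α).card_mul_index
      rw [alternatingGroup.index_eq_two] at h2
      rw [he] at h1
      omega
    exact Or.inl ⟨m, h5, by omega, ⟨(MulEquiv.subgroupCongr hK.symm).trans (Equiv.altCongrHom e)⟩⟩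

theorem radFree_60_listed {X : Type*} [Group X] [Finite X] (hc : Nat.card X = 60) (h : RadFree X) : Listed X := by
  haveI := isSimple_of_radFree (Or.inl rfl) hc h
  exact Or.inl ⟨5, le_rfl, by norm_num, Cfsg.Agent.S0494.result hc⟩

theorem nonsolvable_inf_alt {K : Subgroup (Perm α)} (hK : ¬ Group.IsSolvable K) :
    ¬ Group.IsSolvable ↥(K ⊓ alternatingGroup α) := by
  intro hs
  refine hK ?_
  haveI := hs
  let φ : K →* ℤˣ := Perm.sign.comp K.subtype
  have hker : ∀ x : φ.ker, ((x : K) : Perm α) ∈ K ⊓ alternatingGroup α :=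
    fun x => ⟨(x : K).2, Equiv.Perm.mem_alternatingGroup.mpr x.2⟩
  let ψ : φ.ker →* ↥(K ⊓ alternatingGroup α) := (K.subtype.comp φ.ker.subtype).codRestrict _ hker
  haveI : Group.IsSolvable φ.ker := Group.isSolvable_of_isSolvable_injective (f := ψ) fun a b hab =>
    Subtype.ext (Subtype.ext (congrArg Subtype.val hab :))
  exact Group.isSolvable_of_ker_le_range φ.ker.subtype φ (by simp)

/-- Degree five and six. -/
theorem listed_five_six {m : ℕ} (hm : Fintype.card α = m) (h : m = 5 ∨ m = 6) {K : Subgroup (Perm α)}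
    (hK : ¬ Group.IsSolvable K) (hr : RadFree K) : Listed K := by
  by_cases hle : alternatingGroup α ≤ K
  · exact listed_of_alt hm (by omega) (by omega) hle
  set KA := K ⊓ alternatingGroup α
  have hns := nonsolvable_inf_alt hK
  have hA := card_alt m hm (by omega)
  have hidx := (KA.subgroupOf (alternatingGroup α)).card_mul_index
  have hcc : Nat.card (KA.subgroupOf (alternatingGroup α)) = Nat.card KA :=
    Nat.card_congr (Subgroup.subgroupOfEquivOfLe inf_le_right).toEquiv
  rw [hcc] at hidx
  have hno : ¬ ¬ Nat.card (alternatingGroup α) ∣ (KA.subgroupOf (alternatingGroup α)).index.factorial :=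
    fun h' => hle (alternatingGroup_le_of_index hm (by omega) h')
  rw [not_not] at hno
  generalize (KA.subgroupOf (alternatingGroup α)).index = i at hidx hno
  have hdvd : Nat.card KA ∣ Nat.card (alternatingGroup α) := ⟨i, hidx.symm⟩
  have hi5 : 5 ≤ i := by
    by_contra hlt
    have : i.factorial ∣ Nat.factorial 4 := Nat.factorial_dvd_factorial (by omega)
    have h1 := Nat.le_of_dvd (by decide) (hno.trans this)
    rcases h with rfl | rfl <;> norm_num [Nat.factorial, -Nat.card_eq_fintype_card] at hA h1 <;> omega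
  rcases h with rfl | rfl
  · exfalso
    rw [show Nat.factorial 5 = 120 from rfl] at hA
    refine hns (isSolvable_of_dvd (Or.inl rfl) ?_ ?_)
    · rwa [show Nat.card (alternatingGroup α) = 60 by omega] at hdvd
    · intro e
      rw [e] at hidx
      omega
  rw [show Nat.factorial 6 = 720 from rfl] at hA
  have h360 : Nat.card (alternatingGroup α) = 360 := by omega
  rw [h360] at hidx hno hdvd
  have h60 : Nat.card KA = 60 := by
    have hi6 : 6 ≤ i := by
      by_contra hlt
      exact absurd (hno.trans (Nat.factorial_dvd_factorial (show i ≤ 5 by omega))) (by decide)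
    have hle60 : Nat.card KA ≤ 60 := by nlinarith
    by_contra hne
    refine hns ?_
    have key : ∀ d ≤ 60, d ∣ 360 → d ≠ 60 → Squarefree d ∨
        (∃ p ∈ [2, 3, 5, 7], ∃ q ∈ [2, 3, 5, 7], ∃ a < 4, ∃ b < 4, d = p ^ a * q ^ b) := by
      decide +kernel
    rcases key _ hle60 hdvd hne with e | ⟨p, hp, q, hq, a, -, b, -, e⟩
    · exact isSolvable_of_squarefree e
    · have hpr : ∀ p ∈ [2, 3, 5, 7], Nat.Prime p := by decide
      exact isSolvable_two a b (hpr p hp) (hpr q hq) e
  by_cases hKA : K ≤ alternatingGroup α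
  · refine radFree_60_listed ?_ hr
    rw [← h60]
    exact congrArg (fun S : Subgroup (Perm α) => Nat.card S) (inf_eq_left.mpr hKA).symm
  -- otherwise `K` has order 120 and index six
  have hK120 : Nat.card K = 120 := by
    let φ : K →* ℤˣ := Perm.sign.comp K.subtype
    have hk : φ.ker = (alternatingGroup α).subgroupOf K := by
      ext x; simp [φ, Subgroup.mem_subgroupOf, Equiv.Perm.mem_alternatingGroup]
    have hkc : Nat.card φ.ker = 60 := by
      rw [hk, ← Subgroup.inf_subgroupOf_left,
        Nat.card_congr (Subgroup.subgroupOfEquivOfLe inf_le_left).toEquiv, h60]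
    have h1 := φ.ker.card_mul_index
    rw [hkc, Subgroup.index_ker] at h1
    have h2 : Nat.card φ.range ∣ 2 := by
      have := φ.range.card_subgroup_dvd_card
      rwa [Nat.card_eq_fintype_card (α := ℤˣ), Fintype.card_units_int] at this
    rcases (Nat.dvd_prime Nat.prime_two).mp h2 with e | e
    · exfalso
      apply hKA
      intro x hx
      rw [Equiv.Perm.mem_alternatingGroup]
      have := Subgroup.card_eq_one.mp e
      exact (this ▸ (⟨⟨x, hx⟩, rfl⟩ : φ ⟨x, hx⟩ ∈ φ.range) : φ ⟨x, hx⟩ ∈ (⊥ : Subgroup ℤˣ))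
    · omega
  let e6 : α ≃ Fin 6 := Fintype.equivFinOfCardEq hm
  let K6 := K.map e6.permCongrHom.toMonoidHom
  have hi : K6.index = 6 := by
    have h1 := K6.card_mul_index
    rw [Subgroup.card_map_of_injective e6.permCongrHom.injective, hK120, Nat.card_perm, Nat.card_fin,
      show Nat.factorial 6 = 720 from rfl] at h1
    omega
  obtain ⟨f⟩ := MaxSub.iso_five hi
  exact Or.inr (Or.inl ⟨(K.equivMapOfInjective _ e6.permCongrHom.injective).trans f⟩)

/-- Degree seven, in the alternating group. -/
theorem listed_seven (hm : Fintype.card α = 7) {K : Subgroup (Perm α)} [IsPretransitive K α]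
    (hK : ¬ Group.IsSolvable K) (heven : K ≤ alternatingGroup α) : Listed K := by
  by_cases hle : alternatingGroup α ≤ K
  · exact Or.inl ⟨7, by norm_num, by norm_num,
      ⟨(MulEquiv.subgroupCongr (le_antisymm heven hle)).trans
        (Equiv.altCongrHom (Fintype.equivFinOfCardEq hm))⟩⟩
  · obtain ⟨h168, hs⟩ := Cfsg.Agent.S0678.result hm K hK hle
    haveI := hs
    haveI := Order168.gl32.1
    exact Or.inr (Or.inr (Or.inr (Order168.nonempty_mulEquiv h168 Order168.gl32.2)))

end Deg

section Eight

open Order168 (c0 orderOf_c0)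

theorem aff_involution : ∀ b : Fin 7, ∀ k ∈ [1, 6],
    (let v : Fin 8 → Fin 8 := fun i => if i = 7 then 7 else ⟨(k * (i : ℕ) + b) % 7, by omega⟩
     (∀ j, v (v j) = j) → ((Finset.univ.filter fun j => v j ≠ j).card / 2 % 2 = 0) → ∀ j, v j = j) := by
  decide +kernel

theorem sign_involution {β : Type*} [Fintype β] [DecidableEq β] {g : Perm β} (hg : g * g = 1)
    (hs : Perm.sign g = 1) : g.support.card / 2 % 2 = 0 := by
  have hall : ∀ n ∈ g.cycleType, n = 2 := fun n hn =>
    ((Nat.dvd_prime Nat.prime_two).mp ((Perm.dvd_of_mem_cycleType hn).trans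
      (orderOf_dvd_of_pow_eq_one (by rw [pow_two, hg])))).resolve_left
      (by have := Perm.two_le_of_mem_cycleType hn; omega)
  have hsum : g.cycleType.sum = 2 * g.cycleType.card := by
    conv_lhs => rw [Multiset.eq_replicate_card.mpr hall]
    simp [mul_comm]
  rw [Perm.sign_of_cycleType, hsum, pow_add, pow_mul, neg_one_sq, one_pow, one_mul] at hs
  rw [← Perm.sum_cycleType, hsum, Nat.mul_div_cancel_left _ (by norm_num)]
  exact Nat.even_iff.mp ((neg_one_pow_eq_one_iff_even (by decide)).mp hs)

/-- In A8 no involution normalises a subgroup of order 7. -/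
theorem odd_normalizer {K : Subgroup (Perm (Fin 8))} (heven : K ≤ alternatingGroup (Fin 8))
    (P : Subgroup K) (hP : Nat.card P = 7) : ¬ 2 ∣ Nat.card (Subgroup.normalizer (P : Set K)) := by
  intro h2
  haveI : Fact (Nat.Prime 2) := ⟨Nat.prime_two⟩
  haveI : Fact (Nat.Prime 7) := ⟨by norm_num⟩
  obtain ⟨g, hg⟩ := exists_prime_orderOf_dvd_card' 2 h2
  haveI : IsCyclic P := isCyclic_of_prime_card hP
  obtain ⟨s, hs⟩ := IsCyclic.exists_generator (α := P)
  set c : Perm (Fin 8) := ((s : K) : Perm (Fin 8))
  have hco : orderOf c = 7 := by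
    rw [Subgroup.orderOf_coe, Subgroup.orderOf_coe, orderOf_eq_card_of_forall_mem_zpowers hs, hP]
  have hc : c.IsCycle := Perm.isCycle_of_prime_order' (by rw [hco]; norm_num) (by rw [hco, Fintype.card_fin]; norm_num)
  have hc0 : c0.IsCycle :=
    Perm.isCycle_of_prime_order' (by rw [orderOf_c0]; norm_num) (by rw [orderOf_c0, Fintype.card_fin]; norm_num)
  obtain ⟨τ, hτ⟩ := isConj_iff.mp (Perm.IsCycle.isConj hc hc0 (by rw [← hc.orderOf, hco, ← hc0.orderOf, orderOf_c0]))
  set G0 : Perm (Fin 8) := ((g : K) : Perm (Fin 8))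
  obtain ⟨k, hk, hgk⟩ : ∃ k < 7, G0 * c * G0⁻¹ = c ^ k := by
    have hmem := (Subgroup.mem_normalizer_iff.mp g.2 (s : K)).mp s.2
    obtain ⟨j, hj⟩ := ((isOfFinOrder_of_finite s).mem_powers_iff_mem_zpowers).mpr (hs ⟨_, hmem⟩)
    refine ⟨j % 7, Nat.mod_lt _ (by norm_num), ?_⟩
    rw [← hco, pow_mod_orderOf]
    exact (congrArg (fun x : P => ((x : K) : Perm (Fin 8))) hj).symm
  set v := τ * G0 * τ⁻¹
  have hvc : v * c0 = c0 ^ k * v := by
    rw [← hτ, conj_pow, ← hgk]; simp only [v]; group
  have hv2 : v * v = 1 := by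
    have : G0 * G0 = 1 := by
      have := congrArg (fun x : Subgroup.normalizer (P : Set K) => ((x : K) : Perm (Fin 8)))
        (show g * g = 1 by rw [← pow_two, ← hg, pow_orderOf_eq_one])
      exact this
    simp only [v]
    calc τ * G0 * τ⁻¹ * (τ * G0 * τ⁻¹) = τ * (G0 * G0) * τ⁻¹ := by group
      _ = 1 := by rw [this]; group
  have hvs : Perm.sign v = 1 := by
    have hG0 : Perm.sign G0 = 1 := Equiv.Perm.mem_alternatingGroup.mp (heven (g : K).2)
    simp only [v, map_mul, map_inv, hG0]
    simp
  have hv1 : v ≠ 1 := by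
    intro e
    have : G0 = 1 := by
      calc G0 = τ⁻¹ * v * τ := by simp only [v]; group
        _ = 1 := by rw [e]; group
    have h1 : g = 1 := Subtype.ext (Subtype.ext this)
    rw [h1, orderOf_one] at hg
    norm_num at hg
  have hk2 : k * k % 7 = 1 := by
    have h1 : v * v * c0 = c0 ^ (k * k) * (v * v) := by
      rw [mul_assoc, hvc, ← mul_assoc, ((show SemiconjBy v c0 (c0 ^ k) from hvc).pow_right k).eq, ← pow_mul, mul_assoc]
    rw [hv2, one_mul, mul_one] at h1
    have := pow_eq_pow_iff_modEq.mp (show c0 ^ (k * k) = c0 ^ 1 by rw [pow_one]; exact h1.symm)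
    rw [orderOf_c0] at this
    exact this
  have hk16 : k ∈ [1, 6] := by
    have : ∀ k < 7, k * k % 7 = 1 → k ∈ [1, 6] := by decide +kernel
    exact this k hk hk2
  have h7 : v 7 = 7 := by
    have e : (c0 ^ k) (v 7) = v 7 := by
      rw [← Perm.mul_apply, ← hvc, Perm.mul_apply, show c0 (7 : Fin 8) = 7 by decide +kernel]
    have : ∀ k ∈ [1, 6], ∀ i : Fin 8, (c0 ^ k) i = i → i = 7 := by decide +kernel
    exact this k hk16 _ e
  have hlt : ∀ i : Fin 8, i ≠ 7 → (i : ℕ) < 7 := fun i hi => by
    have := i.isLt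
    have : (i : ℕ) ≠ 7 := fun e => hi (Fin.ext e)
    omega
  have h0 : v 0 ≠ 7 := fun e => absurd (v.injective (e.trans h7.symm)) (by decide)
  let b : Fin 7 := ⟨v 0, hlt _ h0⟩
  have hb : ∀ i : Fin 8, v i = if i = 7 then 7 else ⟨(k * (i : ℕ) + b) % 7, by omega⟩ := by
    intro i
    rcases eq_or_ne i 7 with rfl | hi
    · rw [if_pos rfl, h7]
    · rw [if_neg hi]
      have e1 : (c0 ^ (i : ℕ)) 0 = i := by
        revert hi; revert i
        decide +kernel
      have e2 : v i = (c0 ^ (k * (i : ℕ))) (v 0) := by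
        conv_lhs => rw [← e1]
        rw [← Perm.mul_apply, ((show SemiconjBy v c0 (c0 ^ k) from hvc).pow_right _).eq, ← pow_mul,
          Perm.mul_apply]
      have e3 : ∀ (j : Fin 8) (n : ℕ), (j : ℕ) < 7 → (((c0 ^ n) j : Fin 8) : ℕ) = (n + j) % 7 := by
        intro j n hj
        induction n with
        | zero => simp; omega
        | succ n ih =>
          have : ∀ j : Fin 8, (j : ℕ) < 7 → (c0 j : ℕ) = ((j : ℕ) + 1) % 7 := by decide +kernel
          rw [pow_succ', Perm.mul_apply, this _ (by rw [ih]; omega), ih]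
          omega
      rw [e2]
      exact Fin.ext (e3 _ _ (hlt _ h0))
  refine hv1 (Equiv.ext fun i => ?_)
  rw [Perm.one_apply, hb i]
  refine aff_involution b k hk16 (fun j => ?_) ?_ i
  · show _ = j
    simp only [← hb]
    rw [← Perm.mul_apply, hv2, Perm.one_apply]
  · have hs' := sign_involution hv2 hvs
    rw [show v.support = Finset.univ.filter (fun j => v j ≠ j) by ext; simp] at hs'
    simpa only [hb] using hs'

theorem order_cases : ∀ K ∈ Nat.divisors 20160, ∀ N ∈ [7, 21], K % 8 = 0 → K % 7 = 0 →
    (K % 5 ≠ 0 ∨ K % 1680 = 0) → K % N = 0 → K / N % 7 = 1 →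
    K = 56 ∨ K = 168 ∨ K = 448 ∨ K = 1344 ∨ K = 2016 ∨ K = 6720 ∨ K = 20160 := by
  have key : ((Nat.divisors 20160).filter fun K =>
      ([7, 21].any fun N => K % 8 == 0 && K % 7 == 0 && (K % 5 != 0 || K % 1680 == 0) && K % N == 0 &&
        K / N % 7 == 1) = true) ⊆ {56, 168, 448, 1344, 2016, 6720, 20160} := by
    decide +kernel
  intro K hK N hN h8 h7 h5 hKN h1
  have h := key (Finset.mem_filter.mpr ⟨hK, List.any_eq_true.mpr ⟨N, hN, by
    simp only [Bool.and_eq_true, Bool.or_eq_true, beq_iff_eq, bne_iff_ne]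
    exact ⟨⟨⟨⟨h8, h7⟩, h5⟩, hKN⟩, h1⟩⟩⟩)
  simpa using h

/-- A transitive subgroup of A8 with order divisible by 5 has order divisible by 1680. -/
theorem dvd_1680 {K : Subgroup (Perm (Fin 8))} [IsPretransitive K (Fin 8)] (h5 : 5 ∣ Nat.card K) :
    1680 ∣ Nat.card K := by
  classical
  haveI : Fact (Nat.Prime 5) := ⟨by norm_num⟩
  obtain ⟨x, hx⟩ := exists_prime_orderOf_dvd_card' 5 h5
  set σ : Perm (Fin 8) := (x : Perm (Fin 8))
  have ho : orderOf σ = 5 := by rw [Subgroup.orderOf_coe, hx]
  have hc : σ.IsCycle := Perm.isCycle_of_prime_order' (by rw [ho]; norm_num) (by rw [ho, Fintype.card_fin]; norm_num)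
  have hs5 : σ.support.card = 5 := by rw [← hc.orderOf, ho]
  obtain ⟨a, ha⟩ : σ.support.Nonempty := Finset.card_pos.mp (by omega)
  have hprim : IsPreprimitive K (Fin 8) := by
    refine ⟨fun {B} hB => ?_⟩
    rcases Set.subsingleton_or_nontrivial B with h | h
    · exact Or.inl h
    right
    obtain ⟨g, hg⟩ := MulAction.exists_smul_eq K h.nonempty.some a
    have hB' : IsBlock K (g • B) := hB.translate g
    have haB : a ∈ g • B := ⟨_, h.nonempty.some_mem, hg⟩
    have hcardB : (g • B).ncard = B.ncard := Set.ncard_smul_set g B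
    have hsub : ∀ i : ℕ, (σ ^ i) a ∈ g • B := by
      intro i
      suffices hfix : x • (g • B) = g • B by
        induction i with
        | zero => simpa using haB
        | succ i ih =>
          rw [pow_succ', Perm.mul_apply, ← hfix]
          exact Set.smul_mem_smul_set ih
      by_contra hne
      have hdisj : ∀ i j : Fin 5, i ≠ j → Disjoint ((x ^ (i : ℕ)) • (g • B)) ((x ^ (j : ℕ)) • (g • B)) := by
        intro i j hij
        refine (isBlock_iff_smul_eq_or_disjoint.mp hB' ((x ^ (j : ℕ))⁻¹ * x ^ (i : ℕ))).elim (fun e => ?_) (fun d => ?_)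
        · exfalso
          rw [mul_smul, inv_smul_eq_iff] at e
          apply hne
          have hstab : x ^ ((i : ℤ) - (j : ℤ)) ∈ stabilizer K (g • B) := by
            rw [mem_stabilizer_iff, zpow_sub, zpow_natCast, zpow_natCast,
              ((Commute.refl x).pow_pow _ _).inv_right.eq, mul_smul, e, inv_smul_smul]
          obtain ⟨u, v, huv⟩ : IsCoprime ((i : ℤ) - (j : ℤ)) 5 := by
            rw [Int.isCoprime_iff_nat_coprime]
            have : ((i : ℤ) - (j : ℤ)).natAbs < 5 ∧ 0 < ((i : ℤ) - (j : ℤ)).natAbs := by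
              have := i.isLt; have := j.isLt
              have : (i : ℕ) ≠ j := fun e => hij (Fin.ext e)
              omega
            exact Nat.Coprime.symm ((Nat.Prime.coprime_iff_not_dvd (by norm_num)).mpr
              (Nat.not_dvd_of_pos_of_lt this.2 this.1))
          have hmem := zpow_mem hstab u
          rw [← zpow_mul, mul_comm, show u * ((i : ℤ) - (j : ℤ)) = 1 - v * 5 by linarith, zpow_sub, zpow_one,
            mul_comm v, zpow_mul, show x ^ (5 : ℤ) = 1 by
              rw [show (5 : ℤ) = ((5 : ℕ) : ℤ) from rfl, zpow_natCast, ← hx, pow_orderOf_eq_one],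
            one_zpow, inv_one, mul_one] at hmem
          exact hmem
        · rw [← Set.disjoint_smul_set (a := x ^ (j : ℕ)), ← mul_smul, mul_inv_cancel_left] at d
          exact d
      have h2 : 2 ≤ (g • B).ncard := by
        rw [hcardB]; exact (Set.one_lt_ncard (Set.toFinite B)).mpr h
      let f : Fin 5 → Finset (Fin 8) := fun i => Set.toFinset ((x ^ (i : ℕ)) • (g • B))
      have hle := Finset.card_le_univ (Finset.univ.biUnion f)
      rw [Finset.card_biUnion (fun i _ j _ hij => Set.disjoint_toFinset.mpr (hdisj i j hij))] at hle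
      have hfc : ∀ i, (f i).card = (g • B).ncard := fun i => by
        rw [← Set.ncard_eq_toFinset_card', Set.ncard_smul_set]
      rw [Finset.sum_congr rfl (fun i _ => hfc i), Finset.sum_const, smul_eq_mul] at hle
      simp only [Finset.card_univ, Fintype.card_fin] at hle
      omega
    have h5' : 5 ≤ (g • B).ncard := by
      have hss : (σ.support : Set (Fin 8)) ⊆ g • B := by
        intro y hy
        obtain ⟨i, rfl⟩ := hc.exists_pow_eq (Perm.mem_support.mp ha) (Perm.mem_support.mp (Finset.mem_coe.mp hy))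
        exact hsub i
      have := Set.ncard_le_ncard hss (Set.toFinite _)
      rwa [Set.ncard_coe_finset, hs5] at this
    have h8 := hB.ncard_dvd_card h.nonempty
    rw [Nat.card_fin] at h8
    rw [hcardB] at h5'
    have : B.ncard = 8 := by
      have := Nat.le_of_dvd (by norm_num) h8
      interval_cases B.ncard <;> norm_num at h8 <;> rfl
    exact (Set.eq_univ_iff_ncard B).mpr (by rw [this, Nat.card_fin])
  let s : Set (Fin 8) := (σ.support : Set (Fin 8))ᶜ
  have hs : s.ncard = 2 + 1 := by
    rw [Set.ncard_compl, Set.ncard_coe_finset, hs5, Nat.card_fin]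
  have hxs : x ∈ fixingSubgroup K s := by
    rw [mem_fixingSubgroup_iff]
    intro y hy
    exact Perm.notMem_support.mp hy
  have htr : IsPretransitive (fixingSubgroup K s) (SubMulAction.ofFixingSubgroup K s) := by
    refine ⟨fun y z => ?_⟩
    have hy : (y : Fin 8) ∈ σ.support := by
      by_contra h; exact SubMulAction.not_mem_of_mem_ofFixingSubgroup y h
    have hz : (z : Fin 8) ∈ σ.support := by
      by_contra h; exact SubMulAction.not_mem_of_mem_ofFixingSubgroup z h
    obtain ⟨i, hi⟩ := hc.exists_pow_eq (Perm.mem_support.mp hy) (Perm.mem_support.mp hz)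
    exact ⟨⟨x ^ i, pow_mem hxs i⟩, Subtype.ext hi⟩
  have hp5 : Nat.card (SubMulAction.ofFixingSubgroup K s) = 5 := by
    rw [← hs5]
    show Nat.card {y // y ∈ SubMulAction.ofFixingSubgroup K s} = _
    rw [← Fintype.card_coe, ← Nat.card_eq_fintype_card]
    exact Nat.card_congr (Equiv.subtypeEquivRight fun y => by simp [SubMulAction.mem_ofFixingSubgroup_iff, s])
  haveI := htr
  have h4 := (hprim.isMultiplyPreprimitive hs (by rw [Nat.card_fin]; norm_num)
    (IsPreprimitive.of_prime_card (by rw [hp5]; norm_num))).isMultiplyPretransitive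
  obtain ⟨e⟩ : Nonempty (Fin (2 + 2) ↪ Fin 8) := ⟨⟨fun i => ⟨i, by omega⟩, fun i j h => Fin.ext (Fin.mk.inj_iff.mp h)⟩⟩
  have h2 := @index_stabilizer_of_transitive _ _ _ _ e h4
  have h1 : Nat.card (Fin (2 + 2) ↪ Fin 8) ∣ Nat.card K := h2 ▸ Subgroup.index_dvd_card _
  rwa [Nat.card_eq_fintype_card, Fintype.card_embedding_eq, Fintype.card_fin,
    Fintype.card_fin, show (8 : ℕ).descFactorial (2 + 2) = 1680 by decide] at h1

theorem dvd_seven_or_five {X : Type*} [Group X] [Finite X] (h : Nat.card X ∣ 20160) (hns : ¬ Group.IsSolvable X) :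
    7 ∣ Nat.card X ∨ 5 ∣ Nat.card X := by
  by_contra hc
  push Not at hc
  apply hns
  have key : ∀ d ∈ Nat.divisors 20160, ¬ 7 ∣ d → ¬ 5 ∣ d → ∃ a < 7, ∃ b < 3, d = 2 ^ a * 3 ^ b := by
    decide +kernel
  obtain ⟨a, -, b, -, e⟩ := key _ (Nat.mem_divisors.mpr ⟨h, by norm_num⟩) hc.1 hc.2
  exact isSolvable_two a b Nat.prime_two Nat.prime_three e

theorem card_A8 : Nat.card (alternatingGroup (Fin 8)) = 20160 := by
  have := card_alt (α := Fin 8) 8 (by simp) (by norm_num)
  rw [show Nat.factorial 8 = 40320 from rfl] at this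
  omega

/-- Degree eight, in the alternating group, given the exclusion of order 1344. -/
theorem listed_eight {K : Subgroup (Perm (Fin 8))} [IsPretransitive K (Fin 8)]
    (heven : K ≤ alternatingGroup (Fin 8)) (hns : ¬ Group.IsSolvable K) (hr : RadFree K)
    (h1344 : Nat.card K ≠ 1344) : Listed K := by
  have hdvd : Nat.card K ∣ 20160 := by rw [← card_A8]; exact Subgroup.card_dvd_of_le heven
  have h8 : 8 ∣ Nat.card K := by
    have := (stabilizer K (0 : Fin 8)).index_dvd_card
    rwa [index_stabilizer_of_transitive, Nat.card_fin] at this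
  have h7 : 7 ∣ Nat.card K := (dvd_seven_or_five hdvd hns).elim id fun h => (by norm_num : 7 ∣ 1680).trans (dvd_1680 h)
  haveI : Fact (Nat.Prime 7) := ⟨by norm_num⟩
  obtain ⟨P⟩ : Nonempty (Sylow 7 K) := inferInstance
  have hP : Nat.card P = 7 := SmallOrder.card_sylow_eq (k := 1) P (by simpa using h7)
    fun h => absurd (h.trans hdvd) (by norm_num)
  set N := Subgroup.normalizer ((P : Subgroup K) : Set K)
  have hN2 := odd_normalizer heven (P : Subgroup K) hP
  have hN7 : 7 ∣ Nat.card N := hP ▸ Subgroup.card_dvd_of_le Subgroup.le_normalizer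
  have hcent : Nat.card ↥(Subgroup.normalizerMonoidHom (P : Subgroup K)).ker = 7 := by
    refine le_antisymm ?_ ?_
    · haveI : IsCyclic (P : Subgroup K) := isCyclic_of_prime_card hP
      obtain ⟨s, hs⟩ := IsCyclic.exists_generator (α := (P : Subgroup K))
      set c : Perm (Fin 8) := ((s : K) : Perm (Fin 8))
      have hco : orderOf c = 7 := by
        rw [Subgroup.orderOf_coe, Subgroup.orderOf_coe, orderOf_eq_card_of_forall_mem_zpowers hs]; exact hP
      have hc : c.IsCycle :=
        Perm.isCycle_of_prime_order' (by rw [hco]; norm_num) (by rw [hco, Fintype.card_fin]; norm_num)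
      have hcs : c.support.card = 7 := by rw [← hc.orderOf, hco]
      obtain ⟨f0, hf0⟩ : ∃ f0, c.supportᶜ = {f0} := Finset.card_eq_one.mp (by
        rw [Finset.card_compl, hcs, Fintype.card_fin])
      obtain ⟨a, ha⟩ : c.support.Nonempty := Finset.card_pos.mp (by omega)
      let ev : ↥(Subgroup.normalizerMonoidHom (P : Subgroup K)).ker → ↥c.support := fun g =>
        ⟨((g : N) : K).1 a, by
          have hcomm : ((g : N) : K) * (s : K) * ((g : N) : K)⁻¹ = (s : K) :=
            congrArg Subtype.val (DFunLike.congr_fun g.2 s)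
          have hc' : Commute (((g : N) : K) : Perm (Fin 8)) c :=
            congrArg Subtype.val (mul_inv_eq_iff_eq_mul.mp hcomm)
          rw [Perm.mem_support] at ha ⊢
          intro e
          apply ha
          apply ((g : N) : K).1.injective
          rw [← Perm.mul_apply, hc'.eq, Perm.mul_apply, e]⟩
      have hev : Function.Injective ev := by
        intro g g' e
        refine Subtype.ext (Subtype.ext (Subtype.ext (Equiv.ext fun y => ?_)))
        have hcc : ∀ g : ↥(Subgroup.normalizerMonoidHom (P : Subgroup K)).ker,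
            Commute (((g : N) : K) : Perm (Fin 8)) c := fun g =>
          congrArg Subtype.val (mul_inv_eq_iff_eq_mul.mp (congrArg Subtype.val (DFunLike.congr_fun g.2 s)))
        by_cases hy : y ∈ c.support
        · obtain ⟨i, rfl⟩ := hc.exists_pow_eq (Perm.mem_support.mp ha) (Perm.mem_support.mp hy)
          rw [← Perm.mul_apply, ← Perm.mul_apply, ((hcc g).pow_right i).eq, ((hcc g').pow_right i).eq,
            Perm.mul_apply, Perm.mul_apply]
          exact congrArg _ (congrArg Subtype.val e :)
        · have hfix : ∀ g : ↥(Subgroup.normalizerMonoidHom (P : Subgroup K)).ker,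
              (((g : N) : K) : Perm (Fin 8)) y = y := by
            intro g
            have h1 : (((g : N) : K) : Perm (Fin 8)) y ∈ c.supportᶜ := by
              rw [Finset.mem_compl, Perm.notMem_support, ← Perm.mul_apply, ← (hcc g).eq, Perm.mul_apply,
                Perm.notMem_support.mp hy]
            rw [hf0, Finset.mem_singleton] at h1
            have h2 : y ∈ c.supportᶜ := Finset.mem_compl.mpr hy
            rw [hf0, Finset.mem_singleton] at h2
            rw [h1, h2]
          rw [hfix g, hfix g']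
      have := Nat.card_le_card_of_injective ev hev
      rwa [Nat.card_eq_fintype_card (α := ↥c.support), Fintype.card_coe, hcs] at this
    · refine hP.ge.trans' le_rfl |>.trans ?_
      haveI : IsCyclic (P : Subgroup K) := isCyclic_of_prime_card hP
      refine Nat.card_le_card_of_injective
        (fun p : (P : Subgroup K) => (⟨⟨p, Subgroup.le_normalizer p.2⟩, ?_⟩ :
          (Subgroup.normalizerMonoidHom (P : Subgroup K)).ker)) ?_
      · refine MulEquiv.ext fun q => Subtype.ext ?_
        show (p : K) * q * (p : K)⁻¹ = q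
        rw [← Subgroup.coe_mul, (((inferInstance : IsMulCommutative (P : Subgroup K))).is_comm.comm p q), Subgroup.coe_mul,
          mul_inv_cancel_right]
      · intro p q e
        exact Subtype.ext (congrArg (fun z : (Subgroup.normalizerMonoidHom (P : Subgroup K)).ker => ((z : N) : K)) e)
  have hNcases : Nat.card N ∈ [7, 21] := by
    have h1 : Nat.card N = 7 * Nat.card (Subgroup.normalizerMonoidHom (P : Subgroup K)).range := by
      have h := (Subgroup.normalizerMonoidHom (P : Subgroup K)).ker.card_mul_index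
      rw [hcent, Subgroup.index_ker] at h
      exact h.symm
    have h2 : Nat.card (Subgroup.normalizerMonoidHom (P : Subgroup K)).range ∣ 6 := by
      haveI : IsCyclic (P : Subgroup K) := isCyclic_of_prime_card hP
      have h := (Subgroup.normalizerMonoidHom (P : Subgroup K)).range.card_subgroup_dvd_card
      rwa [IsCyclic.card_mulAut, show Nat.card (P : Subgroup K) = 7 from hP, Nat.totient_prime (by norm_num)] at h
    have h3 : Nat.card (Subgroup.normalizerMonoidHom (P : Subgroup K)).range ∈ Nat.divisors 6 :=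
      Nat.mem_divisors.mpr ⟨h2, by norm_num⟩
    rw [h1]
    rw [h1] at hN2
    generalize Nat.card (Subgroup.normalizerMonoidHom (P : Subgroup K)).range = r at h3 hN2 ⊢
    revert hN2; revert r
    decide +kernel
  have hmul := SmallOrder.card_normalizer_mul_card_sylow P
  have hn7 : Nat.card (Sylow 7 K) % 7 = 1 := card_sylow_modEq_one 7 K
  have hdivN : Nat.card N ∣ Nat.card K := ⟨_, hmul.symm⟩
  have hq : Nat.card K / Nat.card N % 7 = 1 := by
    rw [show Nat.card K = Nat.card N * Nat.card (Sylow 7 K) from hmul.symm, Nat.mul_div_cancel_left _ Nat.card_pos, hn7]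
  have h1680 : Nat.card K % 5 ≠ 0 ∨ Nat.card K % 1680 = 0 := by
    by_cases h : 5 ∣ Nat.card K
    · exact Or.inr (Nat.mod_eq_zero_of_dvd (dvd_1680 h))
    · exact Or.inl fun e => h (Nat.dvd_of_mod_eq_zero e)
  rcases order_cases _ (Nat.mem_divisors.mpr ⟨hdvd, by norm_num⟩) _ hNcases (Nat.mod_eq_zero_of_dvd h8)
    (Nat.mod_eq_zero_of_dvd h7) h1680 (Nat.mod_eq_zero_of_dvd hdivN) hq
    with e | e | e | e | e | e | e
  · exact absurd (isSolvable_two 3 1 Nat.prime_two (by norm_num : Nat.Prime 7) (by rw [e]; norm_num)) hns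
  · haveI := isSimple_of_radFree (Or.inr rfl) e hr
    haveI := Order168.gl32.1
    exact Or.inr (Or.inr (Or.inr (Order168.nonempty_mulEquiv e Order168.gl32.2)))
  · exact absurd (isSolvable_two 6 1 Nat.prime_two (by norm_num : Nat.Prime 7) (by rw [e]; norm_num)) hns
  · exact absurd e h1344
  · exfalso
    refine hns ?_
    -- the normaliser of a Sylow 7-subgroup is abelian
    have hN : Nat.card N = 7 := by
      rcases List.mem_cons.mp hNcases with h | h
      · exact h
      · simp only [List.mem_singleton] at h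
        rw [e, h] at hq; norm_num at hq
    have hle : Subgroup.normalizer ((P : Subgroup K) : Set K) ≤ Subgroup.centralizer ((P : Subgroup K) : Set K) := by
      have hPN : (P : Subgroup K) = N := Subgroup.eq_of_le_of_card_ge Subgroup.le_normalizer (by rw [hN]; exact hP.ge)
      haveI : IsCyclic (P : Subgroup K) := isCyclic_of_prime_card hP
      show N ≤ _
      rw [← hPN]
      intro p hp q hq
      exact congrArg Subtype.val (((inferInstance : IsMulCommutative (P : Subgroup K))).is_comm.comm ⟨q, hq⟩ ⟨p, hp⟩)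
    set T := MonoidHom.transferSylow P hle
    haveI : Group.IsSolvable T.ker := by
      have h := (MonoidHom.ker_transferSylow_isComplement' P hle).card_mul_card
      change Nat.card T.ker * Nat.card P = _ at h
      rw [hP, e] at h
      exact isSolvable_two 5 2 Nat.prime_two Nat.prime_three (by
        show Nat.card T.ker = _
        omega)
    haveI : Group.IsSolvable (P : Subgroup K) :=
      isSolvable_two 1 0 (by norm_num : Nat.Prime 7) Nat.prime_two (by rw [show Nat.card (P : Subgroup K) = 7 from hP]; norm_num)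
    exact Group.isSolvable_of_ker_le_range T.ker.subtype T (by simp)
  all_goals
    have hle : alternatingGroup (Fin 8) ≤ K := by
      refine alternatingGroup_le_of_index (m := 8) (by simp) (by norm_num) ?_
      rw [inf_eq_left.mpr heven]
      have h := (K.subgroupOf (alternatingGroup (Fin 8))).card_mul_index
      rw [Nat.card_congr (Subgroup.subgroupOfEquivOfLe heven).toEquiv, e, card_A8] at h
      rw [card_A8]
      intro hd
      have h3 : (K.subgroupOf (alternatingGroup (Fin 8))).index ≤ 3 := by omega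
      exact absurd (hd.trans (Nat.factorial_dvd_factorial h3)) (by decide)
    exact Or.inl ⟨8, by norm_num, le_rfl, ⟨MulEquiv.subgroupCongr (le_antisymm heven hle)⟩⟩

end Eight

end CfsgLib.EightSubgroups
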