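import Mathlib

/-! Elements of order `2` and `15` in `PSL₃(4)`. -/

set_option autoImplicit false
set_option linter.style.haveILetI false
set_option linter.unusedSectionVars false

namespace CfsgLib.PSL34

open Matrix Module

variable {F : Type*} [Field F] [Fintype F] (hF : Fintype.card F = 4)

local notation "SL3" => Matrix.SpecialLinearGroup (Fin 3) F
local notation "mkP" => QuotientGroup.mk' (Subgroup.center (Matrix.SpecialLinearGroup (Fin 3) F))

include hF

theorem char_two : CharP F 2 := by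
  obtain ⟨p, hp⟩ := CharP.exists F
  obtain ⟨n, hpp, hn⟩ := FiniteField.card F p
  have : p ∣ 4 := by rw [← hF, hn]; exact dvd_pow_self p n.ne_zero
  obtain rfl := (Nat.prime_dvd_prime_iff_eq hpp Nat.prime_two).mp (hpp.dvd_of_dvd_pow (n := 2) (by norm_num [this]))
  exact hp

theorem pow_four (a : F) : a ^ 4 = a := hF ▸ FiniteField.pow_card a

theorem cube {a : F} (ha : a ≠ 0) : a ^ 3 = 1 :=
  mul_left_cancel₀ ha (by rw [← pow_succ', mul_one]; exact pow_four hF a)

theorem mkP_eq_one {X : SL3} : mkP X = 1 ↔ ∃ r : F, r ^ 3 = 1 ∧ X.1 = r • (1 : Matrix (Fin 3) (Fin 3) F) := by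
  rw [QuotientGroup.mk'_apply, QuotientGroup.eq_one_iff, Matrix.SpecialLinearGroup.mem_center_iff]
  simp only [Fintype.card_fin]
  constructor
  · rintro ⟨r, hr, h⟩
    exact ⟨r, hr, by rw [← h, Matrix.smul_one_eq_diagonal]; rfl⟩
  · rintro ⟨r, hr, h⟩
    exact ⟨r, hr, by rw [h, Matrix.smul_one_eq_diagonal]; rfl⟩

/-- A lift of an involution is conjugate to the standard transvection, after a central correction. -/
theorem involution_normal {X : SL3} (h : X * X = 1) (hne : X ≠ 1) :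
    ∃ g : SL3, (g⁻¹ * X * g).1 = !![1, 0, 1; 0, 1, 0; 0, 0, 1] := by
  classical
  haveI := char_two hF
  set N := X.1 - 1 with hN
  have hX2 : X.1 * X.1 = 1 := congrArg Subtype.val h
  have hNN : N * N = 0 := by
    have hAA : ∀ A : Matrix (Fin 3) (Fin 3) F, A + A = 0 := fun A => by
      ext i j; exact CharTwo.add_self_eq_zero _
    calc N * N = (X.1 * X.1 + 1) - (X.1 + X.1) := by rw [hN]; noncomm_ring
      _ = 0 := by rw [hX2, hAA, hAA, sub_zero]
  have hN0 : N ≠ 0 := fun e => hne (Subtype.ext (sub_eq_zero.mp e))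
  obtain ⟨z, hz⟩ : ∃ z, N *ᵥ z ≠ 0 := by
    by_contra e
    push Not at e
    exact hN0 (Matrix.ext_of_mulVec_single fun i => by rw [e, zero_mulVec])
  set u := N *ᵥ z with hu
  have hNu : N *ᵥ u = 0 := by rw [hu, mulVec_mulVec, hNN, zero_mulVec]
  let L := N.mulVecLin
  have hker : 2 ≤ finrank F (LinearMap.ker L) := by
    have h1 := L.finrank_range_add_finrank_ker
    have h2 : LinearMap.range L ≤ LinearMap.ker L := by
      rintro _ ⟨x, rfl⟩
      show N *ᵥ (N *ᵥ x) = 0
      rw [mulVec_mulVec, hNN, zero_mulVec]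
    have h3 := Submodule.finrank_mono h2
    rw [finrank_pi, Fintype.card_fin] at h1
    omega
  obtain ⟨w, hw, hwu⟩ : ∃ w, N *ᵥ w = 0 ∧ w ∉ Submodule.span F {u} := by
    by_contra! e
    have : LinearMap.ker L ≤ Submodule.span F {u} := fun x hx => e x hx
    have := Submodule.finrank_mono this
    rw [finrank_span_singleton hz] at this
    omega
  let P : Matrix (Fin 3) (Fin 3) F := Matrix.of fun i j => (![u, w, z] j) i
  have hPv : ∀ c : Fin 3 → F, P *ᵥ c = c 0 • u + c 1 • w + c 2 • z := fun c => by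
    funext i
    simp [P, Matrix.mulVec, dotProduct, Fin.sum_univ_three]
    ring
  have hdet : P.det ≠ 0 := by
    intro e
    obtain ⟨c, hc, hc0⟩ := Matrix.exists_mulVec_eq_zero_iff.mpr e
    rw [hPv] at hc0
    have h2 : c 2 = 0 := by
      have := congrArg (N *ᵥ ·) hc0
      simp only [mulVec_add, mulVec_smul, hNu, hw, smul_zero, zero_add, mulVec_zero, ← hu] at this
      exact (smul_eq_zero.mp this).resolve_right hz
    rw [h2, zero_smul, add_zero] at hc0
    have h1 : c 1 = 0 := by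
      by_contra h1
      refine hwu (Submodule.mem_span_singleton.mpr ⟨-(c 1)⁻¹ * c 0, ?_⟩)
      have := congrArg ((c 1)⁻¹ • ·) hc0
      simp only [smul_add, smul_smul, inv_mul_cancel₀ h1, one_smul, smul_zero] at this
      rw [neg_mul, neg_smul]
      exact (eq_neg_of_add_eq_zero_right this).symm
    rw [h1, zero_smul, add_zero] at hc0
    have h0 : c 0 = 0 := (smul_eq_zero.mp hc0).resolve_right hz
    exact hc (funext fun i => by fin_cases i <;> assumption)
  let G : Matrix (Fin 3) (Fin 3) F := P * Matrix.diagonal ![1, P.det⁻¹, 1]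
  have hG : G.det = 1 := by
    simp [G, Matrix.det_mul, Matrix.det_diagonal, Fin.prod_univ_three, hdet]
  refine ⟨(⟨G, hG⟩ : SL3), ?_⟩
  let T : Matrix (Fin 3) (Fin 3) F := !![1, 0, 1; 0, 1, 0; 0, 0, 1]
  have hGv : ∀ c : Fin 3 → F, G *ᵥ c = c 0 • u + (P.det⁻¹ * c 1) • w + c 2 • z := fun c => by
    show (P * Matrix.diagonal ![1, P.det⁻¹, 1]) *ᵥ c = _
    rw [← mulVec_mulVec, hPv]
    simp [Matrix.mulVec_diagonal]
  have hXv : ∀ x, X.1 *ᵥ x = x + N *ᵥ x := fun x => by
    rw [hN, sub_mulVec, one_mulVec]; abel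
  have key : X.1 * G = G * T := by
    refine Matrix.ext_of_mulVec_single fun i => ?_
    rw [show (X.1 * G) *ᵥ Pi.single i 1 = X.1 *ᵥ (G *ᵥ Pi.single i 1) from (mulVec_mulVec _ _ _).symm,
      show (G * T) *ᵥ Pi.single i 1 = G *ᵥ (T *ᵥ Pi.single i 1) from (mulVec_mulVec _ _ _).symm, hXv, hGv, hGv, mulVec_add, mulVec_add, mulVec_smul, mulVec_smul,
      mulVec_smul, hNu, hw, ← hu]
    fin_cases i <;> simp [T, Matrix.mulVec, dotProduct, Fin.sum_univ_three, add_comm]
  let g : SL3 := ⟨G, hG⟩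
  let t : SL3 := ⟨T, by simp [T, Matrix.det_fin_three]⟩
  show (g⁻¹ * X * g).1 = t.1
  have : X * g = g * t := Subtype.ext key
  rw [mul_assoc, this, inv_mul_cancel_left]

theorem involutions_conj {x y : SL3 ⧸ Subgroup.center SL3} (hx : orderOf x = 2) (hy : orderOf y = 2) : IsConj x y := by
  classical
  haveI := char_two hF
  have key : ∀ x : SL3 ⧸ Subgroup.center SL3, orderOf x = 2 → ∃ T : SL3,
      T.1 = !![1, 0, 1; 0, 1, 0; 0, 0, 1] ∧ IsConj x (mkP T) := by
    intro x hx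
    obtain ⟨X, rfl⟩ := QuotientGroup.mk'_surjective _ x
    have h2 : mkP (X * X) = 1 := by rw [map_mul, ← pow_two, ← hx, pow_orderOf_eq_one]
    obtain ⟨r, hr, hX⟩ := (mkP_eq_one hF).mp h2
    -- correct by a scalar
    let Z : SL3 := ⟨r • 1, by rw [Matrix.det_smul, Fintype.card_fin, hr, Matrix.det_one, mul_one]⟩
    have hZ : mkP Z = 1 := (mkP_eq_one hF).mpr ⟨r, hr, rfl⟩
    have hsq : (Z * X) * (Z * X) = 1 := Subtype.ext (by
      show (r • 1) * X.1 * ((r • 1) * X.1) = 1
      have e : (X * X).1 = X.1 * X.1 := rfl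
      rw [e] at hX
      simp only [Matrix.smul_mul, Matrix.one_mul, Matrix.mul_smul, smul_smul, hX]
      rw [show r * (r * r) = r ^ 3 by ring, hr, one_smul])
    have hne : Z * X ≠ 1 := fun e => by
      have := congrArg mkP e
      rw [map_mul, hZ, one_mul, map_one] at this
      rw [this, orderOf_one] at hx
      omega
    obtain ⟨g, hg⟩ := involution_normal hF hsq hne
    refine ⟨_, hg, isConj_iff.mpr ⟨(mkP g)⁻¹, ?_⟩⟩
    rw [map_mul, map_mul, map_inv, map_mul, hZ, one_mul, inv_inv]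
  obtain ⟨T, hT, h1⟩ := key x hx
  obtain ⟨T', hT', h2⟩ := key y hy
  exact h1.trans ((Subtype.ext (hT.trans hT'.symm) : T = T') ▸ h2.symm)

theorem no_fifteen (x : SL3 ⧸ Subgroup.center SL3) : orderOf x ≠ 15 := by
  classical
  haveI := char_two hF
  intro hx
  obtain ⟨X, rfl⟩ := QuotientGroup.mk'_surjective _ x
  obtain ⟨r, hr, hX⟩ := (mkP_eq_one hF).mp (show mkP (X ^ 15) = 1 by rw [map_pow, ← hx, pow_orderOf_eq_one])
  have h45 : X ^ 45 = 1 := Subtype.ext (by
    rw [show 45 = 15 * 3 from rfl, pow_mul, Matrix.SpecialLinearGroup.coe_pow, hX, smul_pow, hr, one_pow, one_smul]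
    rfl)
  have hne : ∀ k, ¬ 15 ∣ k → mkP (X ^ k) ≠ 1 := fun k hk e => hk (by
    rw [← hx]; exact orderOf_dvd_of_pow_eq_one (by rw [← map_pow]; exact e))
  set Y := (X ^ 9 : SL3).1 with hY
  set Z := (X ^ 5 : SL3).1 with hZ
  have hY5 : Y ^ 5 = 1 := by
    rw [hY, ← Matrix.SpecialLinearGroup.coe_pow, ← pow_mul, h45]; rfl
  have hYns : Y ≠ 1 := fun e => hne 9 (by norm_num) (by
    rw [show X ^ 9 = 1 from Subtype.ext e, map_one])
  have hZY : Z * Y = Y * Z := by
    show (X ^ 5 * X ^ 9 : SL3).1 = (X ^ 9 * X ^ 5 : SL3).1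
    rw [← pow_add, ← pow_add]
  have hZ3 : ∃ ν : F, Z ^ 3 = ν • 1 := ⟨r, by
    rw [hZ, ← Matrix.SpecialLinearGroup.coe_pow, ← pow_mul]; exact hX⟩
  -- the projection to the fixed vectors
  set S : Matrix (Fin 3) (Fin 3) F := 1 + Y + Y ^ 2 + Y ^ 3 + Y ^ 4 with hS
  have hYS : Y * S = S := by
    calc Y * S = Y + Y ^ 2 + Y ^ 3 + Y ^ 4 + Y ^ 5 := by rw [hS]; noncomm_ring
      _ = S := by rw [hY5, hS]; abel
  have hSY : S * Y = S := by
    calc S * Y = Y + Y ^ 2 + Y ^ 3 + Y ^ 4 + Y ^ 5 := by rw [hS]; noncomm_ring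
      _ = S := by rw [hY5, hS]; abel
  have h5 : ∀ v, Y *ᵥ v = v → S *ᵥ v = v := by
    intro v hv
    have hp : ∀ k : ℕ, Y ^ k *ᵥ v = v := fun k => by
      induction k with
      | zero => simp
      | succ k ih => rw [pow_succ, ← mulVec_mulVec, hv, ih]
    rw [hS]
    simp only [add_mulVec, one_mulVec, hp, hv]
    funext i
    simp [CharTwo.add_self_eq_zero]
  have hS1 : S ≠ 1 := fun e => hYns (by rw [e, mul_one] at hYS; exact hYS)
  obtain ⟨v, hv⟩ : ∃ v, S *ᵥ v ≠ v := by
    by_contra e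
    push Not at e
    exact hS1 (Matrix.ext_of_mulVec_single fun i => by rw [e, one_mulVec])
  set u := v - S *ᵥ v with hu
  have hSu : S *ᵥ u = 0 := by
    rw [hu, mulVec_sub, h5 (S *ᵥ v) (by rw [mulVec_mulVec, hYS]), sub_self]
  have hu0 : u ≠ 0 := fun e => hv (sub_eq_zero.mp (hu ▸ e)).symm
  have hindep2 : ∀ a b : F, a • u + b • (Y *ᵥ u) = 0 → a = 0 ∧ b = 0 := by
    intro a b e
    rcases eq_or_ne b 0 with rfl | hb
    · rw [zero_smul, add_zero] at e
      exact ⟨(smul_eq_zero.mp e).resolve_right hu0, rfl⟩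
    exfalso
    set β := -(b⁻¹ * a)
    have hYu : Y *ᵥ u = β • u := by
      have := congrArg (b⁻¹ • ·) e
      simp only [smul_add, smul_smul, inv_mul_cancel₀ hb, one_smul, smul_zero] at this
      rw [eq_neg_of_add_eq_zero_right this, neg_smul]
    have hp : ∀ k : ℕ, Y ^ k *ᵥ u = β ^ k • u := fun k => by
      induction k with
      | zero => simp
      | succ k ih => rw [pow_succ, ← mulVec_mulVec, hYu, mulVec_smul, ih, smul_smul, ← pow_succ']
    have h1 := hp 5
    rw [hY5, one_mulVec] at h1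
    have hβ5 : β ^ 5 = 1 := (smul_left_injective F hu0 (h1.symm.trans (one_smul F u).symm))
    have hβ : β = 1 := by
      rw [pow_succ, pow_four hF] at hβ5
      have hb0 : β ≠ 0 := fun e0 => by rw [e0, zero_mul] at hβ5; exact zero_ne_one hβ5
      calc β = β ^ 4 := (pow_four hF β).symm
        _ = (β * β) ^ 2 := by ring
        _ = 1 := by rw [hβ5, one_pow]
    rw [hβ, one_smul] at hYu
    exact hu0 ((h5 u hYu).symm.trans hSu)
  obtain ⟨e, he0, heY⟩ : ∃ e, e ≠ 0 ∧ Y *ᵥ e = e := by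
    by_contra hcon
    push Not at hcon
    have hS0 : ∀ w, S *ᵥ w = 0 := fun w => by
      by_contra h
      exact hcon _ h (by rw [mulVec_mulVec, hYS])
    -- then `Y` has order five without fixed vectors on sixty-four vectors
    let f : (Fin 3 → F) → (Fin 3 → F) := fun w => Y *ᵥ w
    let σ : Equiv.Perm (Fin 3 → F) :=
      ⟨f, fun w => Y ^ 4 *ᵥ w, fun w => by
        show Y ^ 4 *ᵥ (Y *ᵥ w) = w
        rw [mulVec_mulVec, ← pow_succ, hY5, one_mulVec], fun w => by
        show Y *ᵥ (Y ^ 4 *ᵥ w) = w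
        rw [mulVec_mulVec, ← pow_succ', hY5, one_mulVec]⟩
    have hσv : ∀ k : ℕ, ∀ w, (σ ^ k) w = Y ^ k *ᵥ w := fun k => by
      induction k with
      | zero => intro w; simp
      | succ k ih =>
        intro w
        rw [pow_succ', Equiv.Perm.mul_apply, ih, pow_succ', ← mulVec_mulVec]
        rfl
    haveI : Fact (Nat.Prime 5) := ⟨by norm_num⟩
    have hdiv : σ ^ 5 ^ 1 = 1 := Equiv.ext fun w => by rw [pow_one, hσv, hY5, one_mulVec]; rfl
    have := σ.card_compl_support_modEq (p := 5) (n := 1) hdiv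
    have hsup : σ.supportᶜ = {0} := by
      ext w
      rw [Finset.mem_compl, Equiv.Perm.mem_support, not_not, Finset.mem_singleton]
      constructor
      · intro h
        by_contra hw
        exact hcon w hw h
      · rintro rfl
        exact mulVec_zero Y
    rw [hsup, Finset.card_singleton, Fintype.card_fun, hF, Fintype.card_fin] at this
    exact absurd this (by decide)
  have hSe : S *ᵥ e = e := h5 e heY
  let P : Matrix (Fin 3) (Fin 3) F := Matrix.of fun i j => (![e, u, Y *ᵥ u] j) i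
  have hPv : ∀ c : Fin 3 → F, P *ᵥ c = c 0 • e + c 1 • u + c 2 • (Y *ᵥ u) := fun c => by
    funext i
    simp [P, Matrix.mulVec, dotProduct, Fin.sum_univ_three]
    ring
  have hSYu : S *ᵥ (Y *ᵥ u) = 0 := by rw [mulVec_mulVec, hSY, hSu]
  have hSc : ∀ a b c : F, S *ᵥ (a • e + b • u + c • (Y *ᵥ u)) = a • e := fun a b c => by
    simp only [mulVec_add, mulVec_smul, hSe, hSu, hSYu, smul_zero, add_zero]
  have hdet : P.det ≠ 0 := by
    intro h0
    obtain ⟨c, hc, hc0⟩ := Matrix.exists_mulVec_eq_zero_iff.mpr h0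
    rw [hPv] at hc0
    have hc1 := congrArg (S *ᵥ ·) hc0
    simp only [hSc, mulVec_zero] at hc1
    have hz0 : c 0 = 0 := (smul_eq_zero.mp hc1).resolve_right he0
    rw [hz0, zero_smul, zero_add] at hc0
    obtain ⟨h1, h2⟩ := hindep2 _ _ hc0
    exact hc (funext fun i => by fin_cases i <;> assumption)
  have hspan : ∀ w, ∃ a b c : F, w = a • e + b • u + c • (Y *ᵥ u) := fun w => by
    refine ⟨(P⁻¹ *ᵥ w) 0, (P⁻¹ *ᵥ w) 1, (P⁻¹ *ᵥ w) 2, ?_⟩
    rw [← hPv, mulVec_mulVec, Matrix.mul_nonsing_inv P (isUnit_iff_ne_zero.mpr hdet), one_mulVec]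
  -- the characteristic equation of `Y` on the complement
  have hcomm : ∀ w, Z *ᵥ (Y *ᵥ w) = Y *ᵥ (Z *ᵥ w) := fun w => by rw [mulVec_mulVec, mulVec_mulVec, hZY]
  obtain ⟨α, β, γ, hY2⟩ := hspan (Y *ᵥ (Y *ᵥ u))
  have hα : α = 0 := by
    have := congrArg (S *ᵥ ·) hY2
    simp only [hSc] at this
    rw [mulVec_mulVec, hSY, hSYu] at this
    exact (smul_eq_zero.mp this.symm).resolve_right he0
  rw [hα, zero_smul, zero_add] at hY2
  have hβ : β = 1 := by
    have hYP : Y * P = P * !![1, 0, 0; 0, 0, β; 0, 1, γ] := by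
      refine Matrix.ext_of_mulVec_single fun i => ?_
      rw [← mulVec_mulVec, ← mulVec_mulVec, hPv, hPv, mulVec_add, mulVec_add, mulVec_smul, mulVec_smul,
        mulVec_smul, heY, hY2]
      fin_cases i <;> simp [Matrix.mulVec, dotProduct, Fin.sum_univ_three]
    have h1 := congrArg Matrix.det hYP
    rw [Matrix.det_mul, Matrix.det_mul, show Y.det = 1 from (X ^ 9).2, one_mul, eq_comm] at h1
    have h2 := (mul_eq_left₀ hdet).mp h1
    simpa [Matrix.det_fin_three, CharTwo.neg_eq] using h2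
  rw [hβ, one_smul] at hY2
  have hγ : γ ^ 2 + γ + 1 = 0 := by
    have h5' : Y *ᵥ (Y *ᵥ (Y *ᵥ (Y *ᵥ (Y *ᵥ u)))) = u := by
      simp only [mulVec_mulVec]
      rw [show Y * (Y * (Y * (Y * Y))) = Y ^ 5 by noncomm_ring, hY5, one_mulVec]
    simp only [hY2, mulVec_add, mulVec_smul] at h5'
    have hfin : (γ ^ 3 + 1) • u + (γ ^ 4 + γ ^ 2 + 1) • (Y *ᵥ u) = 0 := by
      have h6 := sub_eq_zero.mpr h5'
      rw [← h6]
      have h1 : (1 : F) + 1 = 0 := CharTwo.add_self_eq_zero 1
      funext i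
      simp only [Pi.add_apply, Pi.smul_apply, Pi.sub_apply, smul_eq_mul]
      linear_combination (u i - γ * u i - γ ^ 2 * (Y *ᵥ u) i) * h1
    obtain ⟨-, h2⟩ := hindep2 _ _ hfin
    rw [pow_four hF] at h2
    linear_combination h2
  -- `Z` on the basis
  obtain ⟨c, hc⟩ : ∃ c : F, Z *ᵥ e = c • e := by
    obtain ⟨a, b, d, hd⟩ := hspan (Z *ᵥ e)
    refine ⟨a, ?_⟩
    have h1 := h5 (Z *ᵥ e) (by rw [← hcomm, heY])
    rw [hd, hSc] at h1
    rw [hd, ← h1]
  obtain ⟨p, a, b, hZu⟩ := hspan (Z *ᵥ u)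
  have hSZ : Z * S = S * Z := by
    have h : Commute Z Y := hZY
    exact ((((Commute.one_right Z).add_right h).add_right (h.pow_right 2)).add_right (h.pow_right 3)).add_right
      (h.pow_right 4)
  have hp : p = 0 := by
    have := congrArg (S *ᵥ ·) hZu
    simp only [hSc] at this
    rw [mulVec_mulVec, ← hSZ, ← mulVec_mulVec, hSu, mulVec_zero] at this
    exact (smul_eq_zero.mp this.symm).resolve_right he0
  rw [hp, zero_smul, zero_add] at hZu
  have hZYu : Z *ᵥ (Y *ᵥ u) = b • u + (a + b * γ) • (Y *ᵥ u) := by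
    rw [hcomm, hZu, mulVec_add, mulVec_smul, mulVec_smul, hY2]
    module
  have hb : b = 0 := by
    obtain ⟨ν, hν⟩ := hZ3
    have h3 : Z *ᵥ (Z *ᵥ (Z *ᵥ u)) = ν • u := by
      simp only [mulVec_mulVec]
      rw [show Z * (Z * Z) = Z ^ 3 by noncomm_ring, hν, smul_mulVec, one_mulVec]
    simp only [hZu, hZYu, mulVec_add, mulVec_smul] at h3
    have hfin : (a ^ 3 + a * b ^ 2 + b ^ 3 * γ - ν) • u +
        (b * (a ^ 2 + a * b * γ + b ^ 2 * (γ ^ 2 + 1))) • (Y *ᵥ u) = 0 := by
      have h6 := sub_eq_zero.mpr h3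
      rw [← h6]
      have h1 : (1 : F) + 1 = 0 := CharTwo.add_self_eq_zero 1
      funext i
      simp only [Pi.add_apply, Pi.smul_apply, Pi.sub_apply, smul_eq_mul]
      linear_combination (-(a * b ^ 2) * u i - (a ^ 2 * b + a * b ^ 2 * γ) * (Y *ᵥ u) i) * h1
    obtain ⟨-, h2⟩ := hindep2 _ _ hfin
    by_contra hb0
    have h3' := (mul_eq_zero.mp h2).resolve_left hb0
    set t := a / b with ht
    have ha : a = t * b := (div_mul_cancel₀ a hb0).symm
    have h1 : (1 : F) + 1 = 0 := CharTwo.add_self_eq_zero 1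
    have hq : b ^ 2 * (t ^ 2 + t * γ + γ) = 0 := by
      rw [ha] at h3'
      linear_combination h3' - b ^ 2 * hγ + b ^ 2 * γ * h1
    have hq' := (mul_eq_zero.mp hq).resolve_left (pow_ne_zero 2 hb0)
    have ht4 := pow_four hF t
    have e1 : γ ^ 3 = 1 := by linear_combination (γ - 1) * hγ
    have e2 : t ^ 2 = t * γ + γ := by linear_combination hq' - (t * γ + γ) * h1
    have e3 : t ^ 4 = t + 1 + γ ^ 2 := by
      linear_combination (t ^ 2 + t * γ + γ + γ ^ 2) * e2 + (t + 1) * e1 + t * γ ^ 2 * h1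
    have e4 : γ ^ 2 = 1 := by linear_combination ht4 - e3 - h1
    have e5 : γ = 1 := by linear_combination e1 - γ * e4
    refine one_ne_zero (α := F) ?_
    linear_combination hγ - e4 - e5 - h1
  rw [hb, zero_mul, add_zero, zero_smul, zero_add] at hZYu
  rw [hb, zero_smul, add_zero] at hZu
  have hdetZ : Z.det = 1 := (X ^ 5).2
  have hZP : Z * P = P * Matrix.diagonal ![c, a, a] := by
    refine Matrix.ext_of_mulVec_single fun i => ?_
    rw [← mulVec_mulVec, ← mulVec_mulVec, hPv, hPv, mulVec_add, mulVec_add, mulVec_smul, mulVec_smul,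
      mulVec_smul, hc, hZu, hZYu]
    simp only [smul_smul, Matrix.mulVec_diagonal]
    fin_cases i <;> simp
  have hca : c * a * a = 1 := by
    have h1 := congrArg Matrix.det hZP
    rw [Matrix.det_mul, Matrix.det_mul, hdetZ, one_mul, eq_comm] at h1
    have h2 := (mul_eq_left₀ hdet).mp h1
    simpa [Fin.prod_univ_three] using h2
  have ha0 : a ≠ 0 := fun h0 => by rw [h0, mul_zero] at hca; exact zero_ne_one hca
  have hceq : c = a := by
    have h3 := cube hF ha0
    calc c = c * a ^ 3 := by rw [h3, mul_one]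
      _ = (c * a * a) * a := by ring
      _ = a := by rw [hca, one_mul]
  refine hne 5 (by norm_num) ((mkP_eq_one hF).mpr ⟨a, cube hF ha0, ?_⟩)
  show Z = a • 1
  refine Matrix.ext_of_mulVec_single fun i => ?_
  obtain ⟨w0, w1, w2, hw⟩ := hspan (Pi.single i 1)
  rw [smul_mulVec, one_mulVec, hw, mulVec_add, mulVec_add, mulVec_smul, mulVec_smul, mulVec_smul, hc, hZu, hZYu,
    hceq]
  module

end CfsgLib.PSL34
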