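/-
Subgroups of GL(4,2) with trivial solvable radical.
-/
import Cfsg.Agent.Lib.SmallSimple.EightSubgroups
import Cfsg.Agent.Lib.Basic
import Cfsg.Prelude.Def_Solvable

set_option autoImplicit false
set_option linter.style.haveILetI false
set_option maxRecDepth 4000

namespace CfsgLib.EightSubgroups

open Matrix
open scoped Pointwise

abbrev GL4 := GL (Fin 4) (ZMod 2)

theorem one_units (x : ZMod 2) (h : x ≠ 0) : x = 1 := by revert h; revert x; decide

/-- The elementary transvection as a unit. -/
def tU (i j : Fin 4) (h : i ≠ j) : GL4 :=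
  ⟨Matrix.transvection i j 1, Matrix.transvection i j 1,
    by rw [Matrix.transvection_mul_transvection_same i j h, show (1 : ZMod 2) + 1 = 0 by decide, Matrix.transvection_zero],
    by rw [Matrix.transvection_mul_transvection_same i j h, show (1 : ZMod 2) + 1 = 0 by decide, Matrix.transvection_zero]⟩

/-- The upper unitriangular matrices. -/
def UT : Subgroup GL4 where
  carrier := {g | ∀ i j : Fin 4, j ≤ i → (g : Matrix (Fin 4) (Fin 4) (ZMod 2)) i j = if i = j then 1 else 0}
  one_mem' := fun i j _ => by simp [Matrix.one_apply]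
  mul_mem' := by
    intro a b ha hb i j hij
    rw [Units.val_mul, Matrix.mul_apply]
    rcases eq_or_ne i j with rfl | hne
    · rw [if_pos rfl, Finset.sum_eq_single i]
      · rw [ha i i le_rfl, hb i i le_rfl, if_pos rfl, mul_one]
      · intro k _ hk
        rcases lt_or_gt_of_ne hk with h | h
        · rw [ha i k h.le, if_neg hk.symm, zero_mul]
        · rw [hb k i h.le, if_neg hk, mul_zero]
      · exact fun h => absurd (Finset.mem_univ i) h
    · rw [if_neg hne]
      refine Finset.sum_eq_zero fun k _ => ?_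
      rcases le_or_gt k i with h | h
      · rcases eq_or_lt_of_le h with rfl | h'
        · rw [hb k j hij, if_neg hne, mul_zero]
        · rw [ha i k h, if_neg (ne_of_gt h'), zero_mul]
      · have hjk : j < k := lt_of_le_of_lt hij h
        rw [hb k j hjk.le, if_neg (ne_of_gt hjk), mul_zero]
  inv_mem' := by
    intro a ha
    have hfin : IsOfFinOrder a := isOfFinOrder_of_finite a
    obtain ⟨n, hn⟩ := hfin.mem_powers_iff_mem_zpowers.mpr ⟨-1, zpow_neg_one a⟩
    dsimp only at hn
    rw [← hn]
    clear hn
    induction n with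
    | zero => intro i j _; simp [Matrix.one_apply]
    | succ n ih =>
      intro i j hij
      rw [pow_succ, Units.val_mul, Matrix.mul_apply]
      rcases eq_or_ne i j with rfl | hne
      · rw [if_pos rfl, Finset.sum_eq_single i]
        · rw [ih i i le_rfl, ha i i le_rfl, if_pos rfl, mul_one]
        · intro k _ hk
          rcases lt_or_gt_of_ne hk with h | h
          · rw [ih i k h.le, if_neg hk.symm, zero_mul]
          · rw [ha k i h.le, if_neg hk, mul_zero]
        · exact fun h => absurd (Finset.mem_univ i) h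
      · rw [if_neg hne]
        refine Finset.sum_eq_zero fun k _ => ?_
        rcases le_or_gt k i with h | h
        · rcases eq_or_lt_of_le h with rfl | h'
          · rw [ha k j hij, if_neg hne, mul_zero]
          · rw [ih i k h, if_neg (ne_of_gt h'), zero_mul]
        · have hjk : j < k := lt_of_le_of_lt hij h
          rw [ha k j hjk.le, if_neg (ne_of_gt hjk), mul_zero]

theorem tU_mem {i j : Fin 4} (h : i < j) : tU i j h.ne ∈ UT := by
  intro a b hab
  show Matrix.transvection i j (1 : ZMod 2) a b = _
  rw [Matrix.transvection, Matrix.add_apply, Matrix.one_apply, Matrix.single_apply,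
    if_neg (fun e : i = a ∧ j = b => by rw [e.1, e.2] at h; exact absurd h (not_lt.mpr hab)), add_zero]

theorem card_GL4 : Nat.card GL4 = 20160 := by
  haveI : Fact (Nat.Prime 2) := ⟨Nat.prime_two⟩
  rw [Matrix.card_GL_field]; simp [Fin.prod_univ_four]

/-- The six coordinates above the diagonal. -/
def coords : List (Fin 4 × Fin 4) := [(0, 1), (0, 2), (0, 3), (1, 2), (1, 3), (2, 3)]

theorem word_injective : Function.Injective fun b : Fin 6 → Bool =>
    ((List.finRange 6).map fun k : Fin 6 =>
      if b k then Matrix.transvection (coords.get ⟨k, k.isLt⟩).1 (coords.get ⟨k, k.isLt⟩).2 (1 : ZMod 2) else 1).prod := by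
  decide +kernel

theorem t03_eq : Matrix.transvection (0 : Fin 4) 3 (1 : ZMod 2) =
    1 + Matrix.vecMulVec (Pi.single 0 1) (Pi.single 3 1) := by decide +kernel

theorem top_transitive : ∀ v w : Fin 4 → ZMod 2, v 3 = 1 → w 3 = 1 → ∃ a b c : Bool,
    ((if a then Matrix.transvection (0 : Fin 4) 3 (1 : ZMod 2) else 1) *
      (if b then Matrix.transvection (1 : Fin 4) 3 (1 : ZMod 2) else 1) *
      (if c then Matrix.transvection (2 : Fin 4) 3 (1 : ZMod 2) else 1)) *ᵥ v = w := by
  decide +kernel

theorem nine : (insert (Pi.single (0 : Fin 4) (1 : ZMod 2))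
    (Finset.univ.filter fun v : Fin 4 → ZMod 2 => v 3 = 1)).card = 9 := by decide +kernel

theorem only_fixed : ∀ v : Fin 4 → ZMod 2, v ≠ 0 →
    (∀ i j : Fin 4, i < j → Matrix.transvection i j (1 : ZMod 2) *ᵥ v = v) → v = Pi.single 0 1 := by
  decide +kernel

theorem card_UT : Nat.card UT = 64 := by
  haveI : Fact (Nat.Prime 2) := ⟨Nat.prime_two⟩
  refine le_antisymm ?_ ?_
  · let f : UT → (Fin 6 → ZMod 2) := fun g k =>
      ((g : GL4) : Matrix (Fin 4) (Fin 4) (ZMod 2)) (coords.get ⟨k, k.isLt⟩).1 (coords.get ⟨k, k.isLt⟩).2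
    have hf : Function.Injective f := by
      intro g h e
      refine Subtype.ext (Units.ext (Matrix.ext fun i j => ?_))
      rcases le_or_gt j i with hji | hij
      · rw [g.2 i j hji, h.2 i j hji]
      · have key : ∀ i j : Fin 4, i < j → ∃ k : Fin 6, coords.get ⟨k, k.isLt⟩ = (i, j) := by decide +kernel
        obtain ⟨k, hk⟩ := key i j hij
        have := congrFun e k
        simp only [f, hk] at this
        exact this
    have := Nat.card_le_card_of_injective f hf
    rwa [Nat.card_fun, Nat.card_zmod, Nat.card_fin] at this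
  · let f : (Fin 6 → Bool) → UT := fun b =>
      ((List.finRange 6).map fun k : Fin 6 =>
        if b k then (⟨tU (coords.get ⟨k, k.isLt⟩).1 (coords.get ⟨k, k.isLt⟩).2
            (ne_of_lt ((by decide : ∀ k : Fin 6, (coords.get ⟨k, k.isLt⟩).1 < (coords.get ⟨k, k.isLt⟩).2) k)),
          tU_mem ((by decide : ∀ k : Fin 6, (coords.get ⟨k, k.isLt⟩).1 < (coords.get ⟨k, k.isLt⟩).2) k)⟩ : UT)
        else 1).prod
    let g : (Fin 6 → Bool) → Matrix (Fin 4) (Fin 4) (ZMod 2) := fun b =>
      ((List.finRange 6).map fun k : Fin 6 =>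
        if b k then Matrix.transvection (coords.get ⟨k, k.isLt⟩).1 (coords.get ⟨k, k.isLt⟩).2 1 else 1).prod
    have hg : Function.Injective g := word_injective
    have hfg : ∀ b, ((f b : GL4) : Matrix (Fin 4) (Fin 4) (ZMod 2)) = g b := by
      intro b
      let φ : UT →* Matrix (Fin 4) (Fin 4) (ZMod 2) := (Units.coeHom _).comp UT.subtype
      show φ (f b) = _
      simp only [f, g, map_list_prod, List.map_map]
      congr 1
      refine List.map_congr_left fun k _ => ?_
      simp only [Function.comp_apply]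
      split
      · rfl
      · exact map_one φ
    have := Nat.card_le_card_of_injective f fun a b e => hg (by rw [← hfg, ← hfg, e])
    rwa [Nat.card_eq_fintype_card, Fintype.card_fun, Fintype.card_bool, Fintype.card_fin] at this

/-- A subgroup of order 1344 is not radical-free. -/
theorem not_radFree_1344 {H : Subgroup GL4} (hc : Nat.card H = 1344) : ¬ RadFree H := by
  classical
  haveI : Fact (Nat.Prime 2) := ⟨Nat.prime_two⟩
  intro hr
  -- move a Sylow 2-subgroup to the unitriangular group
  obtain ⟨P⟩ : Nonempty (Sylow 2 H) := inferInstance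
  have hP : Nat.card P = 64 := SmallOrder.card_sylow_eq (k := 6) P (by rw [hc]; norm_num) (by rw [hc]; norm_num)
  have hfac : (20160 : ℕ).factorization 2 = 6 := by decide +kernel
  let S : Sylow 2 GL4 := Sylow.ofCard UT (by rw [card_UT, card_GL4, hfac]; norm_num)
  let T : Sylow 2 GL4 := Sylow.ofCard ((P : Subgroup H).map H.subtype) (by
    rw [Subgroup.card_map_of_injective H.subtype_injective, card_GL4, hfac]; exact hP.trans (by norm_num))
  obtain ⟨g, hg⟩ := MulAction.exists_smul_eq GL4 T S
  let H' : Subgroup GL4 := H.map (MulAut.conj g).toMonoidHom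
  have hUH : UT ≤ H' := by
    intro x hx
    have hx' : x ∈ ((g • T : Sylow 2 GL4) : Subgroup GL4) := by rw [hg]; exact hx
    rw [Sylow.coe_subgroup_smul] at hx'
    obtain ⟨y, hy, rfl⟩ := hx'
    exact ⟨y, Subgroup.map_subtype_le _ hy, rfl⟩
  have hc' : Nat.card H' = 1344 := by
    rw [Subgroup.card_map_of_injective (MulAut.conj g).injective, hc]
  have hr' : RadFree H' := RadFree.congr (H.equivMapOfInjective _ (MulAut.conj g).injective) hr
  -- the orbit of the first basis vector
  let e : Fin 4 → Fin 4 → ZMod 2 := fun i => Pi.single i 1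
  let act : H' → (Fin 4 → ZMod 2) → (Fin 4 → ZMod 2) := fun h v =>
    ((h : GL4) : Matrix (Fin 4) (Fin 4) (ZMod 2)) *ᵥ v
  letI : MulAction H' (Fin 4 → ZMod 2) :=
    { smul := act
      one_smul := fun v => Matrix.one_mulVec v
      mul_smul := fun a b v => by
        show ((a * b : H') : GL4).1 *ᵥ v = _
        rw [Subgroup.coe_mul, Units.val_mul, ← Matrix.mulVec_mulVec]
        rfl }
  have hsm : ∀ (h : H') (v : Fin 4 → ZMod 2), h • v = ((h : GL4) : Matrix (Fin 4) (Fin 4) (ZMod 2)) *ᵥ v :=
    fun _ _ => rfl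
  by_cases hW : ∀ h : H', (h • e 0) 3 = 0
  · -- the conjugates of the highest root element commute
    let t : H' := ⟨tU 0 3 (by decide), hUH (tU_mem (by decide))⟩
    have hval : ∀ h : H', ((h * t * h⁻¹ : H') : GL4).1 = 1 + Matrix.vecMulVec ((h : GL4).1 *ᵥ e 0) (e 3 ᵥ* ((h⁻¹ : H') : GL4).1) := by
      intro h
      have ht : ((t : GL4) : Matrix (Fin 4) (Fin 4) (ZMod 2)) = 1 + Matrix.vecMulVec (e 0) (e 3) := by
        exact t03_eq
      rw [Subgroup.coe_mul, Subgroup.coe_mul, Units.val_mul, Units.val_mul, ht, mul_add, add_mul, mul_one,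
        ← Units.val_mul, ← Subgroup.coe_mul, mul_inv_cancel, Subgroup.coe_one, Units.val_one,
        Matrix.mul_vecMulVec, Matrix.vecMulVec_mul]
    have hzero : ∀ h h' : H', (e 3 ᵥ* ((h⁻¹ : H') : GL4).1) ⬝ᵥ ((h' : GL4).1 *ᵥ e 0) = 0 := by
      intro h h'
      rw [← Matrix.dotProduct_mulVec, Matrix.mulVec_mulVec, ← Units.val_mul, ← Subgroup.coe_mul]
      have h1 := hW (h⁻¹ * h')
      rw [hsm] at h1
      show Pi.single (3 : Fin 4) (1 : ZMod 2) ⬝ᵥ _ = 0
      rw [single_dotProduct, one_mul]
      exact h1
    have hcomm : ∀ a ∈ Group.conjugatesOfSet ({t} : Set H'), ∀ b ∈ Group.conjugatesOfSet ({t} : Set H'), a * b = b * a := by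
      intro a ha b hb
      obtain ⟨_, rfl, hca⟩ := Group.mem_conjugatesOfSet_iff.mp ha
      obtain ⟨_, rfl, hcb⟩ := Group.mem_conjugatesOfSet_iff.mp hb
      obtain ⟨p, rfl⟩ := isConj_iff.mp hca
      obtain ⟨q, rfl⟩ := isConj_iff.mp hcb
      refine Subtype.ext (Units.ext ?_)
      show ((p * t * p⁻¹ : H') : GL4).1 * ((q * t * q⁻¹ : H') : GL4).1 =
        ((q * t * q⁻¹ : H') : GL4).1 * ((p * t * p⁻¹ : H') : GL4).1
      rw [hval, hval]
      simp only [mul_add, add_mul, mul_one, one_mul, Matrix.vecMulVec_mul_vecMulVec, hzero,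
        zero_smul, Matrix.vecMulVec_zero, add_zero]
      abel
    haveI : IsMulCommutative (Subgroup.normalClosure ({t} : Set H')) :=
      Subgroup.isMulCommutative_closure hcomm
    have hs : Group.IsSolvable (Subgroup.normalClosure ({t} : Set H')) :=
      Group.isSolvable_of_comm fun a b => IsMulCommutative.is_comm.comm a b
    have h1 := hr' _ inferInstance hs
    have ht1 : t ∈ (⊥ : Subgroup H') := h1 ▸ Subgroup.subset_normalClosure rfl
    rw [Subgroup.mem_bot] at ht1
    have h03 := congrFun (congrFun (congrArg (fun x : H' => ((x : GL4) : Matrix (Fin 4) (Fin 4) (ZMod 2))) ht1) 0) 3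
    rw [Subgroup.coe_one, Units.val_one] at h03
    rw [show ((t : GL4) : Matrix (Fin 4) (Fin 4) (ZMod 2)) = 1 + Matrix.vecMulVec (Pi.single 0 1) (Pi.single 3 1) from t03_eq,
      Matrix.add_apply, Matrix.vecMulVec_apply, Pi.single_eq_same, Pi.single_eq_same, Matrix.one_apply_ne (by decide)] at h03
    simp at h03
  · -- otherwise the orbit is large and odd
    push Not at hW
    obtain ⟨h, hh⟩ := hW
    set O := MulAction.orbit H' (e 0)
    have hdvd : O.ncard ∣ 1344 := by
      rw [← hc', ← MulAction.index_stabilizer]; exact Subgroup.index_dvd_card _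
    have hnot0 : ∀ v ∈ O, v ≠ 0 := by
      rintro v ⟨k, rfl⟩ hk
      have hk' := congrArg (fun w => k⁻¹ • w) (show k • e 0 = 0 from hk)
      simp only [inv_smul_smul] at hk'
      rw [hsm, Matrix.mulVec_zero] at hk'
      have := congrFun hk' 0
      simp [e] at this
    have hle : O.ncard ≤ 15 := by
      have : O ⊆ ↑((Finset.univ : Finset (Fin 4 → ZMod 2)).erase 0) := fun v hv => by simp [hnot0 v hv]
      have h1 := Set.ncard_le_ncard this (Finset.finite_toSet _)
      rwa [Set.ncard_coe_finset, Finset.card_erase_of_mem (Finset.mem_univ _), Finset.card_univ, Fintype.card_fun,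
        ZMod.card, Fintype.card_fin] at h1
    -- the vectors with last coordinate one form one orbit of the unitriangular group
    have htrans : ∀ v w : Fin 4 → ZMod 2, v 3 = 1 → w 3 = 1 → v ∈ O → w ∈ O := by
      have hgen := top_transitive
      intro v w hv hw hvO
      obtain ⟨a, b, c, habc⟩ := hgen v w hv hw
      let u : Bool → (i : Fin 4) → i < 3 → H' := fun p i hi => if p then ⟨tU i 3 hi.ne, hUH (tU_mem hi)⟩ else 1
      have hu : ∀ p i (hi : i < 3), ((u p i hi : GL4) : Matrix (Fin 4) (Fin 4) (ZMod 2)) =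
          if p then Matrix.transvection i 3 1 else 1 := by
        intro p i hi
        cases p <;> rfl
      obtain ⟨k, rfl⟩ := hvO
      refine ⟨u a (0 : Fin 4) (Fin.lt_def.mpr (by norm_num)) * u b (1 : Fin 4) (Fin.lt_def.mpr (by norm_num)) *
        u c (2 : Fin 4) (Fin.lt_def.mpr (by norm_num)) * k, ?_⟩
      show _ • e 0 = w
      rw [mul_smul, hsm, Subgroup.coe_mul, Subgroup.coe_mul, Units.val_mul, Units.val_mul, hu, hu, hu]
      exact habc
      all_goals exact Fin.lt_def.mpr (by norm_num)
    have h9 : 9 ≤ O.ncard := by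
      let S : Finset (Fin 4 → ZMod 2) := insert (e 0) (Finset.univ.filter fun v => v 3 = 1)
      have hS : S.card = 9 := nine
      have hsub : ↑S ⊆ O := by
        intro v hv
        simp only [S, Finset.coe_insert, Set.mem_insert_iff, Finset.coe_filter, Finset.mem_univ, true_and,
          Set.mem_ofPred_eq] at hv
        rcases hv with rfl | hv
        · exact MulAction.mem_orbit_self _
        · exact htrans _ v (one_units _ hh) hv ⟨h, rfl⟩
      have h1 := Set.ncard_le_ncard hsub (Set.toFinite _)
      rwa [Set.ncard_coe_finset, hS] at h1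
    -- the unitriangular group fixes only one vector of the orbit
    have hodd : O.ncard % 2 = 1 := by
      let Q : Subgroup H' := UT.subgroupOf H'
      have hQ : IsPGroup 2 Q := by
        refine IsPGroup.of_card (n := 6) ?_
        rw [Nat.card_congr (Subgroup.subgroupOfEquivOfLe hUH).toEquiv, card_UT]; norm_num
      have hfix : Nat.card (MulAction.fixedPoints Q O) = 1 := by
        rw [Nat.card_eq_one_iff_unique]
        have h0 : ∀ q : Q, (q : H') • e 0 = e 0 := by
          intro q
          rw [hsm]
          have hq : ((q : H') : GL4) ∈ UT := q.2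
          funext i
          simp only [e, Matrix.mulVec_single, MulOpposite.op_one, one_smul, Matrix.col_apply]
          rw [hq i 0 (Fin.zero_le i), Pi.single_apply]
        have huniq : ∀ x : MulAction.fixedPoints Q O, ((x : O) : Fin 4 → ZMod 2) = e 0 := by
          intro x
          have hx : ∀ i j : Fin 4, ∀ hij : i < j,
              Matrix.transvection i j (1 : ZMod 2) *ᵥ ((x : O) : Fin 4 → ZMod 2) = ((x : O) : Fin 4 → ZMod 2) := by
            intro i j hij
            exact congrArg Subtype.val (x.2 ⟨⟨tU i j hij.ne, hUH (tU_mem hij)⟩, tU_mem hij⟩)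
          exact only_fixed _ (hnot0 _ (x : O).2) hx
        refine ⟨⟨fun a b => Subtype.ext (Subtype.ext ((huniq a).trans (huniq b).symm))⟩,
          ⟨⟨⟨e 0, MulAction.mem_orbit_self _⟩, fun q => Subtype.ext (h0 q)⟩⟩⟩
      have h1 := hQ.card_modEq_card_fixedPoints O
      rw [hfix, Nat.card_coe_set_eq] at h1
      exact h1
    have key : ∀ d ∈ Nat.divisors 1344, 9 ≤ d → d ≤ 15 → d % 2 = 1 → False := by decide +kernel
    exact key _ (Nat.mem_divisors.mpr ⟨hdvd, by norm_num⟩) h9 hle hodd

open Equiv MulAction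

/-- The radical-free subgroups of GL(4,2). -/
theorem listed_of_radFree {H : Subgroup GL4} (hH : H ≠ ⊥) (hr : RadFree H) : Listed H := by
  classical
  have hns : ¬ Group.IsSolvable H := fun hs => by
    have h1 := hr ⊤ inferInstance (by haveI := hs; infer_instance)
    apply hH
    rw [eq_bot_iff]
    intro x hx
    have : (⟨x, hx⟩ : H) ∈ (⊥ : Subgroup H) := h1 ▸ Subgroup.mem_top _
    exact Subgroup.mem_bot.mpr (congrArg Subtype.val (Subgroup.mem_bot.mp this))
  obtain ⟨e⟩ := GL4A8.nonempty_mulEquiv
  let ι : GL4 →* Perm (Fin 8) := (alternatingGroup (Fin 8)).subtype.comp e.toMonoidHom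
  have hι : Function.Injective ι := (alternatingGroup (Fin 8)).subtype_injective.comp e.injective
  let K := H.map ι
  let f : H ≃* K := H.equivMapOfInjective ι hι
  refine Listed.congr f ?_
  have hrK : RadFree K := RadFree.congr f hr
  have hKns : ¬ Group.IsSolvable K := fun hs => hns (by
    haveI := hs
    exact Group.isSolvable_of_isSolvable_injective (f := f.toMonoidHom) f.injective)
  have heven : K ≤ alternatingGroup (Fin 8) := by
    rintro _ ⟨x, -, rfl⟩
    exact (e x).2
  have hdvd : Nat.card K ∣ 20160 := by rw [← card_A8]; exact Subgroup.card_dvd_of_le heven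
  -- a long cycle in `K`
  obtain ⟨p, hp, hpK⟩ : ∃ p, (p = 7 ∨ p = 5) ∧ p ∣ Nat.card K := by
    rcases dvd_seven_or_five hdvd hKns with h | h
    · exact ⟨7, Or.inl rfl, h⟩
    · exact ⟨5, Or.inr rfl, h⟩
  haveI : Fact p.Prime := ⟨by rcases hp with rfl | rfl <;> norm_num⟩
  obtain ⟨x, hx⟩ := exists_prime_orderOf_dvd_card' p hpK
  set σ : Perm (Fin 8) := (x : Perm (Fin 8))
  have hσo : orderOf σ = p := by rw [Subgroup.orderOf_coe, hx]
  have hcyc : σ.IsCycle := Perm.isCycle_of_prime_order' (by rw [hσo]; exact Fact.out)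
    (by rw [hσo, Fintype.card_fin]; rcases hp with rfl | rfl <;> norm_num)
  have hsupp : σ.support.card = p := by rw [← hcyc.orderOf, hσo]
  obtain ⟨a, ha⟩ : σ.support.Nonempty := Finset.card_pos.mp (by rw [hsupp]; rcases hp with rfl | rfl <;> norm_num)
  let O := orbit K a
  haveI : Fintype O := Fintype.ofFinite _
  have hsub : (σ.support : Set (Fin 8)) ⊆ O := by
    intro y hy
    obtain ⟨i, rfl⟩ := hcyc.exists_pow_eq (Perm.mem_support.mp ha) (Perm.mem_support.mp (Finset.mem_coe.mp hy))
    exact ⟨x ^ i, rfl⟩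
  have hm5 : 5 ≤ Fintype.card O := by
    have h1 := Set.ncard_le_ncard hsub (Set.toFinite _)
    rw [Set.ncard_coe_finset, hsupp, ← Nat.card_coe_set_eq, Nat.card_eq_fintype_card] at h1
    omega
  have hm8 : Fintype.card O ≤ 8 := by
    have := Fintype.card_le_of_injective (Subtype.val : O → Fin 8) Subtype.val_injective
    simpa using this
  by_cases h8 : Fintype.card O = 8
  · have htr : IsPretransitive K (Fin 8) := by
      have huniv : O = Set.univ := Set.eq_univ_of_forall fun y => by
        have hb : Function.Bijective (Subtype.val : O → Fin 8) :=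
          (Fintype.bijective_iff_injective_and_card _).mpr ⟨Subtype.val_injective, by rw [h8, Fintype.card_fin]⟩
        obtain ⟨z, rfl⟩ := hb.2 y
        exact z.2
      refine ⟨fun y z => ?_⟩
      obtain ⟨gy, rfl⟩ : y ∈ O := huniv ▸ Set.mem_univ y
      obtain ⟨gz, rfl⟩ : z ∈ O := huniv ▸ Set.mem_univ z
      exact ⟨gz * gy⁻¹, by show (gz * gy⁻¹) • (gy • a) = gz • a; rw [mul_smul, inv_smul_smul]⟩
    refine listed_eight heven hKns hrK fun h1344 => ?_
    exact not_radFree_1344 (by rw [← h1344]; exact Nat.card_congr f.toEquiv) hr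
  -- restrict to the orbit
  let ρ : K →* Perm O := MulAction.toPermHom K O
  have hρ : Function.Injective ρ := by
    rw [← MonoidHom.ker_eq_bot_iff]
    refine hrK _ inferInstance ?_
    have hfix : ∀ k : ρ.ker, ∀ y : Fin 8, y ∈ O → ((k : K) : Perm (Fin 8)) y = y := fun k y hy => by
      have := congrArg Subtype.val (DFunLike.congr_fun (MonoidHom.mem_ker.mp k.2) (⟨y, hy⟩ : O))
      exact this
    have hback : ∀ k : ρ.ker, ∀ y : Fin 8, y ∉ O ↔ ((k : K) : Perm (Fin 8)) y ∉ O := by
      intro k y
      constructor <;> intro hy hy'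
      · exact hy (by
          have := hfix k _ hy'
          rw [((k : K) : Perm (Fin 8)).injective this] at hy'
          exact hy')
      · exact hy (by rw [hfix k y hy']; exact hy')
    let r : ρ.ker →* Perm {y : Fin 8 // y ∉ O} :=
      { toFun := fun k => ((k : K) : Perm (Fin 8)).subtypePerm (fun y => (hback k y).symm)
        map_one' := Equiv.ext fun _ => rfl
        map_mul' := fun _ _ => Equiv.ext fun _ => rfl }
    have hr0 : Function.Injective r := by
      intro k k' hkk
      refine Subtype.ext (Subtype.ext (Equiv.ext fun y => ?_))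
      by_cases hy : y ∈ O
      · rw [hfix k y hy, hfix k' y hy]
      · exact congrArg Subtype.val (DFunLike.congr_fun hkk ⟨y, hy⟩)
    have hcard : Fintype.card {y : Fin 8 // y ∉ O} ≤ 3 := by
      have h1 := Fintype.card_subtype_compl (fun y : Fin 8 => y ∈ O)
      rw [Fintype.card_fin] at h1
      have h2 : Fintype.card {y : Fin 8 // y ∈ O} = Fintype.card O := Fintype.card_congr (Equiv.refl _)
      omega
    haveI : Group.IsSolvable (Perm {y : Fin 8 // y ∉ O}) := by
      have hd : Nat.card (Perm {y : Fin 8 // y ∉ O}) ∣ 6 := by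
        rw [Nat.card_perm, Nat.card_eq_fintype_card]
        exact Nat.factorial_dvd_factorial (n := 3) hcard
      have key : ∀ d ∈ Nat.divisors 6, ∃ a < 2, ∃ b < 2, d = 2 ^ a * 3 ^ b := by decide +kernel
      obtain ⟨a, -, b, -, e⟩ := key _ (Nat.mem_divisors.mpr ⟨hd, by norm_num⟩)
      exact isSolvable_two a b Nat.prime_two Nat.prime_three e
    exact Group.isSolvable_of_isSolvable_injective hr0
  have hρns : ¬ Group.IsSolvable ρ.range := fun hs => hKns (by
    haveI := hs
    exact Group.isSolvable_of_isSolvable_injective (f := (MonoidHom.ofInjective hρ).toMonoidHom) (MulEquiv.injective _))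
  refine Listed.congr (MonoidHom.ofInjective hρ) ?_
  have hrR : RadFree ρ.range := RadFree.congr (MonoidHom.ofInjective hρ) hrK
  rcases (show Fintype.card O = 5 ∨ Fintype.card O = 6 ∨ Fintype.card O = 7 by omega) with h | h | h
  · exact listed_five_six h (Or.inl rfl) hρns hrR
  · exact listed_five_six h (Or.inr rfl) hρns hrR
  · haveI : IsPretransitive ρ.range O := ⟨fun y z => by
      obtain ⟨k, hk⟩ := exists_smul_eq K y z
      exact ⟨⟨ρ k, k, rfl⟩, hk⟩⟩
    refine listed_seven h hρns ?_
    rintro _ ⟨k, rfl⟩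
    rw [Equiv.Perm.mem_alternatingGroup]
    have hk : Perm.sign (k : Perm (Fin 8)) = 1 := Equiv.Perm.mem_alternatingGroup.mp (heven k.2)
    have hiff : ∀ y : Fin 8, (k : Perm (Fin 8)) y ∈ O ↔ y ∈ O := fun y => by
      show k • y ∈ orbit K a ↔ y ∈ orbit K a
      rw [← orbit_eq_iff, ← orbit_eq_iff, orbit_smul]
    have hfix : ∀ y : Fin 8, (k : Perm (Fin 8)) y ≠ y → y ∈ O := by
      intro y hy
      by_contra hyO
      have h1 : Fintype.card {y : Fin 8 // y ∉ O} = 1 := by
        have h1 := Fintype.card_subtype_compl (fun y : Fin 8 => y ∈ O)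
        rw [Fintype.card_fin] at h1
        have h2 : Fintype.card {y : Fin 8 // y ∈ O} = Fintype.card O := Fintype.card_congr (Equiv.refl _)
        omega
      obtain ⟨⟨z, hz⟩, hu⟩ := Fintype.card_eq_one_iff.mp h1
      have a1 := congrArg Subtype.val (hu ⟨y, hyO⟩)
      have a2 := congrArg Subtype.val (hu ⟨(k : Perm (Fin 8)) y, fun e => hyO ((hiff y).mp e)⟩)
      exact hy (a2.trans a1.symm)
    have hsp : ρ k = (k : Perm (Fin 8)).subtypePerm hiff := Equiv.ext fun _ => rfl
    rw [hsp]
    convert (Perm.sign_subtypePerm _ hiff hfix).trans hk using 3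

end CfsgLib.EightSubgroups
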