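import Mathlib
import Cfsg.Agent.Lib.SmallOrder
import Cfsg.Agent.Lib.SmallOrders.ClassEquation
import Cfsg.Agent.Lib.ShortPres.Carmichael
import Cfsg.Agent.S0111
import Cfsg.Agent.S0991

/-!
Simple groups of order 2520: the block data of the primes 5 and 7 give self-centralising Sylow subgroups, one
class of involutions with centralisers of order 24, and elements of order three satisfying Carmichael's
relations, so a subgroup of index seven.
-/

set_option autoImplicit false
set_option linter.style.haveILetI false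
set_option linter.unusedSectionVars false
set_option linter.unusedVariables false

namespace CfsgLib.Order2520

open CfsgLib.SmallOrder CfsgLib.SmallOrders

universe u

variable {G : Type u} [Group G] [Finite G] [IsSimpleGroup G] (h : Nat.card G = 2520)
include h

theorem nc : ∃ a b : G, a * b ≠ b * a :=
  letI := Fintype.ofFinite G
  not_comm h (by norm_num)

theorem seven_iso {H : Subgroup G} (hH : H.index = 7) : Nonempty (G ≃* alternatingGroup (Fin 7)) := by
  have hne : H ≠ ⊤ := fun e => by rw [e, Subgroup.index_top] at hH; omega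
  have hG : ¬ IsMulCommutative G := fun hc => by
    obtain ⟨a, b, hab⟩ := nc h
    exact hab (hc.is_comm.comm a b)
  obtain ⟨f, hf⟩ : ∃ f : G →* alternatingGroup (Fin 7), Function.Injective f :=
    hH ▸ Cfsg.Agent.S0991.result hG H hne
  refine ⟨MulEquiv.ofBijective f ((Nat.bijective_iff_injective_and_card f).mpr ⟨hf, ?_⟩)⟩
  rw [h, nat_card_alternatingGroup, Nat.card_fin]
  rfl

theorem seven_le {H : Subgroup G} (hH : H ≠ ⊤) : 7 ≤ H.index := by
  by_contra h6
  have := (card_dvd_factorial_index hH).trans (Nat.factorial_dvd_factorial (show H.index ≤ 6 by omega))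
  rw [h] at this
  norm_num [Nat.factorial] at this

/-- Data of a prime dividing the order once. -/
theorem prime_data {q m n e : ℕ} [Fact q.Prime] (hq : q ≠ 2) (hm : q * m = 2520) (hd : ¬ q ∣ m)
    (hc : degCheck q m [(n, e)] = true) (hne : n * e = m) :
    ∃ P : Sylow q G, Nat.card P = q ∧ Nat.card (Subgroup.centralizer ((P : Subgroup G) : Set G)) = q ∧
      Nat.card (Subgroup.normalizer ((P : Subgroup G) : Set G)) = q * e := by
  classical
  letI := Fintype.ofFinite G
  have hN : Nat.card G = q * m := h.trans hm.symm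
  have hm1 : 1 < m := by
    rcases Nat.lt_or_ge 1 m with h1 | h1
    · exact h1
    · exfalso
      interval_cases m
      · omega
      · rw [mul_one] at hm
        subst hm
        exact absurd (Fact.out : Nat.Prime 2520) (by norm_num)
  obtain ⟨M, P, n', e', S, -, hP, h1, h2, hmem⟩ := mem_exceptions hq hN hd hm1 hc
  simp only [List.mem_cons, Prod.mk.injEq, List.not_mem_nil, or_false] at hmem
  obtain ⟨rfl, rfl⟩ := hmem
  rw [hne] at h1
  have hc' := Nat.eq_of_mul_eq_mul_right (show 0 < m by omega) h1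
  exact ⟨P, hP, hc', by rw [h2, hc']⟩

theorem five_check : degCheck 5 504 [(126, 4)] = true := by decide +kernel

theorem seven_check : degCheck 7 360 [(120, 3)] = true := by decide +kernel

/-- Elements of order `q` commute with no element of another prime order. -/
theorem not_dvd_cent {q : ℕ} [hq : Fact q.Prime] {P : Sylow q G} (hP : Nat.card P = q)
    (hC : Nat.card (Subgroup.centralizer ((P : Subgroup G) : Set G)) = q) {x : G} (hx1 : x ≠ 1)
    (hx : orderOf x ≠ q) : ¬ q ∣ Nat.card (Subgroup.centralizer ({x} : Set G)) := by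
  classical
  letI := Fintype.ofFinite G
  intro hdvd
  obtain ⟨w, hw⟩ := exists_prime_orderOf_dvd_card' q hdvd
  have hwG : orderOf (w : G) = q := by rw [Subgroup.orderOf_coe, hw]
  obtain ⟨Q, hQ⟩ := (IsPGroup.of_card (n := 1) (by rw [Nat.card_zpowers, hwG, pow_one]) :
    IsPGroup q (Subgroup.zpowers (w : G))).exists_le_sylow
  obtain ⟨s, hs⟩ := MulAction.exists_smul_eq G Q P
  have hwP : s * w * s⁻¹ ∈ (P : Subgroup G) := by rw [← hs]; exact ⟨w, hQ (Subgroup.mem_zpowers _), rfl⟩
  have hne : s * w * s⁻¹ ≠ 1 := by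
    rw [Ne, conj_eq_one_iff]
    intro h1
    rw [h1, orderOf_one] at hwG
    exact hq.out.ne_one hwG.symm
  have hxP : s * x * s⁻¹ ∈ (P : Subgroup G) := by
    refine mem_of_commute hP hC hwP hne ?_
    rw [show s * x * s⁻¹ * (s * w * s⁻¹) = s * (x * w) * s⁻¹ by group,
      show s * w * s⁻¹ * (s * x * s⁻¹) = s * (w * x) * s⁻¹ by group,
      (Subgroup.mem_centralizer_singleton_iff.1 w.2 : (w : G) * x = x * w)]
  have := orderOf_eq hP hxP (by rwa [Ne, conj_eq_one_iff])
  rw [show s * x * s⁻¹ = MulAut.conj s x from rfl, MulEquiv.orderOf_eq] at this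
  exact hx this

theorem card_cent_dvd {x : G} (hx1 : x ≠ 1) (h5 : orderOf x ≠ 5) (h7 : orderOf x ≠ 7) :
    Nat.card (Subgroup.centralizer ({x} : Set G)) ∣ 72 := by
  haveI : Fact (Nat.Prime 5) := ⟨by norm_num⟩
  haveI : Fact (Nat.Prime 7) := ⟨by norm_num⟩
  obtain ⟨P5, a1, a2, -⟩ := prime_data h (q := 5) (by norm_num) (by norm_num) (by norm_num) (five_check h) rfl
  obtain ⟨P7, b1, b2, -⟩ := prime_data h (q := 7) (by norm_num) (by norm_num) (by norm_num) (seven_check h) rfl
  have hd : Nat.card (Subgroup.centralizer ({x} : Set G)) ∣ (72 * 5) * 7 := by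
    have := Subgroup.card_subgroup_dvd_card (Subgroup.centralizer ({x} : Set G))
    rwa [h] at this
  refine Nat.Coprime.dvd_of_dvd_mul_right ?_ (Nat.Coprime.dvd_of_dvd_mul_right ?_ hd)
  · exact Nat.Coprime.symm ((Nat.Prime.coprime_iff_not_dvd (by norm_num)).2 (not_dvd_cent h a1 a2 hx1 h5))
  · exact Nat.Coprime.symm ((Nat.Prime.coprime_iff_not_dvd (by norm_num)).2 (not_dvd_cent h b1 b2 hx1 h7))

theorem exists_four : ∃ g : G, orderOf g = 4 := by
  classical
  haveI : Fact (Nat.Prime 5) := ⟨by norm_num⟩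
  obtain ⟨P, hP, hC, hN⟩ := prime_data h (q := 5) (by norm_num) (by norm_num) (by norm_num) (five_check h) rfl
  set N := Subgroup.normalizer ((P : Subgroup G) : Set G) with hNdef
  set C := Subgroup.centralizer ((P : Subgroup G) : Set G) with hCdef
  have hCN : C ≤ N := Subgroup.centralizer_le_normalizer _
  haveI : IsCyclic (P : Subgroup G) := isCyclic_of_prime_card hP
  let f : N →* MulAut (P : Subgroup G) := (P : Subgroup G).normalizerMonoidHom
  have hker : Nat.card f.ker = 5 := by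
    rw [show f.ker = C.subgroupOf N from (P : Subgroup G).normalizerMonoidHom_ker,
      Nat.card_congr (Subgroup.subgroupOfEquivOfLe hCN).toEquiv, hC]
  have hrange : Nat.card f.range = 4 := by
    have := f.ker.card_mul_index
    rw [Subgroup.index_ker, hker, hN] at this
    omega
  let E := IsCyclic.mulAutMulEquiv (P : Subgroup G)
  have hcyc : IsCyclic (MulAut (P : Subgroup G)) := by
    have hu : IsCyclic (ZMod (Nat.card (P : Subgroup G)))ˣ := by
      rw [show Nat.card (P : Subgroup G) = 5 from hP]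
      infer_instance
    exact isCyclic_of_surjective E.symm.toMonoidHom E.symm.surjective
  haveI : IsCyclic f.range := Subgroup.isCyclic f.range
  obtain ⟨v, hv⟩ := IsCyclic.exists_ofOrder_eq_natCard (α := f.range)
  obtain ⟨g, hg⟩ := v.2
  have h4 : orderOf (f g) = 4 := by rw [hg, Subgroup.orderOf_coe, hv, hrange]
  have hd : 4 ∣ orderOf (g : G) := by
    rw [Subgroup.orderOf_coe]
    exact h4 ▸ orderOf_map_dvd f g
  exact ⟨(g : G) ^ (orderOf (g : G) / 4), orderOf_pow_orderOf_div (orderOf_pos _).ne' hd⟩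

theorem sq_of_two {G' : Type u} [Group G'] {u : G'} (hu : orderOf u = 2) : u * u = 1 := by
  rw [← pow_two, ← hu, pow_orderOf_eq_one]

theorem conj_ord {g x : G} : orderOf (g * x * g⁻¹) = orderOf x := MulEquiv.orderOf_eq (MulAut.conj g) x

/-- All involutions are conjugate and have centralisers of order 24. -/
theorem involutions : (∀ u v : G, orderOf u = 2 → orderOf v = 2 → ∃ g : G, g * u * g⁻¹ = v) ∧
    ∀ u : G, orderOf u = 2 → Nat.card (Subgroup.centralizer ({u} : Set G)) = 24 := by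
  classical
  haveI : Fact (Nat.Prime 2) := ⟨Nat.prime_two⟩
  haveI : Fact (Nat.Prime 5) := ⟨by norm_num⟩
  obtain ⟨g, hg⟩ := exists_four h
  set z := g * g with hz
  have hz2 : orderOf z = 2 := by
    rw [hz, ← pow_two, orderOf_pow, hg]
    rfl
  obtain ⟨T, hT⟩ := (IsPGroup.of_card (p := 2) (n := 2) (by rw [Nat.card_zpowers, hg]; rfl) :
    IsPGroup 2 (Subgroup.zpowers g)).exists_le_sylow
  have hT8 : Nat.card T = 2 ^ 3 := card_sylow_eq (k := 3) T (by rw [h]; norm_num) (by rw [h]; norm_num)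
  have hrel : (Subgroup.zpowers g).relIndex (T : Subgroup G) = 2 := by
    have := Subgroup.card_mul_index ((Subgroup.zpowers g).subgroupOf (T : Subgroup G))
    rw [Nat.card_congr (Subgroup.subgroupOfEquivOfLe hT).toEquiv, Nat.card_zpowers, hg,
      show Nat.card (T : Subgroup G) = 2 ^ 3 from hT8] at this
    show ((Subgroup.zpowers g).subgroupOf (T : Subgroup G)).index = 2
    omega
  have huniq : ∀ u ∈ Subgroup.zpowers g, orderOf u = 2 → u = z := by
    intro u hu hu2
    rw [mem_zpowers_iff_mem_range_orderOf, hg, Finset.mem_image] at hu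
    obtain ⟨k, hk, rfl⟩ := hu
    rw [Finset.mem_range] at hk
    rw [orderOf_pow, hg] at hu2
    interval_cases k
    · simp at hu2
    · simp at hu2
    · rw [hz, pow_two]
    · simp at hu2
  have hconj : ∀ u : G, orderOf u = 2 → ∃ c : G, c * u * c⁻¹ = z := by
    intro u hu
    obtain ⟨Q, hQ⟩ := (IsPGroup.of_card (p := 2) (n := 1) (by rw [Nat.card_zpowers, hu, pow_one]) :
      IsPGroup 2 (Subgroup.zpowers u)).exists_le_sylow
    obtain ⟨s, hs⟩ := MulAction.exists_smul_eq G Q T
    have huT : s * u * s⁻¹ ∈ (T : Subgroup G) := by rw [← hs]; exact ⟨u, hQ (Subgroup.mem_zpowers _), rfl⟩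
    by_cases hin : s * u * s⁻¹ ∈ Subgroup.zpowers g
    · exact ⟨s, huniq _ hin (by rw [conj_ord h, hu])⟩
    rcases Cfsg.Agent.S0111.result T (Subgroup.zpowers g) hT hrel _ (by rw [conj_ord h, hu]) huT hin with
      ⟨M, hM, hi, -⟩ | ⟨c, hc⟩
    · rcases hM.eq_bot_or_eq_top with e | e <;> subst e <;> simp [Subgroup.index_bot, h] at hi
    · exact ⟨c * s, by
        rw [show c * s * u * (c * s)⁻¹ = c * (s * u * s⁻¹) * c⁻¹ by group]
        exact huniq _ hc (by rw [conj_ord h, conj_ord h, hu])⟩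
  have hall : ∀ u v : G, orderOf u = 2 → orderOf v = 2 → ∃ c : G, c * u * c⁻¹ = v := by
    intro u v hu hv
    obtain ⟨c, hc⟩ := hconj u hu
    obtain ⟨d, hd⟩ := hconj v hv
    exact ⟨d⁻¹ * c, by rw [show d⁻¹ * c * u * (d⁻¹ * c)⁻¹ = d⁻¹ * (c * u * c⁻¹) * d by group, hc, ← hd]; group⟩
  have hcard : ∀ u v : G, orderOf u = 2 → orderOf v = 2 →
      Nat.card (Subgroup.centralizer ({u} : Set G)) = Nat.card (Subgroup.centralizer ({v} : Set G)) := by
    intro u v hu hv
    obtain ⟨c, rfl⟩ := hall u v hu hv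
    refine Nat.card_congr (Equiv.subtypeEquiv (MulAut.conj c).toEquiv fun a => ?_)
    show a ∈ _ ↔ c * a * c⁻¹ ∈ _
    rw [Subgroup.mem_centralizer_singleton_iff, Subgroup.mem_centralizer_singleton_iff,
      show c * a * c⁻¹ * (c * u * c⁻¹) = c * (a * u) * c⁻¹ by group,
      show c * u * c⁻¹ * (c * a * c⁻¹) = c * (u * a) * c⁻¹ by group, mul_left_inj, mul_right_inj]
  have h8 : 8 ∣ Nat.card (Subgroup.centralizer ({z} : Set G)) := by
    have hle : (T : Subgroup G) ≤ Subgroup.centralizer ({z} : Set G) := fun t ht => by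
      have hn : ((Subgroup.zpowers g).subgroupOf (T : Subgroup G)).Normal := Subgroup.normal_of_index_eq_two hrel
      have hzmem : z ∈ Subgroup.zpowers g := mul_mem (Subgroup.mem_zpowers g) (Subgroup.mem_zpowers g)
      have := huniq (t * z * t⁻¹) (hn.conj_mem ⟨z, hT hzmem⟩ hzmem ⟨t, ht⟩) (by rw [conj_ord h, hz2])
      exact Subgroup.mem_centralizer_singleton_iff.2 (mul_inv_eq_iff_eq_mul.1 this)
    have := Subgroup.card_dvd_of_le hle
    rwa [show Nat.card (T : Subgroup G) = 2 ^ 3 from hT8] at this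
  have hN : Nat.card G = 5 * 504 := h
  letI := Fintype.ofFinite G
  obtain ⟨M, P, n, e, S, hM, hP, h1, h2, hmem⟩ :=
    mem_exceptions (p := 5) (m := 504) (by norm_num) hN (by norm_num) (by norm_num) (five_check h)
  simp only [List.mem_cons, Prod.mk.injEq, List.not_mem_nil, or_false] at hmem
  obtain ⟨rfl, rfl⟩ := hmem
  obtain ⟨t, c, ht, hc, hcmem, hcs, -⟩ := exists_classData (nc h) hM (by norm_num) hP hN (by norm_num)
    (Nat.eq_of_mul_eq_mul_right (show 0 < 504 by norm_num) h1) (by norm_num) (by norm_num) (by norm_num)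
    h2 (q := 8) (k := 3) rfl (by norm_num) S
  have hcases : c = 24 ∨ c = 36 :=
    (by decide +kernel : ∀ c ∈ involCents 5 (5 * 504), classSearch 5 504 4 8 [c] = true → c = 24 ∨ c = 36)
      c hcmem hcs
  rw [hcard z t hz2 ht, ← hc] at h8
  have hc24 : c = 24 := by omega
  exact ⟨hall, fun u hu => by rw [hcard u t hu ht, ← hc, hc24]⟩

theorem card_cent_inv {u : G} (hu : orderOf u = 2) : Nat.card (Subgroup.centralizer ({u} : Set G)) = 24 :=
  (involutions h).2 u hu

theorem mem_cent {x g : G} (hc : Commute g x) : g ∈ Subgroup.centralizer ({x} : Set G) :=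
  Subgroup.mem_centralizer_singleton_iff.2 hc.eq

theorem card_three (P : Sylow 3 G) : Nat.card (P : Subgroup G) = 9 :=
  haveI : Fact (Nat.Prime 3) := ⟨Nat.prime_three⟩
  card_sylow_eq (k := 2) P (by rw [h]; norm_num) (by rw [h]; norm_num)

theorem comm_three (P : Sylow 3 G) {a b : G} (ha : a ∈ (P : Subgroup G)) (hb : b ∈ (P : Subgroup G)) :
    Commute a b :=
  haveI : Fact (Nat.Prime 3) := ⟨Nat.prime_three⟩
  congrArg Subtype.val (IsPGroup.commutative_of_card_eq_prime_sq (p := 3) (by rw [card_three h P]; rfl)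
    (⟨a, ha⟩ : (P : Subgroup G)) ⟨b, hb⟩)

theorem no_inv_cent {P : Sylow 3 G} {u : G} (hu : orderOf u = 2) (hc : ∀ p ∈ (P : Subgroup G), Commute p u) :
    False := by
  have := Subgroup.card_dvd_of_le (show (P : Subgroup G) ≤ Subgroup.centralizer ({u} : Set G) from
    fun p hp => mem_cent h (hc p hp))
  rw [card_three h P, card_cent_inv h hu] at this
  omega

theorem conj_zpowers {g x y : G} (hy : y ∈ Subgroup.zpowers x) :
    g * y * g⁻¹ ∈ Subgroup.zpowers (g * x * g⁻¹) := by
  obtain ⟨n, rfl⟩ := Subgroup.mem_zpowers_iff.1 hy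
  exact Subgroup.mem_zpowers_iff.2 ⟨n, conj_zpow⟩

theorem three_zpowers {x y : G} (hx : orderOf x = 3) (hy : y ∈ Subgroup.zpowers x) :
    y = 1 ∨ y = x ∨ y = x⁻¹ := by
  classical
  rw [mem_zpowers_iff_mem_range_orderOf, hx, Finset.mem_image] at hy
  obtain ⟨k, hk, rfl⟩ := hy
  rw [Finset.mem_range] at hk
  interval_cases k
  · exact Or.inl (pow_zero x)
  · exact Or.inr (Or.inl (pow_one x))
  · refine Or.inr (Or.inr (eq_inv_of_mul_eq_one_left ?_))
    rw [← pow_succ]
    show x ^ 3 = 1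
    exact hx ▸ pow_orderOf_eq_one x

theorem zpowers_symm {x y : G} (hx : orderOf x = 3) (hy : y ∈ Subgroup.zpowers x) (hy1 : y ≠ 1) :
    x ∈ Subgroup.zpowers y := by
  rcases three_zpowers h hx hy with e | e | e
  · exact absurd e hy1
  · exact e ▸ Subgroup.mem_zpowers y
  · rw [e]
    exact Subgroup.mem_zpowers_iff.2 ⟨-1, by simp⟩

theorem gen9 (P : Sylow 3 G) {x y : G} (hxP : x ∈ (P : Subgroup G)) (hx : orderOf x = 3)
    (hyP : y ∈ (P : Subgroup G)) (hy : y ∉ Subgroup.zpowers x) :
    ∀ p ∈ (P : Subgroup G), p ∈ Subgroup.closure ({x, y} : Set G) := by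
  have hle : Subgroup.closure ({x, y} : Set G) ≤ (P : Subgroup G) :=
    (Subgroup.closure_le _).2 (by rintro _ (rfl | rfl) <;> assumption)
  have hlt : Subgroup.zpowers x < Subgroup.closure ({x, y} : Set G) :=
    lt_of_le_of_ne (Subgroup.zpowers_le.2 (Subgroup.subset_closure (Or.inl rfl)))
      fun e => hy (e ▸ Subgroup.subset_closure (Or.inr rfl))
  have hd : Nat.card (Subgroup.closure ({x, y} : Set G)) ∣ 3 ^ 2 := by
    have := Subgroup.card_dvd_of_le hle
    rw [card_three h P] at this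
    exact this
  obtain ⟨i, hi, hi'⟩ := (Nat.dvd_prime_pow Nat.prime_three).1 hd
  have h3 : 3 < Nat.card (Subgroup.closure ({x, y} : Set G)) := by
    by_contra hle'
    exact hlt.ne (Subgroup.eq_of_le_of_card_ge hlt.le (by rw [Nat.card_zpowers, hx]; omega))
  have : Subgroup.closure ({x, y} : Set G) = (P : Subgroup G) :=
    Subgroup.eq_of_le_of_card_ge hle (by rw [card_three h P]; interval_cases i <;> omega)
  exact fun p hp => this ▸ hp

/-- An element commuting with two generators of a Sylow subgroup commutes with it. -/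
theorem comm_gen (P : Sylow 3 G) {x y g : G} (hxP : x ∈ (P : Subgroup G)) (hx : orderOf x = 3)
    (hyP : y ∈ (P : Subgroup G)) (hy : y ∉ Subgroup.zpowers x) (hgx : Commute g x) (hgy : Commute g y) :
    ∀ p ∈ (P : Subgroup G), Commute p g := fun p hp => by
  have hle : Subgroup.closure ({x, y} : Set G) ≤ Subgroup.centralizer ({g} : Set G) :=
    (Subgroup.closure_le _).2 (by
      rintro _ (rfl | rfl)
      · exact mem_cent h hgx.symm
      · exact mem_cent h hgy.symm)
  exact Subgroup.mem_centralizer_singleton_iff.1 (hle (gen9 h P hxP hx hyP hy p hp))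

section Fixed

variable (h7 : ∀ H : Subgroup G, H.index ≠ 7)
include h7

theorem card_N (P : Sylow 3 G) : Nat.card (Subgroup.normalizer ((P : Subgroup G) : Set G)) = 36 := by
  classical
  haveI : Fact (Nat.Prime 3) := ⟨Nat.prime_three⟩
  set N := Subgroup.normalizer ((P : Subgroup G) : Set G) with hN
  have hidx : N.index = Nat.card (Sylow 3 G) := (P.card_eq_index_normalizer).symm
  have hmem := card_sylow_mem_filter P (card_three h P) (n := 280) (by rw [h]) (by norm_num)
  rw [show (Nat.divisors 280).filter (fun d => d % 3 = 1) = {1, 4, 7, 10, 28, 40, 70, 280} by decide] at hmem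
  simp only [Finset.mem_insert, Finset.mem_singleton] at hmem
  have hmul : Nat.card N * Nat.card (Sylow 3 G) = 2520 := by rw [← hidx, N.card_mul_index, h]
  have hne : Nat.card (Sylow 3 G) ≠ 1 := card_sylow_ne_one P
    (by rw [show Nat.card P = Nat.card (P : Subgroup G) from rfl, card_three h P]; norm_num)
    (by rw [show Nat.card P = Nat.card (P : Subgroup G) from rfl, card_three h P, h]; norm_num)
  have hntop : N ≠ ⊤ := fun e => by rw [e, Subgroup.index_top] at hidx; exact hne hidx.symm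
  have h4 : Nat.card (Sylow 3 G) ≠ 4 := fun e => by
    have := seven_le h hntop
    omega
  have hseven : Nat.card (Sylow 3 G) ≠ 7 := fun e => h7 N (hidx.trans e)
  have hq : ∀ q : ℕ, q.Prime → q = 5 ∨ q = 7 → ¬ q ∣ Nat.card N := by
    intro q hqp hq57 hdvd
    haveI : Fact q.Prime := ⟨hqp⟩
    obtain ⟨w, hw⟩ := exists_prime_orderOf_dvd_card' q hdvd
    have hwG : orderOf (w : G) = q := by rw [Subgroup.orderOf_coe, hw]
    let W := Subgroup.zpowers (w : G)
    have hWN : W ≤ N := Subgroup.zpowers_le.2 w.2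
    letI : MulAction W (P : Subgroup G) :=
      { smul := fun a p => ⟨a.1 * p.1 * a.1⁻¹, (Subgroup.mem_normalizer_iff.1 (hWN a.2) _).1 p.2⟩
        one_smul := fun p => Subtype.ext (show (1 : G) * p.1 * 1⁻¹ = p.1 by group)
        mul_smul := fun a b p => Subtype.ext (show a.1 * b.1 * p.1 * (a.1 * b.1)⁻¹ = _ by
          show _ = a.1 * (b.1 * p.1 * b.1⁻¹) * a.1⁻¹
          group) }
    have hWp : IsPGroup q W := IsPGroup.of_card (n := 1) (by rw [Nat.card_zpowers, hwG, pow_one])
    obtain ⟨p, hp, hp1⟩ : ∃ p : (P : Subgroup G), p ∈ MulAction.fixedPoints W (P : Subgroup G) ∧ p ≠ 1 := by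
      by_contra hcon
      push Not at hcon
      have hfix : MulAction.fixedPoints W (P : Subgroup G) = {1} := by
        ext p
        refine ⟨fun hp => hcon p hp, fun hp => ?_⟩
        rw [hp]
        exact fun a => Subtype.ext (show a.1 * (1 : G) * a.1⁻¹ = 1 by group)
      have := hWp.card_modEq_card_fixedPoints (α := (P : Subgroup G))
      rw [hfix, card_three h P, Nat.card_coe_set_eq, Set.ncard_singleton] at this
      rcases hq57 with rfl | rfl <;> exact absurd this (by decide)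
    have hcom : (w : G) * p = p * w :=
      mul_inv_eq_iff_eq_mul.1 (congrArg Subtype.val (hp ⟨w, Subgroup.mem_zpowers _⟩))
    have hp1' : (p : G) ≠ 1 := fun e => hp1 (Subtype.ext e)
    have hord : orderOf (p : G) ∣ 9 := by
      have := Subgroup.orderOf_dvd_natCard _ p.2
      rwa [card_three h P] at this
    have h5 : orderOf (p : G) ≠ 5 := fun e => by rw [e] at hord; norm_num at hord
    have h7' : orderOf (p : G) ≠ 7 := fun e => by rw [e] at hord; norm_num at hord
    have hwd : q ∣ Nat.card (Subgroup.centralizer ({(p : G)} : Set G)) := by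
      have := Subgroup.orderOf_dvd_natCard _ (mem_cent h (show Commute (w : G) p from hcom))
      rwa [hwG] at this
    have := hwd.trans (card_cent_dvd h hp1' h5 h7')
    rcases hq57 with rfl | rfl <;> norm_num at this
  have h280 : Nat.card (Sylow 3 G) ≠ 280 := by
    intro e
    have hN9 : Nat.card N = 9 := by rw [e] at hmul; omega
    have hPN : (P : Subgroup G) = N := Subgroup.eq_of_le_of_card_ge Subgroup.le_normalizer
      (by rw [hN9, card_three h P])
    have := card_eq_sylow_of_normalizer_le_centralizer P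
      (fun g hg => Subgroup.mem_centralizer_iff.2 fun p hp => comm_three h P hp (hPN ▸ hg))
      (fun hb => by have := card_three h P; rw [hb, Subgroup.card_bot] at this; omega)
    rw [h, show Nat.card P = Nat.card (P : Subgroup G) from rfl, card_three h P] at this
    omega
  rcases hmem with e | e | e | e | e | e | e | e
  · exact absurd e hne
  · exact absurd e h4
  · exact absurd e hseven
  · exact absurd (show 7 ∣ Nat.card N by rw [e] at hmul; omega) (hq 7 (by norm_num) (Or.inr rfl))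
  · exact absurd (show 5 ∣ Nat.card N by rw [e] at hmul; omega) (hq 5 (by norm_num) (Or.inl rfl))
  · exact absurd (show 7 ∣ Nat.card N by rw [e] at hmul; omega) (hq 7 (by norm_num) (Or.inr rfl))
  · rw [e] at hmul; omega
  · exact absurd e h280

/-- The centraliser of an element of order three in a Sylow normaliser. -/
theorem no_inv_three (P : Sylow 3 G) {u x : G} (hu : orderOf u = 2)
    (huN : u ∈ Subgroup.normalizer ((P : Subgroup G) : Set G)) (hxP : x ∈ (P : Subgroup G))
    (hx : orderOf x = 3) (hc : Commute u x) : False := by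
  classical
  haveI : Fact (Nat.Prime 3) := ⟨Nat.prime_three⟩
  haveI : Fact (Nat.Prime 2) := ⟨Nat.prime_two⟩
  set N := Subgroup.normalizer ((P : Subgroup G) : Set G) with hN
  have hx1 : x ≠ 1 := fun e => by rw [e, orderOf_one] at hx; omega
  obtain ⟨y, hyP, hy⟩ : ∃ y ∈ (P : Subgroup G), y ∉ Subgroup.zpowers x := by
    by_contra hcon
    push Not at hcon
    have := Subgroup.card_le_of_le (show (P : Subgroup G) ≤ Subgroup.zpowers x from hcon)
    rw [card_three h P, Nat.card_zpowers, hx] at this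
    omega
  have hgen : ∀ p ∈ (P : Subgroup G), p ∈ Subgroup.closure ({x, y} : Set G) := gen9 h P hxP hx hyP hy
  set C := Subgroup.centralizer ({x} : Set G) with hC
  have hPC : (P : Subgroup G) ≤ C := fun p hp => mem_cent h (comm_three h P hp hxP)
  have hCd : Nat.card C ∣ 72 := card_cent_dvd h hx1 (by omega) (by omega)
  set D := C ⊓ N with hD
  have hDdvd : Nat.card D ∣ 36 := card_N h h7 P ▸ Subgroup.card_dvd_of_le inf_le_right
  have h18 : 18 ∣ Nat.card D := by
    refine Nat.Coprime.mul_dvd_of_dvd_of_dvd (by norm_num : Nat.Coprime 2 9) ?_ ?_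
    · have := Subgroup.orderOf_dvd_natCard D (Subgroup.mem_inf.2 ⟨mem_cent h hc, huN⟩)
      rwa [hu] at this
    · have := Subgroup.card_dvd_of_le (le_inf hPC Subgroup.le_normalizer : (P : Subgroup G) ≤ D)
      rwa [card_three h P] at this
  -- the whole normaliser does not centralise `x`
  have hD36 : Nat.card D ≠ 36 := by
    intro e
    have hNC : N ≤ C := by
      have : D = N := Subgroup.eq_of_le_of_card_ge inf_le_right (by rw [e, card_N h h7 P])
      exact this ▸ inf_le_left
    have hfix : ∀ n ∈ N, ∀ y' ∈ Subgroup.zpowers x, n * y' * n⁻¹ = y' := fun n hn y' hy' => by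
      obtain ⟨i, rfl⟩ := Subgroup.mem_zpowers_iff.1 hy'
      exact mul_inv_eq_iff_eq_mul.2
        ((show Commute n x from Subgroup.mem_centralizer_singleton_iff.1 (hNC hn)).zpow_right i).eq
    let K0 : Subgroup G :=
      { carrier := {g | g ∈ N ∧ g * y * g⁻¹ * y⁻¹ ∈ Subgroup.zpowers x}
        one_mem' := ⟨one_mem _, by simp⟩
        mul_mem' := fun {a b} ha hb => ⟨mul_mem ha.1 hb.1, by
          rw [show a * b * y * (a * b)⁻¹ * y⁻¹ = a * (b * y * b⁻¹ * y⁻¹) * a⁻¹ * (a * y * a⁻¹ * y⁻¹) by group,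
            hfix a ha.1 _ hb.2]
          exact mul_mem hb.2 ha.2⟩
        inv_mem' := fun {a} ha => ⟨inv_mem ha.1, by
          have h2 := hfix a⁻¹ (inv_mem ha.1) _ (inv_mem ha.2)
          have h3 := inv_mem ha.2
          rw [← h2] at h3
          rwa [show a⁻¹ * y * a⁻¹⁻¹ * y⁻¹ = a⁻¹ * (a * y * a⁻¹ * y⁻¹)⁻¹ * a⁻¹⁻¹ by group]⟩ }
    have hK0N : K0 ≤ N := fun g hg => hg.1
    have hidx : (K0.subgroupOf N).index ≤ 2 := by
      by_contra hgt
      haveI : Fintype (N ⧸ K0.subgroupOf N) := Fintype.ofFinite _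
      have hcard : 2 < Fintype.card (N ⧸ K0.subgroupOf N) := by
        rw [← Nat.card_eq_fintype_card]; exact not_le.1 hgt
      have hne : ∀ q : N ⧸ K0.subgroupOf N, q ≠ QuotientGroup.mk 1 →
          q.out.1 * y * q.out.1⁻¹ * (y⁻¹ * y⁻¹) ∈ Subgroup.zpowers x := by
        intro q hq
        set n := q.out
        have hn : n.1 * y * n.1⁻¹ * y⁻¹ ∉ Subgroup.zpowers x := fun hin => hq (by
          rw [← QuotientGroup.out_eq' q]
          exact QuotientGroup.eq.2 (by
            rw [mul_one, inv_mem_iff, Subgroup.mem_subgroupOf]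
            exact ⟨n.2, hin⟩))
        have hnP : n.1 * y * n.1⁻¹ ∈ (P : Subgroup G) := (Subgroup.mem_normalizer_iff.1 n.2 y).1 hyP
        let X' := (Subgroup.zpowers x).subgroupOf (P : Subgroup G)
        have hPi : X'.index = 3 := by
          have := X'.card_mul_index
          rw [Nat.card_congr (Subgroup.subgroupOfEquivOfLe (Subgroup.zpowers_le.2 hxP)).toEquiv,
            Nat.card_zpowers, hx, card_three h P] at this
          omega
        haveI : X'.Normal := ⟨fun a ha b => by
          rwa [show b * a * b⁻¹ = a from mul_inv_eq_iff_eq_mul.2 (Subtype.ext (comm_three h P b.2 a.2).eq)]⟩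
        haveI : IsCyclic ((P : Subgroup G) ⧸ X') := isCyclic_of_prime_card (p := 3)
          (by rw [← Subgroup.index_eq_card, hPi])
        set yb : (P : Subgroup G) ⧸ X' := QuotientGroup.mk ⟨y, hyP⟩
        set nb : (P : Subgroup G) ⧸ X' := QuotientGroup.mk ⟨_, hnP⟩
        have hyb : yb ≠ 1 := fun q' => hy (Subgroup.mem_subgroupOf.1 ((QuotientGroup.eq_one_iff _).1 q'))
        have hnb : nb ≠ yb := fun q' => hn (by
          have := Subgroup.mem_subgroupOf.1 (QuotientGroup.eq.1 q'.symm)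
          rw [show n.1 * y * n.1⁻¹ * y⁻¹ = y⁻¹ * (n.1 * y * n.1⁻¹) from
            ((comm_three h P (inv_mem hyP) hnP).eq).symm]
          exact this)
        have hnb1 : nb ≠ 1 := fun q' => by
          have hz := hfix n⁻¹.1 n⁻¹.2 _ (Subgroup.mem_subgroupOf.1 ((QuotientGroup.eq_one_iff _).1 q'))
          apply hy
          have hz' : y = n.1 * y * n.1⁻¹ := by
            have : (n⁻¹ : N).1 * (n.1 * y * n.1⁻¹) * (n⁻¹ : N).1⁻¹ = y := by
              rw [Subgroup.coe_inv]; group
            exact this.symm.trans hz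
          rw [hz']
          exact Subgroup.mem_subgroupOf.1 ((QuotientGroup.eq_one_iff _).1 q')
        have hord : orderOf yb = 3 := by
          have hd := orderOf_dvd_natCard yb
          rw [← Subgroup.index_eq_card, hPi] at hd
          exact ((Nat.dvd_prime Nat.prime_three).1 hd).resolve_left (fun q' => hyb (orderOf_eq_one_iff.1 q'))
        have hmem : nb ∈ Subgroup.zpowers yb := by
          have : Subgroup.zpowers yb = ⊤ := Subgroup.eq_top_of_card_eq _
            (by rw [Nat.card_zpowers, hord, ← Subgroup.index_eq_card, hPi])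
          exact this ▸ Subgroup.mem_top _
        rw [mem_zpowers_iff_mem_range_orderOf, hord, Finset.mem_image] at hmem
        obtain ⟨i, hi, hie⟩ := hmem
        rw [Finset.mem_range] at hi
        interval_cases i
        · exact absurd (hie.symm.trans (pow_zero yb)) hnb1
        · exact absurd (hie.symm.trans (pow_one yb)) hnb
        · have := Subgroup.mem_subgroupOf.1 (QuotientGroup.eq.1 (show QuotientGroup.mk
            ((⟨y, hyP⟩ : (P : Subgroup G)) * ⟨y, hyP⟩) = nb by rw [QuotientGroup.mk_mul, ← pow_two]; exact hie))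
          rw [show n.1 * y * n.1⁻¹ * (y⁻¹ * y⁻¹) = (y * y)⁻¹ * (n.1 * y * n.1⁻¹) by
            rw [mul_inv_rev]
            exact ((comm_three h P (mul_mem (inv_mem hyP) (inv_mem hyP)) hnP).eq).symm]
          exact this
      obtain ⟨q1, q2, q3, h12, h13, h23⟩ := Fintype.two_lt_card_iff.1 hcard
      obtain ⟨a, b, hab, ha, hb⟩ : ∃ a b : N ⧸ K0.subgroupOf N,
          a ≠ b ∧ a ≠ QuotientGroup.mk 1 ∧ b ≠ QuotientGroup.mk 1 := by
        by_cases e1 : q1 = QuotientGroup.mk 1
        · exact ⟨q2, q3, h23, fun q => h12 (e1.trans q.symm), fun q => h13 (e1.trans q.symm)⟩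
        · by_cases e2 : q2 = QuotientGroup.mk 1
          · exact ⟨q1, q3, h13, e1, fun q => h23 (e2.trans q.symm)⟩
          · exact ⟨q1, q2, h12, e1, e2⟩
      refine hab ?_
      rw [← QuotientGroup.out_eq' a, ← QuotientGroup.out_eq' b]
      refine QuotientGroup.eq.2 (Subgroup.mem_subgroupOf.2 ⟨(a.out⁻¹ * b.out).2, ?_⟩)
      have ha' := hne a ha
      have hb' := hne b hb
      have hm : b.out.1 * y * b.out.1⁻¹ * (a.out.1 * y * a.out.1⁻¹)⁻¹ ∈ Subgroup.zpowers x := by
        rw [show b.out.1 * y * b.out.1⁻¹ * (a.out.1 * y * a.out.1⁻¹)⁻¹ =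
          b.out.1 * y * b.out.1⁻¹ * (y⁻¹ * y⁻¹) * (a.out.1 * y * a.out.1⁻¹ * (y⁻¹ * y⁻¹))⁻¹ by group]
        exact mul_mem hb' (inv_mem ha')
      have he := hfix a.out⁻¹.1 a.out⁻¹.2 _ hm
      rw [← he] at hm
      show (a.out⁻¹ * b.out : N).1 * y * (a.out⁻¹ * b.out : N).1⁻¹ * y⁻¹ ∈ _
      rw [Subgroup.coe_mul, Subgroup.coe_inv]
      rw [Subgroup.coe_inv] at hm
      convert hm using 1
      group
    have h2 : 2 ∣ Nat.card K0 := by
      have := (K0.subgroupOf N).card_mul_index
      rw [Nat.card_congr (Subgroup.subgroupOfEquivOfLe hK0N).toEquiv, card_N h h7 P] at this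
      have h0 : (K0.subgroupOf N).index ≠ 0 := Subgroup.index_ne_zero_of_finite
      obtain ⟨i, hi⟩ : ∃ i, (K0.subgroupOf N).index = i := ⟨_, rfl⟩
      rw [hi] at this hidx h0
      interval_cases i <;> omega
    obtain ⟨r, hr⟩ := exists_prime_orderOf_dvd_card' 2 h2
    have hrG : orderOf (r : G) = 2 := by rw [Subgroup.orderOf_coe, hr]
    obtain ⟨hrN, hr'⟩ := r.2
    have hrx : Commute (r : G) x := Subgroup.mem_centralizer_singleton_iff.1 (hNC hrN)
    set s := (r : G) * y * (r : G)⁻¹ * y⁻¹ with hs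
    have hry : (r : G) * y * (r : G)⁻¹ = s * y := by rw [hs]; group
    have hrr : (r : G) * r = 1 := sq_of_two h hrG
    have hs1 : s = 1 := by
      have e2 : y = s * (s * y) := by
        calc y = (r : G) * r * y * ((r : G) * r)⁻¹ := by rw [hrr]; group
          _ = (r : G) * ((r : G) * y * (r : G)⁻¹) * (r : G)⁻¹ := by group
          _ = (r : G) * (s * y) * (r : G)⁻¹ := by rw [hry]
          _ = (r : G) * s * (r : G)⁻¹ * ((r : G) * y * (r : G)⁻¹) := by group
          _ = s * (s * y) := by rw [hfix _ hrN s hr', hry]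
      have e3 : s * s = 1 := by
        rw [← mul_assoc] at e2
        exact mul_eq_right.1 e2.symm
      rcases three_zpowers h hx hr' with q | q | q
      · exact q
      · exfalso
        rw [q, ← pow_two] at e3
        have := orderOf_dvd_of_pow_eq_one e3
        rw [hx] at this
        omega
      · exfalso
        rw [q, ← mul_inv_rev, inv_eq_one, ← pow_two] at e3
        have := orderOf_dvd_of_pow_eq_one e3
        rw [hx] at this
        omega
    refine no_inv_cent h hrG (P := P) fun p hp => ?_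
    have hall : Subgroup.closure ({x, y} : Set G) ≤ Subgroup.centralizer ({(r : G)} : Set G) :=
      (Subgroup.closure_le _).2 (by
        rintro _ (rfl | rfl)
        · exact mem_cent h hrx.symm
        · refine mem_cent h (Commute.symm ?_)
          rw [hs1, one_mul] at hry
          exact mul_inv_eq_iff_eq_mul.1 hry)
    exact Subgroup.mem_centralizer_singleton_iff.1 (hall (hgen p hp))
  have hD18 : Nat.card D = 18 := by
    obtain ⟨k, hk⟩ := h18
    rw [hk] at hDdvd hD36 ⊢
    have hk2 : k ∣ 2 := Nat.dvd_of_mul_dvd_mul_left (show 0 < 18 by norm_num) hDdvd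
    rcases (Nat.dvd_prime Nat.prime_two).1 hk2 with e | e <;> subst e <;> simp_all
  -- a four-group of the normaliser normalises the line of `x`
  have huu : u * u = 1 := sq_of_two h hu
  obtain ⟨R, hR⟩ : ∃ R : Sylow 2 N, Subgroup.zpowers (⟨u, huN⟩ : N) ≤ R :=
    (IsPGroup.of_card (p := 2) (n := 1) (by
      rw [Nat.card_zpowers, ← Subgroup.orderOf_coe, pow_one]; exact hu)).exists_le_sylow
  have hR4 : Nat.card R = 2 ^ 2 := card_sylow_eq (k := 2) R (by rw [card_N h h7 P]; norm_num)
    (by rw [card_N h h7 P]; norm_num)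
  obtain ⟨r, hrR, hrD⟩ : ∃ r : N, r ∈ (R : Subgroup N) ∧ r.1 ∉ C := by
    by_contra hcon
    push Not at hcon
    have hle : (R : Subgroup N).map N.subtype ≤ D := by
      rintro _ ⟨r, hr, rfl⟩
      exact ⟨hcon r hr, r.2⟩
    have := Subgroup.card_dvd_of_le hle
    rw [Subgroup.card_map_of_injective N.subtype_injective,
      show Nat.card (R : Subgroup N) = 2 ^ 2 from hR4, hD18] at this
    norm_num at this
  have hru : Commute r.1 u := congrArg Subtype.val (congrArg Subtype.val
    (IsPGroup.commutative_of_card_eq_prime_sq (p := 2) hR4 ⟨r, hrR⟩ ⟨⟨u, huN⟩, hR (Subgroup.mem_zpowers _)⟩))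
  have hfixu : ∀ p ∈ (P : Subgroup G), Commute p u → p ∈ Subgroup.zpowers x := by
    intro p hp hpu
    by_contra hnot
    refine no_inv_cent h hu (P := P) fun q hq => ?_
    have hle : Subgroup.closure ({x, p} : Set G) ≤ (P : Subgroup G) ⊓ Subgroup.centralizer ({u} : Set G) :=
      (Subgroup.closure_le _).2 (by
        rintro _ (rfl | rfl)
        · exact ⟨hxP, mem_cent h hc.symm⟩
        · exact ⟨hp, mem_cent h hpu⟩)
    set E := (P : Subgroup G) ⊓ Subgroup.centralizer ({u} : Set G)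
    have hd : Nat.card E ∣ 3 ^ 2 := by
      have := Subgroup.card_dvd_of_le (inf_le_left : E ≤ (P : Subgroup G))
      rwa [card_three h P] at this
    obtain ⟨i, hi, hi'⟩ := (Nat.dvd_prime_pow Nat.prime_three).1 hd
    have hxE : Subgroup.zpowers x ≤ E :=
      Subgroup.zpowers_le.2 (hle (Subgroup.subset_closure (Or.inl rfl)))
    have hE9 : E = (P : Subgroup G) := Subgroup.eq_of_le_of_card_ge inf_le_left (by
      rw [card_three h P]
      by_contra hlt
      have : Nat.card E ≤ 3 := by interval_cases i <;> omega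
      have := Subgroup.eq_of_le_of_card_ge hxE (by rw [Nat.card_zpowers, hx]; exact this)
      exact hnot (this ▸ hle (Subgroup.subset_closure (Or.inr rfl))))
    exact Subgroup.mem_centralizer_singleton_iff.1 ((hE9.ge hq).2)
  have hrx : r.1 * x * r.1⁻¹ = x⁻¹ := by
    have hmem := hfixu _ ((Subgroup.mem_normalizer_iff.1 r.2 x).1 hxP) (by
      show r.1 * x * r.1⁻¹ * u = u * (r.1 * x * r.1⁻¹)
      calc r.1 * x * r.1⁻¹ * u = r.1 * (x * u) * r.1⁻¹ := by
            rw [mul_assoc _ _ u, hru.inv_left.eq]; group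
        _ = r.1 * (u * x) * r.1⁻¹ := by rw [hc.eq]
        _ = u * (r.1 * x * r.1⁻¹) := by rw [← mul_assoc r.1 u x, hru.eq]; group)
    rcases three_zpowers h hx hmem with e | e | e
    · exact absurd (conj_eq_one_iff.1 e) hx1
    · exact absurd (mem_cent h (mul_inv_eq_iff_eq_mul.1 e)) hrD
    · exact e
  -- the line of `x` would be normal in the centraliser of `u`
  set Nx := Subgroup.normalizer ((Subgroup.zpowers x : Subgroup G) : Set G) with hNx
  have hnx : ∀ n : G, (n * x * n⁻¹ = x ∨ n * x * n⁻¹ = x⁻¹) → n ∈ Nx := by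
    intro n hn
    have hsub : (Subgroup.zpowers x).map (MulAut.conj n).toMonoidHom = Subgroup.zpowers x := by
      rw [MonoidHom.map_zpowers]
      show Subgroup.zpowers (n * x * n⁻¹) = _
      rcases hn with e | e <;> rw [e]
      exact Subgroup.zpowers_inv
    refine Subgroup.mem_normalizer_iff.2 fun q => ⟨fun hq => ?_, fun hq => ?_⟩
    · exact hsub ▸ ⟨q, hq, rfl⟩
    · rw [← hsub] at hq
      obtain ⟨q', hq', e⟩ := hq
      obtain rfl : q' = q := (MulAut.conj n).injective e
      exact hq'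
  have hCNx : C ≤ Nx := fun n hn =>
    hnx n (Or.inl (mul_inv_eq_iff_eq_mul.2 (Subgroup.mem_centralizer_singleton_iff.1 hn)))
  have hrNx : r.1 ∈ Nx := hnx _ (Or.inr hrx)
  have hidx : (C.subgroupOf Nx).index = 2 := by
    refine Subgroup.index_eq_two_iff.2 ⟨⟨r.1, hrNx⟩, fun b => ?_⟩
    have hbx : b.1 * x * b.1⁻¹ ∈ Subgroup.zpowers x :=
      (Subgroup.mem_normalizer_iff.1 b.2 x).1 (Subgroup.mem_zpowers x)
    have hiff : ∀ n : G, n ∈ C ↔ n * x * n⁻¹ = x := fun n => by
      rw [hC, Subgroup.mem_centralizer_singleton_iff, mul_inv_eq_iff_eq_mul]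
    have hxi : x⁻¹ ≠ x := fun e => by
      have : x * x = 1 := by nth_rw 1 [← e]; exact inv_mul_cancel x
      rw [← pow_two] at this
      have := orderOf_dvd_of_pow_eq_one this
      rw [hx] at this
      omega
    simp only [Subgroup.mem_subgroupOf, Subgroup.coe_mul, hiff]
    rw [show b.1 * r.1 * x * (b.1 * r.1)⁻¹ = b.1 * (r.1 * x * r.1⁻¹) * b.1⁻¹ by group, hrx, ← conj_inv]
    rcases three_zpowers h hx hbx with e | e | e
    · exact absurd (conj_eq_one_iff.1 e) hx1
    · rw [e]; exact Or.inr ⟨rfl, hxi⟩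
    · rw [e, inv_inv]; exact Or.inl ⟨rfl, hxi⟩
  have hNxcard : Nat.card Nx = Nat.card C * 2 := by
    rw [← hidx, ← Nat.card_congr (Subgroup.subgroupOfEquivOfLe hCNx).toEquiv, Subgroup.card_mul_index]
  have hC18 : Nat.card C = 18 := by
    let P' : Sylow 3 C := P.subtype hPC
    have hnorm : Subgroup.normalizer (P' : Set C) = N.subgroupOf C := by
      show Subgroup.normalizer (((P : Subgroup G).subgroupOf C : Subgroup C) : Set C) = _
      rw [hN, Subgroup.subgroupOf_normalizer_eq hPC]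
    have hmulC := card_normalizer_mul_card_sylow P'
    rw [hnorm, ← Subgroup.inf_subgroupOf_left,
      Nat.card_congr (Subgroup.subgroupOfEquivOfLe (inf_le_left : C ⊓ N ≤ C)).toEquiv] at hmulC
    change Nat.card D * _ = _ at hmulC
    rw [hD18] at hmulC
    have hs3 := card_sylow_modEq_one 3 C
    rw [Nat.ModEq] at hs3
    have h144 : ¬ Nat.card Nx = 144 := fun e => by
      have := Subgroup.card_subgroup_dvd_card Nx
      rw [e, h] at this
      norm_num at this
    have := Nat.le_of_dvd (by norm_num) hCd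
    obtain ⟨k, hk⟩ : ∃ k, Nat.card (Sylow 3 C) = k := ⟨_, rfl⟩
    rw [hk] at hs3 hmulC
    omega
  have h24 : Nat.card (Subgroup.centralizer ({u} : Set G)) = 24 := card_cent_inv h hu
  set U := Subgroup.centralizer ({u} : Set G)
  have hxU : x ∈ U := mem_cent h hc.symm
  have hint : Subgroup.zpowers x ≤ U := Subgroup.zpowers_le.2 hxU
  let X' : Sylow 3 U := (IsPGroup.of_card (p := 3) (n := 1) (by
    rw [Nat.card_congr (Subgroup.subgroupOfEquivOfLe hint).toEquiv, Nat.card_zpowers, hx, pow_one]) :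
    IsPGroup 3 ((Subgroup.zpowers x).subgroupOf U)).toSylow (by
      have := ((Subgroup.zpowers x).subgroupOf U).card_mul_index
      rw [Nat.card_congr (Subgroup.subgroupOfEquivOfLe hint).toEquiv, Nat.card_zpowers, hx, h24] at this
      omega)
  have hnorm : Subgroup.normalizer (X' : Set U) = Nx.subgroupOf U := by
    show Subgroup.normalizer (((Subgroup.zpowers x).subgroupOf U : Subgroup U) : Set U) = _
    rw [hNx, Subgroup.subgroupOf_normalizer_eq hint]
  have hmul := card_normalizer_mul_card_sylow X'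
  rw [hnorm, ← Subgroup.inf_subgroupOf_left,
    Nat.card_congr (Subgroup.subgroupOfEquivOfLe (inf_le_left : U ⊓ Nx ≤ U)).toEquiv, h24] at hmul
  have h12 : 12 ∣ Nat.card (U ⊓ Nx : Subgroup G) := by
    refine Nat.Coprime.mul_dvd_of_dvd_of_dvd (by norm_num : Nat.Coprime 3 4) ?_ ?_
    · have := Subgroup.orderOf_dvd_natCard (U ⊓ Nx)
        (Subgroup.mem_inf.2 ⟨hxU, hCNx (mem_cent h (Commute.refl x))⟩)
      rwa [hx] at this
    · have hle : (R : Subgroup N).map N.subtype ≤ U ⊓ Nx := by
        rintro _ ⟨s, hs, rfl⟩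
        have hsu : Commute s.1 u := congrArg Subtype.val (congrArg Subtype.val
          (IsPGroup.commutative_of_card_eq_prime_sq (p := 2) hR4 ⟨s, hs⟩ ⟨⟨u, huN⟩, hR (Subgroup.mem_zpowers _)⟩))
        refine Subgroup.mem_inf.2 ⟨mem_cent h hsu, hnx _ ?_⟩
        show s.1 * x * s.1⁻¹ = x ∨ _
        have hmem := hfixu _ ((Subgroup.mem_normalizer_iff.1 s.2 x).1 hxP) (by
          show s.1 * x * s.1⁻¹ * u = u * (s.1 * x * s.1⁻¹)
          calc s.1 * x * s.1⁻¹ * u = s.1 * (x * u) * s.1⁻¹ := by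
                rw [mul_assoc _ _ u, hsu.inv_left.eq]; group
            _ = s.1 * (u * x) * s.1⁻¹ := by rw [hc.eq]
            _ = u * (s.1 * x * s.1⁻¹) := by rw [← mul_assoc s.1 u x, hsu.eq]; group)
        rcases three_zpowers h hx hmem with e | e | e
        · exact absurd (conj_eq_one_iff.1 e) hx1
        · exact Or.inl e
        · exact Or.inr e
      have := Subgroup.card_dvd_of_le hle
      rwa [Subgroup.card_map_of_injective N.subtype_injective,
        show Nat.card (R : Subgroup N) = 2 ^ 2 from hR4] at this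
  have hs3 := card_sylow_modEq_one 3 U
  rw [Nat.ModEq] at hs3
  have hdvd : Nat.card (U ⊓ Nx : Subgroup G) ∣ Nat.card Nx := Subgroup.card_dvd_of_le inf_le_right
  rw [hNxcard, hC18] at hdvd
  obtain ⟨j, hj⟩ := h12
  rw [hj] at hmul hdvd
  have : j ≤ 3 := by
    have := Nat.le_of_dvd (by norm_num) hdvd
    omega
  interval_cases j <;> first | omega | norm_num at hdvd

/-- Involutions normalising a Sylow subgroup invert it. -/
theorem inv_all (P : Sylow 3 G) {u : G} (hu : orderOf u = 2)
    (huN : u ∈ Subgroup.normalizer ((P : Subgroup G) : Set G)) {p : G} (hp : p ∈ (P : Subgroup G)) :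
    u * p * u⁻¹ = p⁻¹ := by
  haveI : Fact (Nat.Prime 3) := ⟨Nat.prime_three⟩
  have hp' : u * p * u⁻¹ ∈ (P : Subgroup G) := (Subgroup.mem_normalizer_iff.1 huN p).1 hp
  set q := p * (u * p * u⁻¹) with hq
  have hqP : q ∈ (P : Subgroup G) := mul_mem hp hp'
  have huu : u * u = 1 := sq_of_two h hu
  have hcq : Commute u q := mul_inv_eq_iff_eq_mul.1 (by
    calc u * q * u⁻¹ = (u * p * u⁻¹) * (u * u * p * (u * u)⁻¹) := by rw [hq]; group
      _ = (u * p * u⁻¹) * p := by rw [huu]; group
      _ = q := (comm_three h P hp' hp).eq)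
  by_cases hq1 : q = 1
  · exact eq_inv_of_mul_eq_one_right hq1
  exfalso
  have hd : orderOf q ∣ 3 ^ 2 := by
    have := Subgroup.orderOf_dvd_natCard _ hqP
    rwa [card_three h P] at this
  obtain ⟨i, hi, hi'⟩ := (Nat.dvd_prime_pow Nat.prime_three).1 hd
  interval_cases i
  · exact hq1 (orderOf_eq_one_iff.1 (by simpa using hi'))
  · exact no_inv_three h h7 P hu huN hqP (by simpa using hi') hcq
  · refine no_inv_three h h7 P hu huN (pow_mem hqP 3) ?_ (hcq.pow_right 3)
    rw [orderOf_pow, hi']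
    rfl

theorem exists_w (P : Sylow 3 G) :
    ∃ w ∈ Subgroup.normalizer ((P : Subgroup G) : Set G), orderOf w = 4 := by
  classical
  haveI : Fact (Nat.Prime 2) := ⟨Nat.prime_two⟩
  set N := Subgroup.normalizer ((P : Subgroup G) : Set G) with hN
  obtain ⟨R⟩ : Nonempty (Sylow 2 N) := inferInstance
  have hR4 : Nat.card (R : Subgroup N) = 2 ^ 2 :=
    card_sylow_eq (k := 2) R (by rw [card_N h h7 P]; norm_num) (by rw [card_N h h7 P]; norm_num)
  by_contra hcon
  push Not at hcon
  have hord : ∀ r ∈ (R : Subgroup N), r ≠ 1 → orderOf (r : G) = 2 := by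
    intro r hr hr1
    have hd := Subgroup.orderOf_dvd_natCard _ hr
    rw [hR4, ← Subgroup.orderOf_coe] at hd
    obtain ⟨i, hi, hi'⟩ := (Nat.dvd_prime_pow Nat.prime_two).1 hd
    interval_cases i
    · exact absurd (orderOf_eq_one_iff.1 (by simpa using hi')) fun e => hr1 (Subtype.ext e)
    · simpa using hi'
    · exact absurd hi' (hcon _ r.2)
  obtain ⟨a, ha, ha1⟩ : ∃ a ∈ (R : Subgroup N), a ≠ 1 := by
    by_contra hc
    push Not at hc
    have : (R : Subgroup N) = ⊥ := (Subgroup.eq_bot_iff_forall _).2 hc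
    rw [this, Subgroup.card_bot] at hR4
    omega
  have ha2 := hord a ha ha1
  obtain ⟨b, hb, hb'⟩ : ∃ b ∈ (R : Subgroup N), b ∉ Subgroup.zpowers a := by
    by_contra hc
    push Not at hc
    have := Subgroup.card_le_of_le (show (R : Subgroup N) ≤ Subgroup.zpowers a from hc)
    rw [hR4, Nat.card_zpowers, ← Subgroup.orderOf_coe, ha2] at this
    omega
  have hb1 : b ≠ 1 := fun e => hb' (e ▸ one_mem _)
  have hab1 : a * b ≠ 1 := fun e => hb' (by
    rw [eq_inv_of_mul_eq_one_right e]
    exact inv_mem (Subgroup.mem_zpowers a))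
  have hab2 := hord _ (mul_mem ha hb) hab1
  refine no_inv_cent h hab2 (P := P) fun p hp => Commute.symm (mul_inv_eq_iff_eq_mul.1 ?_)
  show (a : G) * b * p * ((a : G) * b)⁻¹ = p
  rw [show (a : G) * b * p * ((a : G) * b)⁻¹ = (a : G) * ((b : G) * p * (b : G)⁻¹) * (a : G)⁻¹ by group,
    inv_all h h7 P (hord b hb hb1) b.2 hp, inv_all h h7 P ha2 a.2 (inv_mem hp), inv_inv]

theorem ord_sq {w : G} (hw : orderOf w = 4) : orderOf (w * w) = 2 := by
  rw [← pow_two, orderOf_pow, hw]
  rfl

theorem w_moves (P : Sylow 3 G) {w x : G} (hwN : w ∈ Subgroup.normalizer ((P : Subgroup G) : Set G))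
    (hw : orderOf w = 4) (hxP : x ∈ (P : Subgroup G)) (hx : orderOf x = 3) :
    w * x * w⁻¹ ∉ Subgroup.zpowers x := by
  intro hmem
  have h2 := inv_all h h7 P (ord_sq h h7 hw) (mul_mem hwN hwN) hxP
  rw [show w * w * x * (w * w)⁻¹ = w * (w * x * w⁻¹) * w⁻¹ by group] at h2
  have hxx : x * x ≠ 1 := fun e => by
    rw [← pow_two] at e
    have := orderOf_dvd_of_pow_eq_one e
    rw [hx] at this
    omega
  rcases three_zpowers h hx hmem with e | e | e
  · rw [conj_eq_one_iff.1 e, orderOf_one] at hx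
    omega
  · rw [e, e] at h2
    exact hxx (eq_inv_iff_mul_eq_one.1 h2)
  · rw [e, ← conj_inv, e, inv_inv] at h2
    exact hxx (eq_inv_iff_mul_eq_one.1 h2)

theorem ord_three (P : Sylow 3 G) {p : G} (hp : p ∈ (P : Subgroup G)) (hp1 : p ≠ 1) : orderOf p = 3 := by
  haveI : Fact (Nat.Prime 3) := ⟨Nat.prime_three⟩
  have hd : orderOf p ∣ 3 ^ 2 := by
    have := Subgroup.orderOf_dvd_natCard _ hp
    rwa [card_three h P] at this
  obtain ⟨i, hi, hi'⟩ := (Nat.dvd_prime_pow Nat.prime_three).1 hd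
  interval_cases i
  · exact absurd (orderOf_eq_one_iff.1 (by simpa using hi')) hp1
  · simpa using hi'
  exfalso
  obtain ⟨w, hwN, hw⟩ := exists_w h h7 P
  have hx : orderOf (p ^ 3) = 3 := by
    rw [orderOf_pow, hi']
    rfl
  refine w_moves h h7 P hwN hw (pow_mem hp 3) hx ?_
  have hP : Subgroup.zpowers p = (P : Subgroup G) := Subgroup.eq_of_le_of_card_ge
    (Subgroup.zpowers_le.2 hp) (by rw [card_three h P, Nat.card_zpowers, hi']; rfl)
  have hm := (Subgroup.mem_normalizer_iff.1 hwN (p ^ 3)).1 (pow_mem hp 3)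
  rw [← hP] at hm
  obtain ⟨j, hj⟩ := Subgroup.mem_zpowers_iff.1 hm
  have h33 : (p ^ 3) ^ 3 = 1 := orderOf_dvd_iff_pow_eq_one.1 hx.dvd
  have h3 : (p ^ j) ^ 3 = 1 := by rw [hj, conj_pow, h33, mul_one, mul_inv_cancel]
  rw [← zpow_natCast, ← zpow_mul, ← orderOf_dvd_iff_zpow_eq_one, hi'] at h3
  push_cast at h3
  obtain ⟨l, rfl⟩ : (3 : ℤ) ∣ j := by omega
  exact Subgroup.mem_zpowers_iff.2 ⟨l, by rw [← hj, zpow_mul, zpow_ofNat]⟩

theorem exists_P {x y : G} (hx : orderOf x = 3) (hy : orderOf y = 3) (hc : Commute x y) :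
    ∃ P : Sylow 3 G, x ∈ (P : Subgroup G) ∧ y ∈ (P : Subgroup G) := by
  have hp : ∀ z : G, orderOf z = 3 → IsPGroup 3 (Subgroup.zpowers z) := fun z hz =>
    IsPGroup.of_card (n := 1) (by rw [Nat.card_zpowers, hz, pow_one])
  have hn : Subgroup.zpowers y ≤ Subgroup.normalizer ((Subgroup.zpowers x : Subgroup G) : Set G) :=
    (Subgroup.zpowers_le.2 (Subgroup.mem_centralizer_iff.2 fun q hq => by
      obtain ⟨i, rfl⟩ := Subgroup.mem_zpowers_iff.1 hq
      exact (hc.zpow_left i).eq)).trans (Subgroup.centralizer_le_normalizer _)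
  obtain ⟨P, hP⟩ := ((hp x hx).to_sup_of_normal_left' (hp y hy) hn).exists_le_sylow
  exact ⟨P, hP (Subgroup.mem_sup_left (Subgroup.mem_zpowers x)),
    hP (Subgroup.mem_sup_right (Subgroup.mem_zpowers y))⟩

theorem cent_P (P : Sylow 3 G) {g : G} (hg : ∀ p ∈ (P : Subgroup G), Commute p g) : g ∈ (P : Subgroup G) := by
  haveI : Fact (Nat.Prime 2) := ⟨Nat.prime_two⟩
  set C := Subgroup.centralizer ((P : Subgroup G) : Set G) with hC
  have hPC : (P : Subgroup G) ≤ C := fun a ha =>
    Subgroup.mem_centralizer_iff.2 fun b hb => (comm_three h P hb ha).eq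
  have hd : Nat.card C ∣ 36 := card_N h h7 P ▸ Subgroup.card_dvd_of_le (Subgroup.centralizer_le_normalizer _)
  have h2 : ¬ 2 ∣ Nat.card C := fun h2 => by
    obtain ⟨v, hv⟩ := exists_prime_orderOf_dvd_card' 2 h2
    exact no_inv_cent h (P := P) (u := (v : G)) (by rw [Subgroup.orderOf_coe, hv])
      fun p hp => Subgroup.mem_centralizer_iff.1 v.2 p hp
  have h9 : 9 ∣ Nat.card C := by
    have := Subgroup.card_dvd_of_le hPC
    rwa [card_three h P] at this
  obtain ⟨k, hk⟩ := h9
  have hk4 : k ∣ 4 := Nat.dvd_of_mul_dvd_mul_left (show 0 < 9 by norm_num) (hk ▸ hd)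
  have := Nat.le_of_dvd (by norm_num) hk4
  have hPe : (P : Subgroup G) = C := Subgroup.eq_of_le_of_card_ge hPC (by
    rw [card_three h P, hk]
    interval_cases k <;> omega)
  rw [hPe]
  exact Subgroup.mem_centralizer_iff.2 fun p hp => (hg p hp).eq

/-- The centraliser of an element of order three commuting with an involution. -/
theorem cent_data {x : G} (hx : orderOf x = 3) {P : Sylow 3 G} (hxP : x ∈ (P : Subgroup G)) {v : G}
    (hv : orderOf v = 2) (hvx : Commute v x) :
    ∃ K : Subgroup G, Nat.card K = 4 ∧ (∀ k ∈ K, k * k = 1) ∧ (∀ k ∈ K, Commute k x) ∧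
      (∀ u, orderOf u = 2 → Commute u x → u ∈ K) ∧
      ∀ g, Commute g x → ∃ k ∈ K, ∃ p ∈ (P : Subgroup G), g = k * p := by
  classical
  haveI : Fact (Nat.Prime 3) := ⟨Nat.prime_three⟩
  haveI : Fact (Nat.Prime 2) := ⟨Nat.prime_two⟩
  set C := Subgroup.centralizer ({x} : Set G) with hC
  have hx1 : x ≠ 1 := fun e => by rw [e, orderOf_one] at hx; omega
  have hPC : (P : Subgroup G) ≤ C := fun p hp => mem_cent h (comm_three h P hp hxP)
  set N := Subgroup.normalizer ((P : Subgroup G) : Set G) with hN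
  have hodd : ¬ 2 ∣ Nat.card (C ⊓ N : Subgroup G) := fun h2 => by
    obtain ⟨r, hr⟩ := exists_prime_orderOf_dvd_card' 2 h2
    exact no_inv_three h h7 P (u := (r : G)) (by rw [Subgroup.orderOf_coe, hr]) r.2.2 hxP hx
      (Subgroup.mem_centralizer_singleton_iff.1 r.2.1)
  have hCN : C ⊓ N = (P : Subgroup G) := by
    refine (Subgroup.eq_of_le_of_card_ge (le_inf hPC Subgroup.le_normalizer) ?_).symm
    have hd : Nat.card (C ⊓ N : Subgroup G) ∣ 36 := card_N h h7 P ▸ Subgroup.card_dvd_of_le inf_le_right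
    obtain ⟨k, hk⟩ : 9 ∣ Nat.card (C ⊓ N : Subgroup G) := by
      have := Subgroup.card_dvd_of_le (le_inf hPC Subgroup.le_normalizer : (P : Subgroup G) ≤ C ⊓ N)
      rwa [card_three h P] at this
    have hk4 : k ∣ 4 := Nat.dvd_of_mul_dvd_mul_left (show 0 < 9 by norm_num) (hk ▸ hd)
    have := Nat.le_of_dvd (by norm_num) hk4
    rw [card_three h P, hk]
    rw [hk] at hodd
    interval_cases k <;> omega
  let P' : Sylow 3 C := P.subtype hPC
  have hP'card : Nat.card (P' : Subgroup C) = 9 := by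
    rw [show (P' : Subgroup C) = (P : Subgroup G).subgroupOf C from rfl,
      Nat.card_congr (Subgroup.subgroupOfEquivOfLe hPC).toEquiv, card_three h P]
  have hnorm : Subgroup.normalizer (P' : Set C) = (P' : Subgroup C) := by
    show Subgroup.normalizer (((P : Subgroup G).subgroupOf C : Subgroup C) : Set C) = _
    rw [← Subgroup.subgroupOf_normalizer_eq hPC, ← Subgroup.inf_subgroupOf_left, hCN]
    rfl
  have hle : Subgroup.normalizer (P' : Set C) ≤ Subgroup.centralizer (P' : Set C) := by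
    rw [hnorm]
    intro a ha
    exact Subgroup.mem_centralizer_iff.2 fun b hb => Subtype.ext (comm_three h P hb ha).eq
  have hmulC := card_normalizer_mul_card_sylow P'
  rw [hnorm, hP'card] at hmulC
  have hs3 := card_sylow_modEq_one 3 C
  rw [Nat.ModEq] at hs3
  have hCd : Nat.card C ∣ 72 := card_cent_dvd h hx1 (by omega) (by omega)
  have h2C : 2 ∣ Nat.card C := by
    have := Subgroup.orderOf_dvd_natCard C (mem_cent h hvx)
    rwa [hv] at this
  have hC36 : Nat.card C = 36 := by
    obtain ⟨s, hs⟩ : ∃ s, Nat.card (Sylow 3 C) = s := ⟨_, rfl⟩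
    rw [hs] at hs3 hmulC
    have hs8 : s ∣ 8 := Nat.dvd_of_mul_dvd_mul_left (show 0 < 9 by norm_num) (hmulC ▸ hCd)
    have := Nat.le_of_dvd (by norm_num) hs8
    rw [← hmulC] at h2C
    interval_cases s <;> omega
  have hcomp := MonoidHom.ker_transferSylow_isComplement' P' hle
  set K' := (MonoidHom.transferSylow P' hle).ker with hK'
  have hK4 : Nat.card K' = 4 := by
    have := hcomp.card_mul_card
    rw [hP'card, hC36] at this
    omega
  have hidx : K'.index = 9 := by
    have := K'.card_mul_index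
    rw [hK4, hC36] at this
    omega
  have hinK : ∀ u : C, orderOf u = 2 → u ∈ K' := fun u hu => by
    have := Subgroup.pow_index_mem K' u
    rwa [hidx, pow_succ, show u ^ 8 = 1 by
      rw [show 8 = orderOf u * 4 by rw [hu], pow_mul, pow_orderOf_eq_one, one_pow], one_mul] at this
  have hsq : ∀ k ∈ K', k * k = 1 := by
    intro k hk
    by_contra hne
    have hd := Subgroup.orderOf_dvd_natCard K' hk
    rw [hK4, show 4 = 2 ^ 2 from rfl] at hd
    obtain ⟨i, hi, hi'⟩ := (Nat.dvd_prime_pow Nat.prime_two).1 hd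
    have hk4 : orderOf k = 4 := by
      interval_cases i
      · have k1 : k = 1 := orderOf_eq_one_iff.1 (by simpa using hi')
        exact absurd (by rw [k1, one_mul]) hne
      · exact absurd (sq_of_two h (by simpa using hi')) hne
      · exact hi'
    have hcyc : Subgroup.zpowers k = K' :=
      Subgroup.eq_of_le_of_card_ge (Subgroup.zpowers_le.2 hk) (by rw [hK4, Nat.card_zpowers, hk4])
    have hkk : orderOf (k * k) = 2 := by
      rw [← pow_two, orderOf_pow, hk4]
      rfl
    refine no_inv_cent h (P := P) (u := ((k * k : C) : G)) (by rw [Subgroup.orderOf_coe, hkk]) fun p hp => ?_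
    have hmem : (⟨p, hPC hp⟩ : C) * (k * k) * (⟨p, hPC hp⟩ : C)⁻¹ ∈ K' :=
      (MonoidHom.normal_ker _).conj_mem _ (mul_mem hk hk) _
    rw [← hcyc, mem_zpowers_iff_mem_range_orderOf, hk4, Finset.mem_image] at hmem
    obtain ⟨j, hj, hje⟩ := hmem
    rw [Finset.mem_range] at hj
    have ho : orderOf (k ^ j) = 2 := by rw [hje]; exact (MulEquiv.orderOf_eq (MulAut.conj _) _).trans hkk
    rw [orderOf_pow, hk4] at ho
    interval_cases j
    · simp at ho
    · simp at ho
    · rw [pow_two, eq_mul_inv_iff_mul_eq] at hje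
      exact (congrArg Subtype.val hje).symm
    · simp at ho
  refine ⟨K'.map C.subtype, by rw [Subgroup.card_map_of_injective C.subtype_injective, hK4],
    ?_, ?_, fun u hu hux => ?_, fun g hg => ?_⟩
  · rintro _ ⟨k, hk, rfl⟩
    exact congrArg Subtype.val (hsq k hk)
  · rintro _ ⟨k, -, rfl⟩
    exact Subgroup.mem_centralizer_singleton_iff.1 k.2
  · exact ⟨⟨u, mem_cent h hux⟩, hinK _ (by rw [← Subgroup.orderOf_coe]; exact hu), rfl⟩
  · obtain ⟨⟨k, p⟩, e⟩ := hcomp.2 ⟨g, mem_cent h hg⟩
    exact ⟨(k.1 : G), ⟨k.1, k.2, rfl⟩, (p.1 : G), p.2, (congrArg Subtype.val e).symm⟩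

theorem inv_comm {x u v : G} (hx : orderOf x = 3) (hu : orderOf u = 2) (hv : orderOf v = 2)
    (hux : Commute u x) (hvx : Commute v x) : Commute u v := by
  obtain ⟨P, hxP, -⟩ := exists_P h h7 hx hx (Commute.refl x)
  obtain ⟨K, -, hsq, -, hinK, -⟩ := cent_data h h7 hx hxP hu hux
  have h1 := hsq _ (mul_mem (hinK u hu hux) (hinK v hv hvx))
  have e := inv_eq_of_mul_eq_one_right h1
  rw [mul_inv_rev, inv_eq_of_mul_eq_one_right (sq_of_two h hu),
    inv_eq_of_mul_eq_one_right (sq_of_two h hv)] at e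
  exact e.symm

theorem cent_inv_pair {x v g : G} (hx : orderOf x = 3) (hv : orderOf v = 2) (hvx : Commute v x)
    (hgx : Commute g x) (hgv : Commute g v) :
    ∃ k, k * k = 1 ∧ Commute k x ∧ Commute k v ∧ ∃ i ∈ Subgroup.zpowers x, g = k * i := by
  obtain ⟨P, hxP, -⟩ := exists_P h h7 hx hx (Commute.refl x)
  obtain ⟨K, -, hsq, hKx, hinK, hdec⟩ := cent_data h h7 hx hxP hv hvx
  obtain ⟨k, hk, p, hp, rfl⟩ := hdec g hgx
  have hkv : Commute k v := by
    by_cases hk1 : k = 1
    · rw [hk1]; exact Commute.one_left v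
    · exact inv_comm h h7 hx (orderOf_eq_prime (by rw [pow_two]; exact hsq k hk) hk1) hv (hKx k hk) hvx
  refine ⟨k, hsq k hk, hKx k hk, hkv, p, ?_, rfl⟩
  by_contra hpx
  have hpv : Commute p v := by
    have := hkv.inv_left.mul_left hgv
    rwa [inv_mul_cancel_left] at this
  exact no_inv_cent h hv (comm_gen h P hxP hx hp hpx hvx hpv.symm)

/-- An involution centralises only one subgroup of order three. -/
theorem uniq {u x x' : G} (hu : orderOf u = 2) (hx : orderOf x = 3) (hx' : orderOf x' = 3)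
    (hux : Commute u x) (hux' : Commute u x') : x' ∈ Subgroup.zpowers x := by
  haveI : Fact (Nat.Prime 3) := ⟨Nat.prime_three⟩
  obtain ⟨P, hxP, -⟩ := exists_P h h7 hx hx (Commute.refl x)
  obtain ⟨K, hK4, hsq, hKx, hinK, -⟩ := cent_data h h7 hx hxP hu hux
  set U := Subgroup.centralizer ({u} : Set G) with hU
  set V := U ⊓ Subgroup.centralizer ({x} : Set G) with hV
  have h4 : 4 ∣ Nat.card V := hK4 ▸ Subgroup.card_dvd_of_le (fun k hk => ⟨mem_cent h (by
    by_cases hk1 : k = 1
    · rw [hk1]; exact Commute.one_left u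
    · exact inv_comm h h7 hx (orderOf_eq_prime (by rw [pow_two]; exact hsq k hk) hk1) hu (hKx k hk) hux),
    mem_cent h (hKx k hk)⟩ : K ≤ V)
  have h3 : 3 ∣ Nat.card V :=
    hx ▸ Subgroup.orderOf_dvd_natCard V ⟨mem_cent h hux.symm, mem_cent h (Commute.refl x)⟩
  have h12 : 12 ∣ Nat.card V := Nat.Coprime.mul_dvd_of_dvd_of_dvd (by norm_num : Nat.Coprime 3 4) h3 h4
  set V' := V.subgroupOf U with hV'
  have hidx : V'.index ≤ 2 := by
    have hm := V'.card_mul_index
    rw [Nat.card_congr (Subgroup.subgroupOfEquivOfLe (inf_le_left : V ≤ U)).toEquiv,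
      card_cent_inv h hu] at hm
    have h12' := Nat.le_of_dvd Nat.card_pos h12
    by_contra hlt
    have := Nat.mul_le_mul h12' (show 3 ≤ V'.index by omega)
    linarith
  have hmem : (⟨x', mem_cent h hux'.symm⟩ : U) ^ 2 ∈ V' := by
    rcases Nat.lt_or_ge V'.index 2 with h1 | h1
    · have : V'.index ≠ 0 := Subgroup.index_ne_zero_of_finite
      rw [Subgroup.index_eq_one.1 (by omega : V'.index = 1)]
      exact Subgroup.mem_top _
    · exact Subgroup.sq_mem_of_index_two (by omega) _
  have hcx : Commute (x' * x') x := by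
    have := (Subgroup.mem_subgroupOf.1 hmem).2
    rw [pow_two] at this
    exact Subgroup.mem_centralizer_singleton_iff.1 this
  have hcx' : Commute x x' := by
    have he : x' = (x' * x') * (x' * x') := by
      calc x' = x' ^ 3 * x' := by rw [orderOf_dvd_iff_pow_eq_one.1 hx'.dvd, one_mul]
        _ = (x' * x') * (x' * x') := by simp only [pow_succ, pow_zero, one_mul, mul_assoc]
    rw [he]
    exact (hcx.mul_left hcx).symm
  obtain ⟨Q, hxQ, hx'Q⟩ := exists_P h h7 hx hx' hcx'
  by_contra hne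
  exact no_inv_cent h hu (comm_gen h Q hxQ hx hx'Q hne hux hux')

/-- The centraliser of an involution normalises its subgroup of order three. -/
theorem cent_act {u x g : G} (hu : orderOf u = 2) (hx : orderOf x = 3) (hux : Commute u x)
    (hgu : Commute g u) : g * x * g⁻¹ = x ∨ g * x * g⁻¹ = x⁻¹ := by
  have hx' : orderOf (g * x * g⁻¹) = 3 := (conj_ord h).trans hx
  have hc : Commute u (g * x * g⁻¹) := (hgu.symm.mul_right hux).mul_right hgu.symm.inv_right
  rcases three_zpowers h hx (uniq h h7 hu hx hx' hux hc) with e | e | e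
  · rw [e, orderOf_one] at hx'; omega
  · exact Or.inl e
  · exact Or.inr e

/-- Elements of order three commuting with involutions and lying in one Sylow subgroup are fused in its
normaliser. -/
theorem fuse (P : Sylow 3 G) {x y u v : G} (hxP : x ∈ (P : Subgroup G)) (hyP : y ∈ (P : Subgroup G))
    (hx : orderOf x = 3) (hy : orderOf y = 3) (hu : orderOf u = 2) (hux : Commute u x)
    (hv : orderOf v = 2) (hvy : Commute v y) :
    ∃ n ∈ Subgroup.normalizer ((P : Subgroup G) : Set G), n * x * n⁻¹ ∈ Subgroup.zpowers y := by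
  classical
  haveI : Fact (Nat.Prime 3) := ⟨Nat.prime_three⟩
  obtain ⟨g, hg⟩ := (involutions h).1 u v hu hv
  have hgx : orderOf (g * x * g⁻¹) = 3 := (conj_ord h).trans hx
  have hmem : g * x * g⁻¹ ∈ Subgroup.zpowers y := uniq h h7 hv hy hgx hvy (by
    rw [← hg]
    exact hux.map (MulAut.conj g).toMonoidHom)
  set x' := g * x * g⁻¹ with hx'
  have hx'P : x' ∈ (P : Subgroup G) := Subgroup.zpowers_le.2 hyP hmem
  set C := Subgroup.centralizer ({x'} : Set G) with hC
  have hPC : (P : Subgroup G) ≤ C := fun p hp => mem_cent h (comm_three h P hp hx'P)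
  have hQC : ((g • P : Sylow 3 G) : Subgroup G) ≤ C := by
    rintro _ ⟨p, hp, rfl⟩
    exact mem_cent h ((comm_three h P hp hxP).map (MulAut.conj g).toMonoidHom)
  obtain ⟨c, hc⟩ := MulAction.exists_smul_eq C ((g • P).subtype hQC) (P.subtype hPC)
  refine ⟨(c : G) * g, ?_, ?_⟩
  · refine Sylow.smul_eq_iff_mem_normalizer.1 ?_
    rw [mul_smul]
    refine Sylow.subtype_injective (hP := ?_) (hQ := hPC) ?_
    · rintro _ ⟨p, hp, rfl⟩
      exact C.mul_mem (C.mul_mem c.2 (hQC hp)) (C.inv_mem c.2)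
    · rw [← hc, Sylow.smul_subtype]
      rfl
  · have hcc : Commute (c : G) x' := Subgroup.mem_centralizer_singleton_iff.1 c.2
    rw [show (c : G) * g * x * ((c : G) * g)⁻¹ = (c : G) * x' * (c : G)⁻¹ by rw [hx']; group,
      mul_inv_eq_iff_eq_mul.2 hcc.eq]
    exact hmem

theorem two_lines {x y y' u v v' : G} (hx : orderOf x = 3) (hy : orderOf y = 3) (hy' : orderOf y' = 3)
    (hu : orderOf u = 2) (hux : Commute u x) (hv : orderOf v = 2) (hvy : Commute v y)
    (hv' : orderOf v' = 2) (hvy' : Commute v' y') (hxy : Commute x y) (hxy' : Commute x y')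
    (hyy' : Commute y y') :
    y ∈ Subgroup.zpowers x ∨ y' ∈ Subgroup.zpowers x ∨ y' ∈ Subgroup.zpowers y := by
  classical
  by_contra hcon
  push Not at hcon
  obtain ⟨h1, h2, h3⟩ := hcon
  obtain ⟨P, hxP, hyP⟩ := exists_P h h7 hx hy hxy
  have hy'P : y' ∈ (P : Subgroup G) := cent_P h h7 P (comm_gen h P hxP hx hyP h1 hxy'.symm hyy'.symm)
  obtain ⟨n, hn, hny⟩ := fuse h h7 P hxP hyP hx hy hu hux hv hvy
  obtain ⟨n', hn', hny'⟩ := fuse h h7 P hxP hy'P hx hy' hu hux hv' hvy'
  obtain ⟨w, hwN, hw⟩ := exists_w h h7 P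
  set N := Subgroup.normalizer ((P : Subgroup G) : Set G) with hN
  set M := N ⊓ Subgroup.normalizer ((Subgroup.zpowers x : Subgroup G) : Set G) with hM
  have hfixes : ∀ m : G, (∀ q, q ∈ Subgroup.zpowers x → m * q * m⁻¹ ∈ Subgroup.zpowers x) →
      m ∈ Subgroup.normalizer ((Subgroup.zpowers x : Subgroup G) : Set G) := fun m hm =>
    Subgroup.mem_normalizer_fintype hm
  have hPM : (P : Subgroup G) ≤ M := fun p hp => ⟨Subgroup.le_normalizer hp, hfixes p fun q hq => by
    rwa [mul_inv_eq_iff_eq_mul.2 (comm_three h P hp (Subgroup.zpowers_le.2 hxP hq)).eq]⟩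
  have hrM : w * w ∈ M := ⟨mul_mem hwN hwN, hfixes _ fun q hq => by
    rw [inv_all h h7 P (ord_sq h h7 hw) (mul_mem hwN hwN) (Subgroup.zpowers_le.2 hxP hq)]
    exact inv_mem hq⟩
  have hwM : w ∉ M := fun hw' =>
    w_moves h h7 P hwN hw hxP hx ((Subgroup.mem_normalizer_iff.1 hw'.2 x).1 (Subgroup.mem_zpowers x))
  have hM18 : (M.subgroupOf N).index = 2 := by
    have hm := (M.subgroupOf N).card_mul_index
    rw [Nat.card_congr (Subgroup.subgroupOfEquivOfLe (inf_le_left : M ≤ N)).toEquiv, card_N h h7 P] at hm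
    have h9 : 9 ∣ Nat.card M := card_three h P ▸ Subgroup.card_dvd_of_le hPM
    have h2 : 2 ∣ Nat.card M := ord_sq h h7 hw ▸ Subgroup.orderOf_dvd_natCard M hrM
    obtain ⟨k, hk⟩ : 18 ∣ Nat.card M := Nat.Coprime.mul_dvd_of_dvd_of_dvd (by norm_num : Nat.Coprime 2 9) h2 h9
    have hne : (M.subgroupOf N).index ≠ 1 := fun e =>
      hwM (Subgroup.mem_subgroupOf.1 ((Subgroup.index_eq_one.1 e).symm ▸ Subgroup.mem_top (⟨w, hwN⟩ : N)))
    rw [hk, mul_assoc] at hm
    have hd : (M.subgroupOf N).index ∣ 2 := ⟨k, by rw [mul_comm]; omega⟩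
    exact ((Nat.dvd_prime Nat.prime_two).1 hd).resolve_left hne
  have hout : ∀ (m q : G) (hm : m ∈ N), orderOf q = 3 → q ∉ Subgroup.zpowers x →
      m * x * m⁻¹ ∈ Subgroup.zpowers q → m ∉ M := by
    intro m q hm hq hqx hmq hmM
    have hin := (Subgroup.mem_normalizer_iff.1 hmM.2 x).1 (Subgroup.mem_zpowers x)
    have hne : m * x * m⁻¹ ≠ 1 := fun e => by rw [conj_eq_one_iff.1 e, orderOf_one] at hx; omega
    exact hqx (Subgroup.zpowers_le.2 hin (zpowers_symm h hq hmq hne))
  have ho := hout n y hn hy h1 hny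
  have ho' := hout n' y' hn' hy' h2 hny'
  have hin : n⁻¹ * n' ∈ M := by
    have := (Subgroup.mul_mem_iff_of_index_two hM18 (a := (⟨n, hn⟩ : N)⁻¹) (b := ⟨n', hn'⟩)).2
      (iff_of_false (fun e => ho (Subgroup.mem_subgroupOf.1 (inv_mem_iff.1 e)))
        fun e => ho' (Subgroup.mem_subgroupOf.1 e))
    exact Subgroup.mem_subgroupOf.1 this
  have hx' := conj_zpowers h (g := n)
    ((Subgroup.mem_normalizer_iff.1 hin.2 x).1 (Subgroup.mem_zpowers x))
  rw [show n * (n⁻¹ * n' * x * (n⁻¹ * n')⁻¹) * n⁻¹ = n' * x * n'⁻¹ by group] at hx'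
  have hne : n' * x * n'⁻¹ ≠ 1 := fun e => by rw [conj_eq_one_iff.1 e, orderOf_one] at hx; omega
  exact h3 (Subgroup.zpowers_le.2 (Subgroup.zpowers_le.2 hny hx') (zpowers_symm h hy' hny' hne))

/-- An involution inverting `x` fixes an involution commuting with `x`. -/
theorem inv_fix {x r m : G} (hx : orderOf x = 3) (hr : orderOf r = 2) (hrx : r * x * r⁻¹ = x⁻¹)
    (hm : orderOf m = 2) (hmx : Commute m x) : ∃ k, orderOf k = 2 ∧ Commute k x ∧ Commute k r := by
  have hrr : r * r = 1 := sq_of_two h hr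
  have hri : r⁻¹ = r := inv_eq_of_mul_eq_one_right hrr
  have hm'o : orderOf (r * m * r⁻¹) = 2 := (conj_ord h).trans hm
  have hm'x : Commute (r * m * r⁻¹) x := by
    have := (hmx.inv_right).map (MulAut.conj r).toMonoidHom
    simpa [MulAut.conj_apply, ← conj_inv, hrx] using this
  by_cases hc : r * m * r⁻¹ = m
  · exact ⟨m, hm, hmx, (mul_inv_eq_iff_eq_mul.1 hc).symm⟩
  have hcm := inv_comm h h7 hx hm hm'o hmx hm'x
  set k := m * (r * m * r⁻¹) with hk
  have hkk : k ^ 2 = 1 := by
    rw [hk, hcm.mul_pow, pow_two, pow_two, sq_of_two h hm, sq_of_two h hm'o, one_mul]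
  have hk1 : k ≠ 1 := fun e => hc (by
    rw [eq_inv_of_mul_eq_one_right e, inv_eq_of_mul_eq_one_right (sq_of_two h hm)])
  refine ⟨k, orderOf_eq_prime hkk hk1, hmx.mul_left hm'x, (mul_inv_eq_iff_eq_mul.1 ?_).symm⟩
  calc r * k * r⁻¹ = (r * m * r⁻¹) * ((r * r) * m * (r * r)⁻¹) := by rw [hk]; group
    _ = (r * m * r⁻¹) * m := by rw [hrr]; group
    _ = k := hcm.symm.eq

/-- Carmichael's generators. -/
theorem exists_carm : ∃ y : Fin 4 → G, CfsgLib.ShortPres.Carm y ∧ y 0 ≠ 1 := by
  classical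
  haveI : Fact (Nat.Prime 2) := ⟨Nat.prime_two⟩
  haveI : Fact (Nat.Prime 3) := ⟨Nat.prime_three⟩
  obtain ⟨g4, hg4⟩ := exists_four h
  have hne1 : ∀ {x : G}, orderOf x = 3 → x ≠ 1 := fun hx e => by rw [e, orderOf_one] at hx; omega
  have hxi : ∀ {x : G}, orderOf x = 3 → x ≠ x⁻¹ := fun {x} hx e => by
    have : x ^ 2 = 1 := by rw [pow_two]; exact eq_inv_iff_mul_eq_one.1 e
    have := orderOf_dvd_of_pow_eq_one this
    rw [hx] at this
    omega
  have h3z : ∀ v : G, orderOf v = 2 → ∃ a : G, orderOf a = 3 ∧ Commute v a := fun v hv => by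
    obtain ⟨a, ha⟩ := exists_prime_orderOf_dvd_card' (G := Subgroup.centralizer ({v} : Set G)) 3
      (by rw [card_cent_inv h hv]; norm_num)
    exact ⟨a, by rw [Subgroup.orderOf_coe, ha], (Subgroup.mem_centralizer_singleton_iff.1 a.2).symm⟩
  -- two lines, a common inverting involution and fixed involutions
  obtain ⟨a, ha, hta⟩ := h3z _ (ord_sq h h7 hg4)
  obtain ⟨P, haP, -⟩ := exists_P h h7 ha ha (Commute.refl a)
  obtain ⟨w, hwN, hw⟩ := exists_w h h7 P
  obtain ⟨y, hydef⟩ : ∃ y, y = w * a * w⁻¹ := ⟨_, rfl⟩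
  have hy : orderOf y = 3 := hydef ▸ (conj_ord h).trans ha
  have hyP : y ∈ (P : Subgroup G) := hydef ▸ (Subgroup.mem_normalizer_iff.1 hwN a).1 haP
  have hya : y ∉ Subgroup.zpowers a := hydef ▸ w_moves h h7 P hwN hw haP ha
  have hay : Commute a y := comm_three h P haP hyP
  obtain ⟨r, hrdef⟩ : ∃ r, r = w * w := ⟨_, rfl⟩
  have hr : orderOf r = 2 := hrdef ▸ ord_sq h h7 hw
  have hrN : r ∈ Subgroup.normalizer ((P : Subgroup G) : Set G) := hrdef ▸ mul_mem hwN hwN
  have hrr : r * r = 1 := sq_of_two h hr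
  have hri : r⁻¹ = r := inv_eq_of_mul_eq_one_right hrr
  have hra : r * a * r = a⁻¹ := by
    have := inv_all h h7 P hr hrN haP
    rwa [hri] at this
  have hry : r * y * r = y⁻¹ := by
    have := inv_all h h7 P hr hrN hyP
    rwa [hri] at this
  obtain ⟨k, hk, hka, hkr⟩ := inv_fix h h7 ha hr (inv_all h h7 P hr hrN haP) (ord_sq h h7 hg4) hta
  obtain ⟨z, hz, hzy, hzr⟩ := inv_fix h h7 hy hr (inv_all h h7 P hr hrN hyP)
    ((conj_ord h).trans (ord_sq h h7 hg4) : orderOf (w * (g4 * g4) * w⁻¹) = 2)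
    (hydef ▸ hta.map (MulAut.conj w).toMonoidHom)
  have hzz : z * z = 1 := sq_of_two h hz
  have hzi : z⁻¹ = z := inv_eq_of_mul_eq_one_right hzz
  have hki : k⁻¹ = k := inv_eq_of_mul_eq_one_right (sq_of_two h hk)
  obtain ⟨g, hgdef⟩ : ∃ g, g = k * y * k⁻¹ := ⟨_, rfl⟩
  have hg : orderOf g = 3 := hgdef ▸ (conj_ord h).trans hy
  have hga : Commute g a := hgdef ▸ (hka.mul_left hay.symm).mul_left hka.inv_left
  have hgy : g ∉ Subgroup.zpowers y := fun hmem => by
    have hkN : k ∈ Subgroup.normalizer ((P : Subgroup G) : Set G) := by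
      have hle : Subgroup.closure ({a, y} : Set G) ≤ (P : Subgroup G).comap (MulAut.conj k).toMonoidHom :=
        (Subgroup.closure_le _).2 (by
          rintro q (e1 | e1)
          · subst e1
            show k * q * k⁻¹ ∈ (P : Subgroup G)
            rwa [mul_inv_eq_iff_eq_mul.2 hka.eq]
          · rw [show q = y from e1]
            show k * y * k⁻¹ ∈ (P : Subgroup G)
            exact hgdef ▸ Subgroup.zpowers_le.2 hyP hmem)
      exact Subgroup.mem_normalizer_fintype fun q hq => hle (gen9 h P haP ha hyP hya q hq)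
    exact no_inv_three h h7 P hk hkN haP ha hka
  have hrg : r * g * r = g⁻¹ := by
    calc r * g * r = (r * k) * y * (k * r) := by rw [hgdef, hki]; group
      _ = (k * r) * y * (r * k) := congr_arg₂ (fun p q => p * y * q) hkr.symm.eq hkr.eq
      _ = k * (r * y * r) * k := by group
      _ = g⁻¹ := by rw [hry, hgdef]; simp only [mul_inv_rev, inv_inv, hki, mul_assoc]
  obtain ⟨x3, hx3⟩ : ∃ q, q = g * r := ⟨_, rfl⟩
  obtain ⟨x5, hx5⟩ : ∃ q, q = y * r := ⟨_, rfl⟩
  have hinvo : ∀ {q : G}, orderOf q = 3 → r * q * r = q⁻¹ → orderOf (q * r) = 2 := fun {q} hq e => by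
    refine orderOf_eq_prime ?_ fun e1 => ?_
    · rw [pow_two, show q * r * (q * r) = q * (r * q * r) by group, e, mul_inv_cancel]
    · rw [eq_inv_of_mul_eq_one_left e1, orderOf_inv, hr] at hq
      omega
  have h3o : orderOf x3 = 2 := hx3 ▸ hinvo hg hrg
  have h5o : orderOf x5 = 2 := hx5 ▸ hinvo hy hry
  have h5i : x5⁻¹ = x5 := inv_eq_of_mul_eq_one_right (sq_of_two h h5o)
  have hz5 : Commute z x5 := hx5 ▸ hzy.mul_right hzr
  have h5a : x5 * a * x5⁻¹ = a⁻¹ := by
    calc x5 * a * x5⁻¹ = y * (r * a * r) * y⁻¹ := by rw [hx5, mul_inv_rev, hri]; group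
      _ = a⁻¹ := by rw [hra, mul_inv_eq_iff_eq_mul.2 (hay.symm.inv_right).eq]
  have h5y : x5 * y * x5⁻¹ = y⁻¹ := by
    calc x5 * y * x5⁻¹ = y * (r * y * r) * y⁻¹ := by rw [hx5, mul_inv_rev, hri]; group
      _ = y⁻¹ := by rw [hry]; group
  have h35 : x3 * x5 = g * y⁻¹ := by
    rw [hx3, hx5, show g * r * (y * r) = g * (r * y * r) by group, hry]
  have hv : orderOf (x3 * x5) = 2 ∧ Commute (x3 * x5) a := by
    rw [h35]
    refine ⟨orderOf_eq_prime ?_ ?_, hga.mul_left hay.symm.inv_left⟩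
    · have hko : orderOf (y * k * y⁻¹) = 2 := (conj_ord h).trans hk
      have hc := inv_comm h h7 ha hk hko hka ((hay.symm.mul_left hka).mul_left hay.symm.inv_left)
      rw [show g * y⁻¹ = k * (y * k * y⁻¹) by rw [hgdef, hki]; group, hc.mul_pow, pow_two, pow_two,
        sq_of_two h hk, sq_of_two h hko, one_mul]
    · intro e
      exact hgy (by rw [mul_inv_eq_one.1 e]; exact Subgroup.mem_zpowers y)
  obtain ⟨hv2, hva⟩ := hv
  have h3i : x3⁻¹ = x3 := inv_eq_of_mul_eq_one_right (sq_of_two h h3o)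
  have h53 : Commute x3 x5 := by
    have := inv_eq_of_mul_eq_one_right (sq_of_two h hv2)
    rw [mul_inv_rev, h5i, h3i] at this
    exact this.symm
  -- the braid relation
  obtain ⟨e, he, h5e⟩ := h3z x5 h5o
  have hnot : ∀ {q : G}, orderOf q = 3 → x5 * q * x5⁻¹ = q⁻¹ → ¬ Commute x5 q := fun hq e1 hc =>
    hxi hq ((mul_inv_eq_iff_eq_mul.2 hc.eq).symm.trans e1)
  have hcommq : ∀ {v q : G}, orderOf v = 2 → orderOf q = 3 → Commute v q → Commute v e →
      x5 * q * x5⁻¹ = q⁻¹ → False := fun {v q} hv hq hvq hve e1 => by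
    obtain ⟨i, hi⟩ := Subgroup.mem_zpowers_iff.1 (uniq h h7 hv he hq hve hvq)
    exact hnot hq e1 (hi ▸ h5e.zpow_right i)
  have hze : z * e * z⁻¹ = e⁻¹ := (cent_act h h7 h5o he h5e hz5).resolve_left fun e1 =>
    hcommq hz hy hzy (mul_inv_eq_iff_eq_mul.1 e1) h5y
  have h3e : x3 * e * x3⁻¹ = e⁻¹ := (cent_act h h7 h5o he h5e h53).resolve_left fun e1 =>
    hcommq hv2 ha hva ((show Commute x3 e from mul_inv_eq_iff_eq_mul.1 e1).mul_left h5e) h5a
  have hqe : Commute (z * x3) e := mul_inv_eq_iff_eq_mul.1 (by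
    rw [show z * x3 * e * (z * x3)⁻¹ = z * (x3 * e * x3⁻¹) * z⁻¹ by group, h3e, ← conj_inv, hze, inv_inv])
  obtain ⟨m, hmm, hme, hm5, i, hi, hq⟩ := cent_inv_pair h h7 he h5o h5e hqe (hz5.mul_left h53)
  have hie : Commute i e := by
    obtain ⟨j, rfl⟩ := Subgroup.mem_zpowers_iff.1 hi
    exact (Commute.refl e).zpow_left j
  have hi5 : Commute x5 i := by
    obtain ⟨j, rfl⟩ := Subgroup.mem_zpowers_iff.1 hi
    exact h5e.zpow_right j
  have hi3 : i ^ 3 = 1 := by
    obtain ⟨j, rfl⟩ := Subgroup.mem_zpowers_iff.1 hi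
    rw [← zpow_natCast, ← zpow_mul, mul_comm, zpow_mul, zpow_natCast, ← he, pow_orderOf_eq_one, one_zpow]
  have hzi' : z * i * z⁻¹ = i⁻¹ := by
    obtain ⟨j, rfl⟩ := Subgroup.mem_zpowers_iff.1 hi
    rw [← conj_zpow, hze, inv_zpow]
  have hmi : Commute m i := by
    obtain ⟨j, rfl⟩ := Subgroup.mem_zpowers_iff.1 hi
    exact hme.zpow_right j
  have hminv : m⁻¹ = m := inv_eq_of_mul_eq_one_right hmm
  have hzm : Commute z m := mul_inv_eq_iff_eq_mul.1 (by
    have e1 : z * (m * i) * z⁻¹ = (m * i)⁻¹ := by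
      rw [← hq, mul_inv_rev, h3i, ← mul_assoc, hzz, one_mul]
    rw [show z * (m * i) * z⁻¹ = (z * m * z⁻¹) * (z * i * z⁻¹) by group, hzi', mul_inv_rev, hminv,
      ← hmi.inv_right.eq] at e1
    exact mul_right_cancel e1)
  have hbraid : (z * x3) ^ 3 = 1 := by
    by_cases hm1 : m = 1
    · rw [hq, hm1, one_mul, hi3]
    exfalso
    have hm2 : orderOf m = 2 := orderOf_eq_prime (by rw [pow_two]; exact hmm) hm1
    by_cases hm5' : m = x5
    · -- three commuting lines
      subst m
      have hiz : z * i = i * z * i⁻¹ := by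
        have e1 : i * z = z * i⁻¹ := by
          calc i * z = (z * i * z⁻¹)⁻¹ * z := by rw [hzi', inv_inv]
            _ = z * i⁻¹ := by group
        rw [e1, mul_assoc, show i⁻¹ * i⁻¹ = i by
          rw [← mul_inv_rev, inv_eq_iff_mul_eq_one, ← pow_two, ← pow_succ, hi3]]
      have hvz : x3 * x5 = i * z * i⁻¹ := by
        have e1 : x3 = z * (x5 * i) := by
          rw [← hq, ← mul_assoc, hzz, one_mul]
        rw [← hiz, e1, hi5.eq, ← mul_assoc, mul_assoc _ x5 x5, sq_of_two h h5o, mul_one]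
      have hiy : orderOf (i * y * i⁻¹) = 3 := (conj_ord h).trans hy
      have hviy : Commute (x3 * x5) (i * y * i⁻¹) := hvz ▸ hzy.map (MulAut.conj i).toMonoidHom
      have hmemA : i * y * i⁻¹ ∈ Subgroup.zpowers a := uniq h h7 hv2 ha hiy hva hviy
      set L1 := i * y * i⁻¹ with hL1
      set L2 := i * L1 * i⁻¹ with hL2
      have hL : Commute y L1 := by
        obtain ⟨j, hj⟩ := Subgroup.mem_zpowers_iff.1 hmemA
        exact hj ▸ hay.symm.zpow_right j
      have hiii : i * i * i = 1 := by rw [← pow_two, ← pow_succ, hi3]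
      have hback : i * L2 * i⁻¹ = y := by
        calc i * L2 * i⁻¹ = (i * i * i) * y * (i * i * i)⁻¹ := by rw [hL2, hL1]; group
          _ = y := by rw [hiii]; group
      have hL12 : Commute L1 L2 := hL.map (MulAut.conj i).toMonoidHom
      have hL2y : Commute L2 y := by
        have := hL12.map (MulAut.conj i).toMonoidHom
        simp only [MulEquiv.coe_toMonoidHom, MulAut.conj_apply] at this
        rwa [hback] at this
      have hyL1 : L1 ∉ Subgroup.zpowers y := fun hin =>
        hya (Subgroup.zpowers_le.2 hmemA (zpowers_symm h hy hin (hne1 hiy)))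
      have hL2o : orderOf L2 = 3 := (conj_ord h).trans hiy
      rcases two_lines h h7 hy hiy hL2o hz hzy hv2 hviy ((conj_ord h).trans hv2)
        (hviy.map (MulAut.conj i).toMonoidHom) hL hL2y.symm hL12 with c | c | c
      · exact hyL1 c
      · have := conj_zpowers h (g := i) c
        rw [hback] at this
        exact hyL1 (zpowers_symm h hiy this (hne1 hy))
      · have := conj_zpowers h (g := i⁻¹) c
        rw [show i⁻¹ * L2 * i⁻¹⁻¹ = L1 by rw [hL2]; group, show i⁻¹ * L1 * i⁻¹⁻¹ = y by rw [hL1]; group] at this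
        exact hyL1 this
    · rcases cent_act h h7 hz hy hzy hzm.symm with c | c
      · exact hcommq hm2 hy (mul_inv_eq_iff_eq_mul.1 c) hme h5y
      · refine hcommq (v := x5 * m) (orderOf_eq_prime ?_ fun e1 => hm5' ?_) hy (mul_inv_eq_iff_eq_mul.1 ?_)
          (h5e.mul_left hme) h5y
        · rw [hm5.symm.mul_pow, pow_two, pow_two, sq_of_two h h5o, hmm, one_mul]
        · rw [eq_inv_of_mul_eq_one_right e1, h5i]
        · rw [show x5 * m * y * (x5 * m)⁻¹ = x5 * (m * y * m⁻¹) * x5⁻¹ by group, c, ← conj_inv, h5y, inv_inv]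
  -- Carmichael's relations
  obtain ⟨A, hA⟩ : ∃ q, q = a * z * a⁻¹ := ⟨_, rfl⟩
  have hAo : orderOf A = 2 := hA ▸ (conj_ord h).trans hz
  have hAy : Commute A y := hA ▸ (hay.mul_left hzy).mul_left hay.inv_left
  have hAz : Commute A z := inv_comm h h7 hy hAo hz hAy hzy
  obtain ⟨b, hb⟩ : ∃ q, q = z * a⁻¹ * z := ⟨_, rfl⟩
  obtain ⟨c, hc⟩ : ∃ q, q = g * b * g⁻¹ := ⟨_, rfl⟩
  obtain ⟨d, hd⟩ : ∃ q, q = g * c * g⁻¹ := ⟨_, rfl⟩
  have hab : (a * b) ^ 2 = 1 := by
    rw [show a * b = A * z by rw [hA, hb]; group, hAz.mul_pow, pow_two, pow_two, sq_of_two h hAo, hzz, one_mul]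
  have hconj : ∀ {p q : G}, (p * q) ^ 2 = 1 → (g * p * g⁻¹ * (g * q * g⁻¹)) ^ 2 = 1 := fun {p q} e1 => by
    rw [show g * p * g⁻¹ * (g * q * g⁻¹) = g * (p * q) * g⁻¹ by group, conj_pow, e1, mul_one, mul_inv_cancel]
  have hgag : g * a * g⁻¹ = a := mul_inv_eq_iff_eq_mul.2 hga.eq
  have hac : (a * c) ^ 2 = 1 := by
    have := hconj hab
    rwa [hgag, ← hc] at this
  have had : (a * d) ^ 2 = 1 := by
    have := hconj hac
    rwa [hgag, ← hd] at this
  have hrb : r * b * r = b⁻¹ := by
    calc r * b * r = (r * z) * a⁻¹ * (z * r) := by rw [hb]; group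
      _ = (z * r) * a⁻¹ * (r * z) := congr_arg₂ (fun p q => p * a⁻¹ * q) hzr.symm.eq hzr.eq
      _ = z * (r * a⁻¹ * r) * z := by group
      _ = b⁻¹ := by
        rw [show r * a⁻¹ * r = a by
          have := congrArg (·⁻¹) hra
          simpa [hri, mul_assoc] using this, hb]
        simp only [mul_inv_rev, inv_inv, hzi, mul_assoc]
  have hcx : c = x3 * b⁻¹ * x3 := by
    have e1 : g = x3 * r := by rw [hx3, mul_assoc, hrr, mul_one]
    rw [hc, e1, show x3 * r * b * (x3 * r)⁻¹ = x3 * (r * b * r⁻¹) * x3⁻¹ by group, hri, hrb, h3i]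
  have hbc : (b * c) ^ 2 = 1 := by
    have hA3 : a⁻¹ * x3 = x3 * a := by
      calc a⁻¹ * x3 = g * (a⁻¹ * r) := by rw [hx3, ← mul_assoc, hga.inv_right.symm.eq, mul_assoc]
        _ = g * (r * a) := by
          rw [← hra, mul_assoc (r * a) r r, hrr, mul_one]
        _ = x3 * a := by rw [hx3, mul_assoc]
    have hA3' : x3 * a⁻¹ = a * x3 := by
      calc x3 * a⁻¹ = g * (r * a⁻¹) := by rw [hx3, mul_assoc]
        _ = g * (a * r) := by
          rw [show r * a⁻¹ = a * r by rw [← hra, ← mul_assoc, ← mul_assoc, hrr, one_mul]]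
        _ = a * x3 := by rw [hx3, ← mul_assoc, hga.eq, mul_assoc]
    have hb3 : x3 * z * x3 * z * x3 = z := by
      have e1 : z * (x3 * z * x3 * z * x3) = 1 := by
        rw [← hbraid, pow_succ, pow_two]; simp only [mul_assoc]
      rw [eq_inv_of_mul_eq_one_right e1, hzi]
    have hz3 : z * x3 * z = x3 * z * x3 := by
      have e1 : z * x3 * z * (x3 * z * x3) = 1 := by
        rw [← hbraid, pow_succ, pow_two]; simp only [mul_assoc]
      rw [eq_inv_of_mul_eq_one_left e1]
      simp only [mul_inv_rev, hzi, h3i, mul_assoc]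
    set q := z * x3 with hqdef
    have hX : b * x3 * b⁻¹ = q * A * q⁻¹ := by
      calc b * x3 * b⁻¹ = z * a⁻¹ * (z * x3 * z) * a * z := by
            rw [hb]; simp only [mul_inv_rev, inv_inv, hzi, mul_assoc]
        _ = z * (a⁻¹ * x3) * z * (x3 * a) * z := by rw [hz3]; group
        _ = z * (x3 * a) * z * (a⁻¹ * x3) * z := by rw [hA3, ← hA3]
        _ = q * A * q⁻¹ := by rw [hA, hqdef, mul_inv_rev, hzi, h3i]; group
    have hx3q : x3 = q * z * q⁻¹ := by
      have e1 : q⁻¹ * x3 * q = z := by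
        rw [hqdef, mul_inv_rev, hzi, h3i]
        simpa only [mul_assoc] using hb3
      rw [← e1]; group
    have hcm : Commute (b * x3 * b⁻¹) x3 := by
      rw [hX, hx3q]
      exact hAz.map (MulAut.conj q).toMonoidHom
    have hbx : b * c = b * x3 * b⁻¹ * x3 := by rw [hcx]; group
    rw [hbx, hcm.mul_pow, pow_two, pow_two, sq_of_two h h3o,
      sq_of_two h ((conj_ord h).trans h3o : orderOf (b * x3 * b⁻¹) = 2), one_mul]
  have hcd : (c * d) ^ 2 = 1 := by
    have := hconj hbc
    rwa [← hc, ← hd] at this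
  have hg3 : g * g * g = 1 := by
    rw [← pow_two, ← pow_succ]
    show g ^ 3 = 1
    exact hg ▸ pow_orderOf_eq_one g
  have hswap : ∀ {p q : G}, (p * q) ^ 2 = 1 → (q * p) ^ 2 = 1 := fun {p q} e1 => by
    rw [show q * p = p⁻¹ * (p * q) * p⁻¹⁻¹ by group, conj_pow, e1, mul_one, mul_inv_cancel]
  have hbd : (b * d) ^ 2 = 1 := by
    have e1 : g * d * g⁻¹ = b := by
      calc g * d * g⁻¹ = (g * g * g) * b * (g * g * g)⁻¹ := by rw [hd, hc]; group
        _ = b := by rw [hg3]; group
    -- conjugation by `g` sends `(d, b)` to `(b, c)`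
    have : (g * (d * b) * g⁻¹) ^ 2 = 1 := by
      rw [show g * (d * b) * g⁻¹ = (g * d * g⁻¹) * (g * b * g⁻¹) by group, e1, ← hc]; exact hbc
    rw [conj_pow, conj_eq_one_iff] at this
    exact hswap this
  have ha3 : a ^ 3 = 1 := by rw [← ha, pow_orderOf_eq_one]
  have hb3' : b ^ 3 = 1 := by
    rw [show b = z * a⁻¹ * z⁻¹ by rw [hb, hzi], conj_pow, inv_pow, ha3, inv_one, mul_one, mul_inv_cancel]
  have hc3 : c ^ 3 = 1 := by rw [hc, conj_pow, hb3', mul_one, mul_inv_cancel]
  have hd3 : d ^ 3 = 1 := by rw [hd, conj_pow, hc3, mul_one, mul_inv_cancel]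
  refine ⟨![a, b, c, d], ⟨fun i => ?_, fun i j hij => ?_⟩, hne1 ha⟩
  · fin_cases i <;> assumption
  · fin_cases i <;> fin_cases j <;>
      first
        | exact absurd rfl hij
        | assumption
        | exact hswap hab | exact hswap hac | exact hswap had
        | exact hswap hbc | exact hswap hbd | exact hswap hcd

theorem no_fixed : False := by
  classical
  obtain ⟨y, hy, hy0⟩ := exists_carm h h7
  let e : Fin 4 → Fin 6 := fun i => ⟨i.1 + 2, by omega⟩
  have he : Function.Injective e := fun i j hij => Fin.ext (by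
    have := congrArg Fin.val hij
    simpa [e] using this)
  obtain ⟨φ, hφ⟩ := hy.exists_hom (a := (0 : Fin 6)) (b := 1) he (by decide)
    (fun i => Fin.ne_of_val_ne (by simp [e])) (fun i => Fin.ne_of_val_ne (by simp [e]))
  have hX : alternatingGroup (Fin 6) ≤ CfsgLib.ShortPres.altOn
      (insert (0 : Fin 6) (insert 1 (Set.range e))) := fun σ hσ => by
    refine CfsgLib.ShortPres.mem_altOn.2 ⟨fun c hc => absurd ?_ hc, Equiv.Perm.mem_alternatingGroup.1 hσ⟩
    simp only [Set.mem_insert_iff, Set.mem_range]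
    fin_cases c <;> first | exact Or.inl rfl | exact Or.inr (Or.inl rfl) |
      exact Or.inr (Or.inr ⟨0, rfl⟩) | exact Or.inr (Or.inr ⟨1, rfl⟩) |
      exact Or.inr (Or.inr ⟨2, rfl⟩) | exact Or.inr (Or.inr ⟨3, rfl⟩)
  let ψ : alternatingGroup (Fin 6) →* G := φ.comp (Subgroup.inclusion hX)
  haveI : IsSimpleGroup (alternatingGroup (Fin 6)) :=
    alternatingGroup.isSimpleGroup (by rw [Nat.card_fin]; omega)
  have hker : ψ.ker ≠ ⊤ := fun e1 => hy0 (by
    rw [← hφ 0]
    have hm : CfsgLib.ShortPres.cyc3 (0 : Fin 6) 1 (e 0) ∈ alternatingGroup (Fin 6) :=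
      Equiv.Perm.mem_alternatingGroup.2 (CfsgLib.ShortPres.sign_cyc3 (by decide) (Fin.ne_of_val_ne (by simp [e])))
    have : ψ ⟨_, hm⟩ = 1 := MonoidHom.mem_ker.1 (e1 ▸ Subgroup.mem_top _)
    exact this)
  have hinj : Function.Injective ψ :=
    (MonoidHom.ker_eq_bot_iff ψ).1 (((MonoidHom.normal_ker ψ).eq_bot_or_eq_top).resolve_right hker)
  have hcard : Nat.card ψ.range = 360 := by
    rw [← Nat.card_congr (MonoidHom.ofInjective hinj).toEquiv, nat_card_alternatingGroup, Nat.card_fin]
    rfl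
  refine h7 ψ.range ?_
  have := ψ.range.card_mul_index
  rw [hcard, h] at this
  omega

end Fixed

theorem iso : Nonempty (G ≃* alternatingGroup (Fin 7)) := by
  by_cases h7 : ∀ H : Subgroup G, H.index ≠ 7
  · exact (no_fixed h h7).elim
  · push Not at h7
    obtain ⟨H, hH⟩ := h7
    exact seven_iso h hH

end CfsgLib.Order2520
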