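/-
Every copy of A7 in GL(4,2) moves pairs of independent vectors transitively.
-/
import Mathlib
import Cfsg.Agent.Lib.SmallOrder
import Cfsg.Agent.Lib.SmallSimple.GL4A8
import Cfsg.Agent.Lib.SmallSimple.EightSubgroups

set_option autoImplicit false
set_option linter.style.haveILetI false
set_option maxRecDepth 8000

namespace CfsgLib.GL4A7

open Equiv Matrix CfsgLib.GL4A8
open MulAction hiding toPerm

abbrev GV := GL (Fin 4) (ZMod 2)

theorem card_A7 : Nat.card (alternatingGroup (Fin 7)) = 2520 := by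
  have := EightSubgroups.card_alt (α := Fin 7) 7 (by simp) (by norm_num)
  rw [show Nat.factorial 7 = 5040 from rfl] at this
  omega

theorem range_toPerm : toPerm.range = alternatingGroup (Fin 8) := by
  obtain ⟨e⟩ := GL4A8.nonempty_mulEquiv
  have hc : Nat.card toPerm.range = 20160 := by
    rw [← Nat.card_congr (MonoidHom.ofInjective toPerm_injective).toEquiv, Nat.card_congr e.toEquiv, EightSubgroups.card_A8]
  have hidx : toPerm.range.index = 2 := by
    have h := toPerm.range.card_mul_index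
    rw [hc, Nat.card_perm, Nat.card_fin, show Nat.factorial 8 = 40320 from rfl] at h
    omega
  exact Equiv.Perm.eq_alternatingGroup_of_index_eq_two hidx

/-- A copy of A7 in GL(4,2) is a point stabilizer of the action on eight letters. -/
theorem exists_point (H : Subgroup GV) (e : Nonempty (H ≃* alternatingGroup (Fin 7))) :
    ∃ k : Fin 8, ∀ g : GV, toPerm g k = k → g ∈ H := by
  obtain ⟨e⟩ := e
  have hH : Nat.card H = 2520 := by rw [Nat.card_congr e.toEquiv, card_A7]
  haveI hsimple : IsSimpleGroup (alternatingGroup (Fin 7)) := alternatingGroup.isSimpleGroup (by simp)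
  haveI : Nontrivial H := Finite.one_lt_card_iff_nontrivial.mp (by rw [hH]; norm_num)
  haveI : IsSimpleGroup H := IsSimpleGroup.isSimpleGroup_of_surjective e.symm.toMonoidHom e.symm.surjective
  set K : Subgroup (Perm (Fin 8)) := H.map toPerm
  have hKc : Nat.card K = 2520 := by rw [Subgroup.card_map_of_injective toPerm_injective, hH]
  haveI : Nontrivial K := Finite.one_lt_card_iff_nontrivial.mp (by rw [hKc]; norm_num)
  haveI : IsSimpleGroup K := IsSimpleGroup.isSimpleGroup_of_surjective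
    (H.equivMapOfInjective toPerm toPerm_injective).toMonoidHom (MulEquiv.surjective _)
  have horb : ∀ a : Fin 8, (∀ g ∈ K, g a = a) ∨ 7 ≤ Nat.card (orbit K a) := by
    intro a
    by_cases hs : stabilizer K a = ⊤
    · left
      intro g hg
      exact (hs ▸ Subgroup.mem_top (⟨g, hg⟩ : K) : (⟨g, hg⟩ : K) ∈ stabilizer K a)
    · right
      have h := SmallOrder.card_dvd_factorial_index hs
      rw [hKc, index_stabilizer] at h
      rw [Nat.card_coe_set_eq]
      by_contra hlt
      have h6 := h.trans (Nat.factorial_dvd_factorial (show (orbit K a).ncard ≤ 6 by omega))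
      norm_num [Nat.factorial] at h6
  obtain ⟨k, hk⟩ : ∃ k : Fin 8, ∀ g ∈ K, g k = k := by
    by_contra hno
    push Not at hno
    have h7 : ∀ a : Fin 8, 7 ≤ Nat.card (orbit K a) := fun a => (horb a).resolve_left (by
      obtain ⟨g, hg, hga⟩ := hno a
      exact fun h => hga (h g hg))
    haveI : IsPretransitive K (Fin 8) := by
      refine ⟨fun a b => ?_⟩
      by_contra hcon
      have hdis : Disjoint (orbit K a) (orbit K b) := by
        rw [Set.disjoint_left]
        intro x hxa hxb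
        have h1 := (orbit_eq_iff.mpr hxa).symm.trans (orbit_eq_iff.mpr hxb)
        exact hcon (h1 ▸ mem_orbit_self b : b ∈ orbit K a)
      have h := Set.ncard_le_ncard (Set.subset_univ (orbit K a ∪ orbit K b))
      rw [Set.ncard_union_eq hdis, Set.ncard_univ, Nat.card_fin] at h
      have ha := h7 a
      have hb := h7 b
      rw [Nat.card_coe_set_eq] at ha hb
      omega
    have := EightSubgroups.dvd_1680 (K := K) (by rw [hKc]; norm_num)
    rw [hKc] at this
    norm_num at this
  refine ⟨k, fun g hg => ?_⟩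
  letI : MulAction GV (Fin 8) := MulAction.compHom (Fin 8) toPerm
  haveI : IsPretransitive GV (Fin 8) := by
    refine ⟨fun a b => ?_⟩
    haveI : IsPretransitive (alternatingGroup (Fin 8)) (Fin 8) :=
      alternatingGroup.isPretransitive_of_three_le_card (Fin 8) (by simp)
    obtain ⟨x, hx⟩ := MulAction.exists_smul_eq (alternatingGroup (Fin 8)) a b
    obtain ⟨u, hu⟩ := range_toPerm.ge x.2
    exact ⟨u, by show toPerm u a = b; rw [hu]; exact hx⟩
  have hle : H ≤ stabilizer GV k := fun x hx => hk (toPerm x) ⟨x, hx, rfl⟩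
  have hcard : Nat.card (stabilizer GV k) = 2520 := by
    have h := (stabilizer GV k).card_mul_index
    obtain ⟨e'⟩ := GL4A8.nonempty_mulEquiv
    rw [index_stabilizer_of_transitive, Nat.card_fin, Nat.card_congr e'.toEquiv, EightSubgroups.card_A8] at h
    omega
  rw [Subgroup.eq_of_le_of_card_ge hle (le_of_eq (hcard.trans hH.symm))]
  exact hg

/-- The transvection fixing the first two basis vectors. -/
def tv (i j : Fin 4) (h : i ≠ j) : GV :=
  ⟨transvection i j 1, transvection i j 1,
    by rw [transvection_mul_transvection_same _ _ h, (by decide : (1 : ZMod 2) + 1 = 0), transvection_zero],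
    by rw [transvection_mul_transvection_same _ _ h, (by decide : (1 : ZMod 2) + 1 = 0), transvection_zero]⟩

theorem toPerm_tv (i j : Fin 4) (h : i ≠ j) (σ : Perm (Fin 8)) (hσ : ((i, j), σ) ∈ gens) : toPerm (tv i j h) = σ :=
  moves_unique (exists_moves (tv i j h)).choose_spec (gens_checked.2 _ hσ)

/-- The pointwise stabilizer of the first two basis vectors. -/
def S : Subgroup GV where
  carrier := {g | (g : M4) *ᵥ Pi.single 0 1 = Pi.single 0 1 ∧ (g : M4) *ᵥ Pi.single 1 1 = Pi.single 1 1}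
  mul_mem' := fun {a b} ha hb => by
    constructor <;> rw [Units.val_mul, ← mulVec_mulVec]
    · rw [hb.1, ha.1]
    · rw [hb.2, ha.2]
  one_mem' := ⟨one_mulVec _, one_mulVec _⟩
  inv_mem' := fun {a} ha => by
    constructor
    · conv_lhs => rw [← ha.1, mulVec_mulVec, ← Units.val_mul, inv_mul_cancel, Units.val_one, one_mulVec]
    · conv_lhs => rw [← ha.2, mulVec_mulVec, ← Units.val_mul, inv_mul_cancel, Units.val_one, one_mulVec]

theorem tv_checked : ∀ i j : Fin 4, j = 2 ∨ j = 3 →
    (transvection i j (1 : ZMod 2) : M4) *ᵥ Pi.single 0 1 = Pi.single 0 1 ∧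
    (transvection i j (1 : ZMod 2) : M4) *ᵥ Pi.single 1 1 = Pi.single 1 1 := by decide +kernel

theorem S_transitive (a b : Fin 8) : ∃ s ∈ S, toPerm s a = b := by
  suffices h : ∀ b : Fin 8, ∃ s ∈ S, toPerm s 0 = b by
    obtain ⟨s, hs, rfl⟩ := h a
    obtain ⟨t, ht, rfl⟩ := h b
    refine ⟨t * s⁻¹, mul_mem ht (inv_mem hs), ?_⟩
    rw [map_mul, map_inv]
    simp
  have A := fun (i j : Fin 4) (h : i ≠ j) (hj : j = 2 ∨ j = 3) => (show tv i j h ∈ S from tv_checked i j hj)
  have A02 := A 0 2 (by decide) (Or.inl rfl)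
  have A03 := A 0 3 (by decide) (Or.inr rfl)
  have A23 := A 2 3 (by decide) (Or.inr rfl)
  have A32 := A 3 2 (by decide) (Or.inl rfl)
  have E02 := toPerm_tv 0 2 (by decide) (gens[1]'(by decide)).2 (List.getElem_mem (show 1 < gens.length by decide))
  have E03 := toPerm_tv 0 3 (by decide) (gens[2]'(by decide)).2 (List.getElem_mem (show 2 < gens.length by decide))
  have E23 := toPerm_tv 2 3 (by decide) (gens[8]'(by decide)).2 (List.getElem_mem (show 8 < gens.length by decide))
  have E32 := toPerm_tv 3 2 (by decide) (gens[11]'(by decide)).2 (List.getElem_mem (show 11 < gens.length by decide))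
  intro b
  fin_cases b
  · exact ⟨1, one_mem _, by simp⟩
  · exact ⟨_, A03, by rw [E03]; rfl⟩
  · exact ⟨_, A02, by rw [E02]; rfl⟩
  · exact ⟨_, mul_mem A02 A03, by rw [map_mul, E02, E03]; rfl⟩
  · exact ⟨_, mul_mem A03 A23, by rw [map_mul, E03, E23]; rfl⟩
  · exact ⟨_, A23, by rw [E23]; rfl⟩
  · exact ⟨_, A32, by rw [E32]; rfl⟩
  · exact ⟨_, mul_mem A32 (mul_mem A02 A03), by rw [map_mul, map_mul, E32, E02, E03]; rfl⟩

theorem extend_checked : ∀ v w : Fin 4 → ZMod 2, v ≠ 0 → w ≠ 0 → v ≠ w →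
    ∃ a b : Fin 4, (Matrix.of fun r c => (![v, w, Pi.single a 1, Pi.single b 1] c) r : M4).det ≠ 0 := by
  decide +kernel

theorem exists_pair (v w : Fin 4 → ZMod 2) (hv : v ≠ 0) (hw : w ≠ 0) (hvw : v ≠ w) :
    ∃ g : GV, (g : M4) *ᵥ Pi.single 0 1 = v ∧ (g : M4) *ᵥ Pi.single 1 1 = w := by
  haveI : Fact (Nat.Prime 2) := ⟨Nat.prime_two⟩
  obtain ⟨a, b, hab⟩ := extend_checked v w hv hw hvw
  refine ⟨GeneralLinearGroup.mkOfDetNeZero _ hab, ?_, ?_⟩ <;>
    · rw [mulVec_single_one]; funext r; rfl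

/-- Transitivity on independent pairs. -/
theorem two_transitive (H : Subgroup GV) (e : Nonempty (H ≃* alternatingGroup (Fin 7)))
    (v w v' w' : Fin 4 → ZMod 2) (hv : v ≠ 0) (hw : w ≠ 0) (hvw : v ≠ w) (hv' : v' ≠ 0) (hw' : w' ≠ 0)
    (hvw' : v' ≠ w') : ∃ g ∈ H, (g : M4) *ᵥ v = v' ∧ (g : M4) *ᵥ w = w' := by
  obtain ⟨k, hk⟩ := exists_point H e
  obtain ⟨g0, hg0⟩ := exists_pair v w hv hw hvw
  obtain ⟨g1, hg1⟩ := exists_pair v' w' hv' hw' hvw'
  obtain ⟨s, hs, hsk⟩ := S_transitive ((toPerm g0)⁻¹ k) ((toPerm g1)⁻¹ k)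
  refine ⟨g1 * s * g0⁻¹, hk _ ?_, ?_, ?_⟩
  · rw [map_mul, map_mul, map_inv, Perm.mul_apply, Perm.mul_apply, hsk]
    exact (toPerm g1).apply_symm_apply k
  · rw [Units.val_mul, Units.val_mul, ← mulVec_mulVec, ← mulVec_mulVec]
    conv_lhs => rw [← hg0.1, mulVec_mulVec (M := ((g0⁻¹ : GV) : M4)), ← Units.val_mul, inv_mul_cancel, Units.val_one, one_mulVec, hs.1, hg1.1]
  · rw [Units.val_mul, Units.val_mul, ← mulVec_mulVec, ← mulVec_mulVec]
    conv_lhs => rw [← hg0.2, mulVec_mulVec (M := ((g0⁻¹ : GV) : M4)), ← Units.val_mul, inv_mul_cancel, Units.val_one, one_mulVec, hs.2, hg1.2]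

/-- GL(4,2) has a subgroup isomorphic to A7. -/
theorem exists_A7 : ∃ H : Subgroup GV, Nonempty (H ≃* alternatingGroup (Fin 7)) := by
  classical
  obtain ⟨e⟩ := GL4A8.nonempty_mulEquiv
  let f : Fin 7 ≃ {x : Fin 8 // x ≠ Fin.last 7} := finSuccAboveEquiv (Fin.last 7)
  let φ : alternatingGroup (Fin 7) →* alternatingGroup (Fin 8) :=
    ((Perm.extendDomainHom f).comp (alternatingGroup (Fin 7)).subtype).codRestrict _ fun x => by
      rw [Perm.mem_alternatingGroup]
      show Perm.sign (Perm.extendDomain (x : Perm (Fin 7)) f) = 1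
      rw [Perm.sign_extendDomain]
      exact Perm.mem_alternatingGroup.mp x.2
  have hφ : Function.Injective φ := fun x y h =>
    Subtype.ext (Perm.extendDomainHom_injective f (congrArg Subtype.val h))
  let ψ := e.symm.toMonoidHom.comp φ
  have hψ : Function.Injective ψ := e.symm.injective.comp hφ
  exact ⟨ψ.range, ⟨(MonoidHom.ofInjective hψ).symm⟩⟩

end CfsgLib.GL4A7
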