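import Mathlib
import Cfsg.Agent.Lib.SmallSimple.Order168

/-! A concrete model of the simple group of order 168 and its subgroups. -/

set_option autoImplicit false
set_option linter.style.haveILetI false
set_option maxRecDepth 20000

namespace CfsgLib.Order168Model

/-- Assemble nine bits. -/
def asm (a b c d e f g h i : Bool) : ℕ :=
  a.toNat + 2 * (b.toNat + 2 * (c.toNat + 2 * (d.toNat + 2 * (e.toNat + 2 * (f.toNat + 2 * (g.toNat + 2 * (h.toNat + 2 * i.toNat)))))))

/-- An entry of a product. -/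
def ent (A B i j : ℕ) : Bool :=
  xor (xor (A.testBit (3 * i) && B.testBit j) (A.testBit (3 * i + 1) && B.testBit (3 + j))) (A.testBit (3 * i + 2) && B.testBit (6 + j))

/-- Product. -/
def mulC (A B : ℕ) : ℕ :=
  asm (ent A B 0 0) (ent A B 0 1) (ent A B 0 2) (ent A B 1 0) (ent A B 1 1) (ent A B 1 2)
    (ent A B 2 0) (ent A B 2 1) (ent A B 2 2)

/-- A two-by-two minor. -/
def minor (A i j k l : ℕ) : Bool := xor (A.testBit i && A.testBit j) (A.testBit k && A.testBit l)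

/-- Determinant. -/
def detC (A : ℕ) : Bool :=
  xor (xor (A.testBit 0 && minor A 4 8 5 7) (A.testBit 1 && minor A 3 8 5 6)) (A.testBit 2 && minor A 3 7 4 6)

/-- Inverse. -/
def invC (A : ℕ) : ℕ :=
  asm (minor A 4 8 5 7) (minor A 2 7 1 8) (minor A 1 5 2 4) (minor A 5 6 3 8) (minor A 0 8 2 6) (minor A 2 3 0 5)
    (minor A 3 7 4 6) (minor A 1 6 0 7) (minor A 0 4 1 3)

theorem asm_lt : ∀ a b c d e f g h i : Bool, asm a b c d e f g h i < 512 := by decide +kernel

theorem testBit_asm : ∀ a b c d e f g h i : Bool,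
    (asm a b c d e f g h i).testBit 0 = a ∧ (asm a b c d e f g h i).testBit 1 = b ∧ (asm a b c d e f g h i).testBit 2 = c ∧
      (asm a b c d e f g h i).testBit 3 = d ∧ (asm a b c d e f g h i).testBit 4 = e ∧ (asm a b c d e f g h i).testBit 5 = f ∧
      (asm a b c d e f g h i).testBit 6 = g ∧ (asm a b c d e f g h i).testBit 7 = h ∧ (asm a b c d e f g h i).testBit 8 = i := by
  decide +kernel

/-- As a matrix. -/
def toMat (A : ℕ) : Matrix (Fin 3) (Fin 3) (ZMod 2) := fun i j => if A.testBit (3 * i + j) then 1 else 0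

/-- Back. -/
def ofMat (M : Matrix (Fin 3) (Fin 3) (ZMod 2)) : ℕ :=
  asm (M 0 0 == 1) (M 0 1 == 1) (M 0 2 == 1) (M 1 0 == 1) (M 1 1 == 1) (M 1 2 == 1) (M 2 0 == 1) (M 2 1 == 1) (M 2 2 == 1)

theorem ofMat_toMat : ∀ A : Fin 512, ofMat (toMat A) = A := by decide +kernel

theorem det_toMat : ∀ A : Fin 512, detC A = true ↔ (toMat A).det = 1 := by decide +kernel

theorem detC_one : detC 273 = true := by decide +kernel

theorem invC_mul : ∀ A : Fin 512, detC A = true → mulC (invC A) A = 273 := by decide +kernel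

theorem detC_invC : ∀ A : Fin 512, detC A = true → detC (invC A) = true := by decide +kernel

theorem xor_cast : ∀ a b c a' b' c' : Bool,
    (if xor (xor (a && a') (b && b')) (c && c') then (1 : ZMod 2) else 0) =
      (if a then 1 else 0) * (if a' then 1 else 0) + (if b then 1 else 0) * (if b' then 1 else 0) +
        (if c then 1 else 0) * (if c' then 1 else 0) := by decide +kernel

theorem asm_entry (e : ℕ → ℕ → Bool) (i j : Fin 3) :
    (asm (e 0 0) (e 0 1) (e 0 2) (e 1 0) (e 1 1) (e 1 2) (e 2 0) (e 2 1) (e 2 2)).testBit (3 * i + j) = e i j := by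
  obtain ⟨h0, h1, h2, h3, h4, h5, h6, h7, h8⟩ :=
    testBit_asm (e 0 0) (e 0 1) (e 0 2) (e 1 0) (e 1 1) (e 1 2) (e 2 0) (e 2 1) (e 2 2)
  fin_cases i <;> fin_cases j <;> simp only [Fin.zero_eta, Fin.mk_one, Fin.reduceFinMk, Fin.val_zero, Fin.val_one, Fin.val_two, mul_zero, mul_one, zero_add, add_zero, Nat.reduceMul, Nat.reduceAdd, *]

theorem toMat_mulC (A B : ℕ) : toMat (mulC A B) = toMat A * toMat B := by
  ext i j
  have he : (mulC A B).testBit (3 * i + j) = ent A B i j := asm_entry (ent A B) i j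
  rw [Matrix.mul_apply, Fin.sum_univ_three]
  show (if (mulC A B).testBit (3 * i + j) then (1 : ZMod 2) else 0) = _
  rw [he, ent, xor_cast]
  simp [toMat]

theorem mulC_lt (A B : ℕ) : mulC A B < 512 := by rw [mulC]; apply asm_lt

theorem invC_lt (A : ℕ) : invC A < 512 := by rw [invC]; apply asm_lt

/-- The group. -/
abbrev T := {A : Fin 512 // detC A = true}

attribute [local irreducible] mulC invC toMat ofMat detC asm

theorem toMat_inj {A B : T} (h : toMat A.1 = toMat B.1) : A = B :=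
  Subtype.ext (Fin.ext (by rw [← ofMat_toMat A.1, h, ofMat_toMat]))

theorem detC_mul {A B : ℕ} (hA : A < 512) (hB : B < 512) (ha : detC A = true) (hb : detC B = true) :
    detC (mulC A B) = true := by
  have h1 := (det_toMat ⟨A, hA⟩).mp ha
  have h2 := (det_toMat ⟨B, hB⟩).mp hb
  refine (det_toMat ⟨mulC A B, mulC_lt _ _⟩).mpr ?_
  show (toMat (mulC A B)).det = 1
  rw [toMat_mulC, Matrix.det_mul, h1, h2, one_mul]

instance : Mul T := ⟨fun A B => ⟨⟨mulC A.1 B.1, mulC_lt _ _⟩, detC_mul A.1.2 B.1.2 A.2 B.2⟩⟩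
instance : One T := ⟨⟨⟨273, by decide⟩, detC_one⟩⟩
instance : Inv T := ⟨fun A => ⟨⟨invC A.1, invC_lt _⟩, detC_invC A.1 A.2⟩⟩

theorem toMat_one : toMat 273 = 1 := by decide +kernel

instance : Group T := Group.ofLeftAxioms
  (fun A B C => toMat_inj (by
    show toMat (mulC (mulC A.1 B.1) C.1) = toMat (mulC A.1 (mulC B.1 C.1))
    rw [toMat_mulC, toMat_mulC, toMat_mulC, toMat_mulC, Matrix.mul_assoc]))
  (fun A => toMat_inj (by
    show toMat (mulC 273 A.1) = toMat A.1
    rw [toMat_mulC, toMat_one, Matrix.one_mul]))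
  (fun A => Subtype.ext (Fin.ext (invC_mul A.1 A.2)))

theorem card_T : Nat.card T = 168 := by
  rw [Nat.card_eq_fintype_card]
  decide +kernel

theorem isSimpleGroup : IsSimpleGroup T := by
  haveI := Order168.gl32.1
  let f : T →* GL (Fin 3) (ZMod 2) :=
    MonoidHom.toHomUnits { toFun := fun A => toMat A.1, map_one' := toMat_one, map_mul' := fun A B => toMat_mulC _ _ }
  have hf : Function.Injective f := fun A B h => toMat_inj (congrArg Units.val h)
  exact (MulEquiv.ofBijective f (hf.bijective_of_nat_card_le (by rw [card_T, Order168.gl32.2]))).isSimpleGroup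

/-- Every simple group of order 168 is the model. -/
theorem exists_equiv {G : Type*} [Group G] [Finite G] [IsSimpleGroup G] (h : Nat.card G = 168) : Nonempty (G ≃* T) :=
  haveI := isSimpleGroup
  Order168.nonempty_mulEquiv h card_T

/-- An element by its code. -/
def mkT (n : ℕ) : T := if h : n < 512 ∧ detC n = true then ⟨⟨n, h.1⟩, h.2⟩ else 1

/-- The image of a vector. -/
def colv (A v : ℕ) : ℕ :=
  (xor (xor (A.testBit 0 && v.testBit 0) (A.testBit 1 && v.testBit 1)) (A.testBit 2 && v.testBit 2)).toNat +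
    2 * (xor (xor (A.testBit 3 && v.testBit 0) (A.testBit 4 && v.testBit 1)) (A.testBit 5 && v.testBit 2)).toNat +
    4 * (xor (xor (A.testBit 6 && v.testBit 0) (A.testBit 7 && v.testBit 1)) (A.testBit 8 && v.testBit 2)).toNat

/-- The image of a linear form. -/
def rowv (A v : ℕ) : ℕ :=
  (xor (xor (A.testBit 0 && v.testBit 0) (A.testBit 3 && v.testBit 1)) (A.testBit 6 && v.testBit 2)).toNat +
    2 * (xor (xor (A.testBit 1 && v.testBit 0) (A.testBit 4 && v.testBit 1)) (A.testBit 7 && v.testBit 2)).toNat +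
    4 * (xor (xor (A.testBit 2 && v.testBit 0) (A.testBit 5 && v.testBit 1)) (A.testBit 8 && v.testBit 2)).toNat

/-- A subgroup from a decidable property. -/
def ofPred (p : T → Bool) (h1 : p 1 = true) (hm : ∀ a, p a = true → ∀ b, p b = true → p (a * b) = true) : Subgroup T where
  carrier := {g | p g = true}
  one_mem' := h1
  mul_mem' := fun {a b} ha hb => hm a ha b hb
  inv_mem' := fun {a} ha => by
    have h : ∀ k : ℕ, p (a ^ k) = true := fun k => by
      induction k with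
      | zero => rw [pow_zero]; exact h1
      | succ k ih => rw [pow_succ]; exact hm _ ih _ ha
    obtain ⟨k, hk⟩ := ((isOfFinOrder_of_finite a).mem_powers_iff_mem_zpowers).mpr (inv_mem (Subgroup.mem_zpowers a))
    show p a⁻¹ = true
    rw [← hk]
    exact h k

attribute [local irreducible] colv rowv

/-- Upper unitriangular elements. -/
def pT (g : T) : Bool := g.1.1 &&& 200 == 0
/-- First four-group. -/
def p1 (g : T) : Bool := g.1.1 ||| 6 == 279
/-- Second four-group. -/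
def p2 (g : T) : Bool := g.1.1 ||| 36 == 309
/-- Stabiliser of a point. -/
def pA (g : T) : Bool := colv g.1.1 1 == 1
/-- Stabiliser of a line. -/
def pB (g : T) : Bool := rowv g.1.1 4 == 4

theorem colv_mul : ∀ g : T, pA g = true → ∀ k : T, pA k = true → pA (g * k) = true := by decide +kernel
theorem rowv_mul : ∀ g : T, pB g = true → ∀ k : T, pB k = true → pB (g * k) = true := by decide +kernel
theorem pT_mul : ∀ g : T, pT g = true → ∀ k : T, pT k = true → pT (g * k) = true := by decide +kernel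
theorem p1_mul : ∀ g : T, p1 g = true → ∀ k : T, p1 k = true → p1 (g * k) = true := by decide +kernel
theorem p2_mul : ∀ g : T, p2 g = true → ∀ k : T, p2 k = true → p2 (g * k) = true := by decide +kernel

/-- A Sylow 2-subgroup. -/
def T0 : Subgroup T := ofPred pT (by decide +kernel) pT_mul
/-- First four-group. -/
def V1 : Subgroup T := ofPred p1 (by decide +kernel) p1_mul
/-- Second four-group. -/
def V2 : Subgroup T := ofPred p2 (by decide +kernel) p2_mul
/-- Point stabiliser. -/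
def SA : Subgroup T := ofPred pA (by decide +kernel) colv_mul
/-- Line stabiliser. -/
def SB : Subgroup T := ofPred pB (by decide +kernel) rowv_mul

instance : DecidablePred (· ∈ T0) := fun g => inferInstanceAs (Decidable (pT g = true))
instance : DecidablePred (· ∈ V1) := fun g => inferInstanceAs (Decidable (p1 g = true))
instance : DecidablePred (· ∈ V2) := fun g => inferInstanceAs (Decidable (p2 g = true))
instance : DecidablePred (· ∈ SA) := fun g => inferInstanceAs (Decidable (pA g = true))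
instance : DecidablePred (· ∈ SB) := fun g => inferInstanceAs (Decidable (pB g = true))

theorem card_subgroups : Nat.card T0 = 8 ∧ Nat.card V1 = 4 ∧ Nat.card V2 = 4 ∧ Nat.card SA = 24 ∧ Nat.card SB = 24 := by
  simp only [Nat.card_eq_fintype_card]
  decide +kernel

/-- The images of a permutation. -/
def code4 (σ : Equiv.Perm (Fin 4)) : List ℕ := List.ofFn fun i => (σ i : ℕ)

/-- The stabiliser of a point as permutations. -/
def tabA : List (List ℕ × ℕ) :=
  [([0, 1, 2, 3], 273), ([0, 1, 3, 2], 401), ([0, 2, 1, 3], 161), ([0, 2, 3, 1], 177),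
   ([0, 3, 1, 2], 417), ([0, 3, 2, 1], 305), ([1, 0, 2, 3], 403), ([1, 0, 3, 2], 275),
   ([1, 2, 0, 3], 421), ([1, 2, 3, 0], 311), ([1, 3, 0, 2], 165), ([1, 3, 2, 0], 183),
   ([2, 0, 1, 3], 179), ([2, 0, 3, 1], 163), ([2, 1, 0, 3], 309), ([2, 1, 3, 0], 423),
   ([2, 3, 0, 1], 277), ([2, 3, 1, 0], 407), ([3, 0, 1, 2], 307), ([3, 0, 2, 1], 419),
   ([3, 1, 0, 2], 181), ([3, 1, 2, 0], 167), ([3, 2, 0, 1], 405), ([3, 2, 1, 0], 279)]

/-- The stabiliser of a line as permutations. -/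
def tabB : List (List ℕ × ℕ) :=
  [([0, 1, 2, 3], 273), ([0, 1, 3, 2], 281), ([0, 2, 1, 3], 266), ([0, 2, 3, 1], 267),
   ([0, 3, 1, 2], 282), ([0, 3, 2, 1], 275), ([1, 0, 2, 3], 313), ([1, 0, 3, 2], 305),
   ([1, 2, 0, 3], 314), ([1, 2, 3, 0], 307), ([1, 3, 0, 2], 298), ([1, 3, 2, 0], 299),
   ([2, 0, 1, 3], 271), ([2, 0, 3, 1], 270), ([2, 1, 0, 3], 279), ([2, 1, 3, 0], 286),
   ([2, 3, 0, 1], 277), ([2, 3, 1, 0], 285), ([3, 0, 1, 2], 311), ([3, 0, 2, 1], 318),
   ([3, 1, 0, 2], 303), ([3, 1, 2, 0], 302), ([3, 2, 0, 1], 317), ([3, 2, 1, 0], 309)]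

/-- Permutations as point stabiliser. -/
def permA (σ : Equiv.Perm (Fin 4)) : T := mkT ((tabA.lookup (code4 σ)).getD 273)
/-- Permutations as line stabiliser. -/
def permB (σ : Equiv.Perm (Fin 4)) : T := mkT ((tabB.lookup (code4 σ)).getD 273)

theorem permA_mul : ∀ σ τ, permA (σ * τ) = permA σ * permA τ := by decide +kernel
theorem permB_mul : ∀ σ τ, permB (σ * τ) = permB σ * permB τ := by decide +kernel
theorem permA_ok : ∀ σ, permA σ ∈ SA ∧ (permA σ = 1 → σ = 1) := by decide +kernel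
theorem permB_ok : ∀ σ, permB σ ∈ SB ∧ (permB σ = 1 → σ = 1) := by decide +kernel

theorem equiv_of_table {S : Subgroup T} (f : Equiv.Perm (Fin 4) → T) (hm : ∀ σ τ, f (σ * τ) = f σ * f τ)
    (hok : ∀ σ, f σ ∈ S ∧ (f σ = 1 → σ = 1)) (hS : Nat.card S = 24) : Nonempty (S ≃* Equiv.Perm (Fin 4)) := by
  let φ : Equiv.Perm (Fin 4) →* S := (MonoidHom.mk' f hm).codRestrict S fun σ => (hok σ).1
  have hφ : Function.Injective φ := (injective_iff_map_eq_one φ).mpr fun σ h => (hok σ).2 (congrArg Subtype.val h)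
  exact ⟨(MulEquiv.ofBijective φ (hφ.bijective_of_nat_card_le (by rw [hS, Nat.card_perm, Nat.card_fin]; decide))).symm⟩

theorem SA_equiv : Nonempty (SA ≃* Equiv.Perm (Fin 4)) := equiv_of_table permA permA_mul permA_ok card_subgroups.2.2.2.1
theorem SB_equiv : Nonempty (SB ≃* Equiv.Perm (Fin 4)) := equiv_of_table permB permB_mul permB_ok card_subgroups.2.2.2.2

/-- Dihedral elements in the Sylow subgroup. -/
def dih : DihedralGroup 4 → T
  | .r i => mkT 307 ^ i.val
  | .sr i => mkT 275 * mkT 307 ^ i.val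

theorem dih_mul : ∀ a b, dih (a * b) = dih a * dih b := by decide +kernel
theorem dih_ok : ∀ a, dih a ∈ T0 ∧ (dih a = 1 → a = 1) := by decide +kernel

theorem T0_equiv : Nonempty (T0 ≃* DihedralGroup 4) := by
  let φ : DihedralGroup 4 →* T0 := (MonoidHom.mk' dih dih_mul).codRestrict T0 fun a => (dih_ok a).1
  have hφ : Function.Injective φ := (injective_iff_map_eq_one φ).mpr fun a h => (dih_ok a).2 (congrArg Subtype.val h)
  exact ⟨(MulEquiv.ofBijective φ (hφ.bijective_of_nat_card_le (by rw [card_subgroups.1, DihedralGroup.nat_card]))).symm⟩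

/-! ### Computations -/

theorem pow_cases : ∀ g : T, g ^ 2 = 1 ∨ g ^ 3 = 1 ∨ g ^ 4 = 1 ∨ g ^ 7 = 1 := by decide +kernel
theorem conj_two : ∀ g : T, g ^ 2 = 1 → g ≠ 1 → ∃ c : T, c * g * c⁻¹ = mkT 275 := by decide +kernel
theorem conj_three : ∀ g : T, g ^ 3 = 1 → g ≠ 1 → ∃ c : T, c * g * c⁻¹ = mkT 282 := by decide +kernel
theorem conj_four : ∀ g : T, g ^ 4 = 1 → g ^ 2 ≠ 1 → ∃ c : T, c * g * c⁻¹ = mkT 307 := by decide +kernel
theorem conj_seven : ∀ g : T, g ^ 7 = 1 → g ≠ 1 → ∃ c : T, c * g * c⁻¹ = mkT 94 ∨ c * g * c⁻¹ = (mkT 94)⁻¹ := by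
  decide +kernel
theorem seven_real : ∀ c : T, c * mkT 94 * c⁻¹ ≠ (mkT 94)⁻¹ := by decide +kernel
theorem seven_cent : Fintype.card {c : T // c * mkT 94 = mkT 94 * c} = 7 ∧
    Fintype.card {c : T // c * (mkT 94)⁻¹ = (mkT 94)⁻¹ * c} = 7 := by decide +kernel
theorem counts : Fintype.card {g : T // g ^ 2 = 1 ∧ g ≠ 1} = 21 ∧ Fintype.card {g : T // g ^ 3 = 1 ∧ g ≠ 1} = 56 ∧
    Fintype.card {g : T // g ^ 4 = 1 ∧ g ^ 2 ≠ 1} = 42 ∧ Fintype.card {g : T // g ^ 7 = 1 ∧ g ≠ 1} = 48 := by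
  decide +kernel
theorem orders : (mkT 282) ^ 3 = 1 ∧ mkT 282 ≠ 1 ∧ (mkT 94) ^ 7 = 1 ∧ mkT 94 ≠ 1 := by decide +kernel
theorem normalizer_T0 : ∀ g : T, (∀ t : T, t ∈ T0 → g * t * g⁻¹ ∈ T0) → g ∈ T0 := by decide +kernel
theorem center_T0 : ∀ z : T, z ∈ T0 → z ≠ 1 → (∀ t : T, t ∈ T0 → t * z = z * t) → ∀ g : T, g * z = z * g ↔ g ∈ T0 := by
  decide +kernel
theorem klein_T0 : ∀ x : T, x ∈ T0 → ∀ y : T, y ∈ T0 → x ≠ 1 → y ≠ 1 → x ≠ y → x * x = 1 → y * y = 1 → x * y = y * x →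
    (x ∈ V1 ∧ y ∈ V1) ∨ (x ∈ V2 ∧ y ∈ V2) := by decide +kernel
theorem V_sq : (∀ g : T, g ∈ V1 → g * g = 1 ∧ g ∈ T0) ∧ ∀ g : T, g ∈ V2 → g * g = 1 ∧ g ∈ T0 := by decide +kernel
theorem V_not_conj : (∀ g : T, ∃ v : T, v ∈ V1 ∧ g * v * g⁻¹ ∉ V2) ∧ ∀ g : T, ∃ v : T, v ∈ V2 ∧ g * v * g⁻¹ ∉ V1 := by
  decide +kernel
theorem normalizer_V : (∀ g : T, (∀ v : T, v ∈ V1 → g * v * g⁻¹ ∈ V1) ↔ g ∈ SA) ∧
    ∀ g : T, (∀ v : T, v ∈ V2 → g * v * g⁻¹ ∈ V2) ↔ g ∈ SB := by decide +kernel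
theorem T0_le_SA : ∀ g : T, g ∈ T0 → g ∈ SA := by decide +kernel
theorem SA_not_conj_SB : ∀ g : T, ∃ a : T, a ∈ SA ∧ g * a * g⁻¹ ∉ SB := by decide +kernel
theorem colv_four : ∀ g : T, colv g.1.1 4 = 4 ↔ mkT 84 * g * (mkT 84)⁻¹ ∈ SA := by decide +kernel
theorem three_words : ∀ a : T, colv a.1.1 4 ≠ 4 → rowv a.1.1 4 ≠ 4 →
    (mkT 282 * a * (mkT 282)⁻¹ * a * a) ^ 7 = 1 ∧ mkT 282 * a * (mkT 282)⁻¹ * a * a ≠ 1 ∨
    (mkT 282 * a * mkT 282 * a⁻¹) ^ 7 = 1 ∧ mkT 282 * a * mkT 282 * a⁻¹ ≠ 1 := by decide +kernel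

end CfsgLib.Order168Model
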