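/-
The orthogonal group of plus type in dimension six over two elements is the symmetric group of degree eight.
-/
import Mathlib
import Cfsg.Prelude.Def_Classical
import Cfsg.Agent.Lib.ExceptionalIso
import Cfsg.Agent.Lib.OrthOrderBase

set_option autoImplicit false
set_option linter.style.haveILetI false
set_option maxRecDepth 8000

namespace CfsgLib.O6PlusS8

open Equiv

/-- Six coordinates. -/
abbrev V6 := Fin 3 ⊕ Fin 3 → ZMod 2

/-- Eight coordinates. -/
abbrev V8 := Fin 8 → ZMod 2

/-- Singular basis vectors. -/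
def eb : Fin 3 → V8 := ![![1, 1, 1, 1, 0, 0, 0, 0], ![1, 0, 0, 1, 1, 1, 0, 0], ![0, 0, 1, 1, 1, 0, 1, 0]]

/-- Their partners. -/
def fb : Fin 3 → V8 := ![![1, 1, 1, 0, 1, 0, 0, 0], ![0, 1, 0, 1, 1, 1, 0, 0], ![1, 1, 0, 0, 0, 1, 1, 0]]

/-- An even representative. -/
def emb : V6 →ₗ[ZMod 2] V8 where
  toFun v := fun k => ∑ i, (v (.inl i) * eb i k + v (.inr i) * fb i k)
  map_add' u v := funext fun k => by simp [add_mul, Finset.sum_add_distrib]; abel
  map_smul' c v := funext fun k => by simp [Finset.mul_sum, mul_add, mul_assoc]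

/-- Coordinates of an even vector modulo the all-one vector. -/
def pr : V8 →ₗ[ZMod 2] V6 where
  toFun w := Sum.elim (fun i => ∑ k, w k * fb i k) (fun i => ∑ k, w k * eb i k)
  map_add' u v := funext fun s => by cases s <;> simp [add_mul, Finset.sum_add_distrib]
  map_smul' c v := funext fun s => by cases s <;> simp [Finset.mul_sum, mul_assoc]

/-- Permutation of coordinates. -/
def permL (g : Perm (Fin 8)) : V8 →ₗ[ZMod 2] V8 where
  toFun w := fun k => w (g.symm k)
  map_add' _ _ := rfl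
  map_smul' _ _ := rfl

/-- Weight. -/
def wt (w : V8) : ℕ := (Finset.univ.filter fun k => w k ≠ 0).card

/-- Parity. -/
def Even' (w : V8) : Prop := ∑ k, w k = 0

instance (w : V8) : Decidable (Even' w) := by unfold Even'; infer_instance

theorem emb_even : ∀ v : V6, Even' (emb v) := by decide +kernel
theorem pr_emb : ∀ v : V6, pr (emb v) = v := by decide +kernel
theorem emb_pr : ∀ w : V8, Even' w → emb (pr w) = w ∨ emb (pr w) = w + (fun _ => 1) := by decide +kernel
theorem pr_one : pr (fun _ => 1) = 0 := by decide +kernel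
theorem form_pr : ∀ w : V8, Even' w → Cfsg.quadFormPlus 3 (ZMod 2) (pr w) = ((wt w / 2 : ℕ) : ZMod 2) := by
  decide +kernel
theorem pair_unique : ∀ i j k l : Fin 8, i ≠ j → k ≠ l →
    pr (Pi.single k 1 + Pi.single l 1) = pr (Pi.single i 1 + Pi.single j 1) → k = i ∨ k = j := by decide +kernel
theorem one_add_one : (1 : ZMod 2) + 1 = 0 := by decide
theorem two_others : ∀ i : Fin 8, ∃ a b : Fin 8, a ≠ b ∧ i ≠ a ∧ i ≠ b := by decide +kernel

theorem even_perm {g : Perm (Fin 8)} {w : V8} (h : Even' w) : Even' (permL g w) := by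
  unfold Even' at h ⊢
  rw [← h]
  exact Equiv.sum_comp g.symm w

theorem wt_perm (g : Perm (Fin 8)) (w : V8) : wt (permL g w) = wt w := by
  refine Finset.card_equiv g.symm fun k => ?_
  show k ∈ (Finset.univ.filter fun k => w (g.symm k) ≠ 0) ↔ g.symm k ∈ Finset.univ.filter fun k => w k ≠ 0
  simp

/-- The action. -/
def T (g : Perm (Fin 8)) : V6 →ₗ[ZMod 2] V6 := pr ∘ₗ permL g ∘ₗ emb

theorem pr_perm_emb_pr (g : Perm (Fin 8)) {w : V8} (h : Even' w) :
    pr (permL g (emb (pr w))) = pr (permL g w) := by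
  rcases emb_pr w h with e | e <;> rw [e]
  rw [map_add, map_add, show permL g (fun _ => 1) = (fun _ => 1) from rfl, pr_one, add_zero]

theorem T_one : T 1 = LinearMap.id := LinearMap.ext fun v => pr_emb v

theorem T_mul (g h : Perm (Fin 8)) : T (g * h) = T g ∘ₗ T h := LinearMap.ext fun v =>
  (pr_perm_emb_pr g (even_perm (emb_even v))).symm

theorem form_T (g : Perm (Fin 8)) (v : V6) :
    Cfsg.quadFormPlus 3 (ZMod 2) (T g v) = Cfsg.quadFormPlus 3 (ZMod 2) v := by
  show Cfsg.quadFormPlus 3 (ZMod 2) (pr (permL g (emb v))) = _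
  rw [form_pr _ (even_perm (emb_even v)), wt_perm, ← form_pr _ (emb_even v), pr_emb]

/-- The representation. -/
noncomputable def hom : Perm (Fin 8) →* Cfsg.isometryGroup (ZMod 2) (Cfsg.quadFormPlus 3 (ZMod 2)) :=
  haveI : Fact (Nat.Prime 2) := ⟨Nat.prime_two⟩
  CfsgLib.ExceptionalIso.homOfAct _ T T_one T_mul form_T

theorem single_perm (g : Perm (Fin 8)) (i : Fin 8) :
    permL g (Pi.single i (1 : ZMod 2)) = Pi.single (g i) 1 := by
  funext k
  simp [permL, Pi.single_apply, Equiv.symm_apply_eq]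

theorem hom_injective : Function.Injective hom := by
  haveI : Fact (Nat.Prime 2) := ⟨Nat.prime_two⟩
  rw [injective_iff_map_eq_one]
  intro g hg
  have hT : T g = LinearMap.id := (CfsgLib.ExceptionalIso.homOfAct_eq_one _ _ _ _ _ g).mp hg
  have key : ∀ i j, i ≠ j → g i = i ∨ g i = j := by
    intro i j hij
    refine pair_unique i j (g i) (g j) hij (g.injective.ne hij) ?_
    rw [← single_perm, ← single_perm, ← map_add]
    have he : Even' (Pi.single i (1 : ZMod 2) + Pi.single j 1) := by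
      unfold Even'
      rw [Finset.sum_congr rfl fun k _ => Pi.add_apply _ _ k, Finset.sum_add_distrib, Finset.sum_pi_single',
        Finset.sum_pi_single', if_pos (Finset.mem_univ _), if_pos (Finset.mem_univ _)]
      exact one_add_one
    rw [← pr_perm_emb_pr g he]
    exact LinearMap.congr_fun hT _
  refine Equiv.ext fun i => ?_
  obtain ⟨a, b, hab, ha, hb⟩ := two_others i
  rcases key i a ha with h | h
  · exact h
  rcases key i b hb with h' | h'
  · exact h'
  exact absurd (h.symm.trans h') hab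

theorem hom_bijective : Function.Bijective hom := by
  haveI : Fact (Nat.Prime 2) := ⟨Nat.prime_two⟩
  refine hom_injective.bijective_of_nat_card_le ?_
  rw [CfsgLib.OrthOrder.card_O_plus 3 (by norm_num), Nat.card_perm, Nat.card_eq_fintype_card (α := Fin 8),
    ZMod.card, Fintype.card_fin]
  decide

/-- The isomorphism over the prime field. -/
theorem nonempty_mulEquiv : Nonempty (Perm (Fin 8) ≃* Cfsg.isometryGroup (ZMod 2) (Cfsg.quadFormPlus 3 (ZMod 2))) :=
  ⟨MulEquiv.ofBijective hom hom_bijective⟩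

/-- Transport of isometry groups of the plus form along a ring isomorphism. -/
theorem isometry_congr {F K : Type*} [Field F] [Field K] (r : K ≃+* F) (m : ℕ) :
    Nonempty (Cfsg.isometryGroup K (Cfsg.quadFormPlus m K) ≃* Cfsg.isometryGroup F (Cfsg.quadFormPlus m F)) := by
  let Φ : GL (Fin m ⊕ Fin m) K ≃* GL (Fin m ⊕ Fin m) F := Units.mapEquiv r.mapMatrix.toMulEquiv
  have hQ : ∀ v : Fin m ⊕ Fin m → K, Cfsg.quadFormPlus m F (r ∘ v) = r (Cfsg.quadFormPlus m K v) := fun v => by
    simp [Cfsg.quadFormPlus]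
  have hmv : ∀ (g : GL (Fin m ⊕ Fin m) K) (v : Fin m ⊕ Fin m → K),
      ((Φ g : GL (Fin m ⊕ Fin m) F) : Matrix (Fin m ⊕ Fin m) (Fin m ⊕ Fin m) F).mulVec (r ∘ v) =
        r ∘ ((g : Matrix (Fin m ⊕ Fin m) (Fin m ⊕ Fin m) K).mulVec v) := fun g v => funext fun i =>
    (RingHom.map_mulVec r.toRingHom g.1 v i).symm
  refine ⟨(Φ.subgroupMap _).trans (MulEquiv.subgroupCongr ?_)⟩
  ext g
  obtain ⟨g, rfl⟩ := Φ.surjective g
  refine (Subgroup.mem_map_iff_mem (f := Φ.toMonoidHom) Φ.injective).trans ?_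
  constructor
  · intro h u v
    obtain ⟨u, rfl⟩ : ∃ u', r ∘ u' = u := ⟨r.symm ∘ u, funext fun i => r.apply_symm_apply _⟩
    exact (congrArg (Cfsg.quadFormPlus m F) (hmv g u)).trans ((hQ _).trans ((congrArg r (h u u)).trans (hQ u).symm))
  · intro h u v
    exact r.injective ((hQ _).symm.trans ((congrArg (Cfsg.quadFormPlus m F) (hmv g u)).symm.trans
      ((h (r ∘ u) (r ∘ u)).trans (hQ u))))

end CfsgLib.O6PlusS8
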