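/-
Multipliers pass along isomorphisms.
-/
import Mathlib
import Cfsg.Prelude.Def_KGroupFacts

set_option autoImplicit false

namespace CfsgLib.MultiplierTransport

universe u

theorem of_mulEquiv {G H : Type u} [Group G] [Group H] (e : G ≃* H) {n : ℕ}
    (h : Cfsg.HasCyclicSchurMultiplier G n) : Cfsg.HasCyclicSchurMultiplier H n := by
  have hk : ∀ (Γ : Type u) [Group Γ] (σ : Γ →* G), (e.toMonoidHom.comp σ).ker = σ.ker := fun Γ _ σ => by
    ext x
    simp only [MonoidHom.mem_ker, MonoidHom.coe_comp, Function.comp_apply, MulEquiv.coe_toMonoidHom]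
    exact e.map_eq_one_iff
  obtain ⟨⟨Γ, i1, i2, σ, ⟨hs, hz, hc⟩, ⟨j⟩⟩, hup⟩ := h
  refine ⟨⟨Γ, i1, i2, e.toMonoidHom.comp σ, ⟨e.surjective.comp hs, (hk Γ σ).le.trans hz, (hk Γ σ).le.trans hc⟩,
    ⟨(MulEquiv.subgroupCongr (hk Γ σ)).trans j⟩⟩, fun Δ _ _ τ hτ => ?_⟩
  obtain ⟨hs', hz', hc'⟩ := hτ
  have hk' : (e.symm.toMonoidHom.comp τ).ker = τ.ker := by
    ext x
    simp only [MonoidHom.mem_ker, MonoidHom.coe_comp, Function.comp_apply, MulEquiv.coe_toMonoidHom]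
    exact e.symm.map_eq_one_iff
  obtain ⟨π, hπ⟩ := hup Δ (e.symm.toMonoidHom.comp τ)
    ⟨e.symm.surjective.comp hs', hk'.le.trans hz', hk'.le.trans hc'⟩
  refine ⟨(MulEquiv.subgroupCongr hk').toMonoidHom.comp π, ?_⟩
  exact (MulEquiv.subgroupCongr hk').surjective.comp hπ

end CfsgLib.MultiplierTransport
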