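import Mathlib
import Cfsg.Agent.Lib.SmallSimple.Order168Model
import Cfsg.Agent.Lib.SmallOrder
import Cfsg.Agent.Lib.TwoByTwo

/-! Properties of the simple group of order 168, from the model. -/

set_option autoImplicit false
set_option linter.style.haveILetI false
set_option maxRecDepth 20000

namespace CfsgLib.Order168Model

attribute [local irreducible] mulC invC detC mkT colv rowv asm toMat

theorem orderOf_two_iff (g : T) : orderOf g = 2 ↔ g ^ 2 = 1 ∧ g ≠ 1 :=
  haveI : Fact (Nat.Prime 2) := ⟨Nat.prime_two⟩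
  orderOf_eq_prime_iff

theorem orderOf_three_iff (g : T) : orderOf g = 3 ↔ g ^ 3 = 1 ∧ g ≠ 1 :=
  haveI : Fact (Nat.Prime 3) := ⟨by norm_num⟩
  orderOf_eq_prime_iff

theorem orderOf_seven_iff (g : T) : orderOf g = 7 ↔ g ^ 7 = 1 ∧ g ≠ 1 :=
  haveI : Fact (Nat.Prime 7) := ⟨by norm_num⟩
  orderOf_eq_prime_iff

theorem orderOf_four_iff (g : T) : orderOf g = 4 ↔ g ^ 4 = 1 ∧ g ^ 2 ≠ 1 := by
  haveI : Fact (Nat.Prime 2) := ⟨Nat.prime_two⟩
  constructor
  · intro h
    exact ⟨orderOf_dvd_iff_pow_eq_one.mp (by rw [h]),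
      pow_ne_one_of_lt_orderOf two_ne_zero (by omega)⟩
  · intro h
    exact orderOf_eq_prime_pow (p := 2) (n := 1) h.2 h.1

theorem orderOf_cases (g : T) : orderOf g = 1 ∨ orderOf g = 2 ∨ orderOf g = 3 ∨ orderOf g = 4 ∨ orderOf g = 7 := by
  by_cases h1 : g = 1
  · exact Or.inl (by rw [h1, orderOf_one])
  rcases pow_cases g with h | h | h | h
  · exact Or.inr (Or.inl ((orderOf_two_iff g).mpr ⟨h, h1⟩))
  · exact Or.inr (Or.inr (Or.inl ((orderOf_three_iff g).mpr ⟨h, h1⟩)))
  · by_cases h2 : g ^ 2 = 1
    · exact Or.inr (Or.inl ((orderOf_two_iff g).mpr ⟨h2, h1⟩))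
    · exact Or.inr (Or.inr (Or.inr (Or.inl ((orderOf_four_iff g).mpr ⟨h, h2⟩))))
  · exact Or.inr (Or.inr (Or.inr (Or.inr ((orderOf_seven_iff g).mpr ⟨h, h1⟩))))

theorem normalizer_three : Fintype.card {g : T // g * mkT 282 * g⁻¹ = mkT 282 ∨ g * mkT 282 * g⁻¹ = mkT 282 ^ 2} = 6 := by
  decide +kernel

theorem normalizer_seven : Fintype.card {g : T // ∃ k : Fin 7, g * mkT 94 * g⁻¹ = mkT 94 ^ k.val} = 21 := by
  decide +kernel

/-- Membership criterion for a normalizer. -/
theorem normalizer_eq {G : Type*} [Group G] [Finite G] (S K : Subgroup G)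
    (h : ∀ g, (∀ v, v ∈ S → g * v * g⁻¹ ∈ S) ↔ g ∈ K) : Subgroup.normalizer (S : Set G) = K := by
  ext g
  constructor
  · intro hg
    exact (h g).mp fun v hv => (Subgroup.mem_normalizer_iff.mp hg v).mp hv
  · intro hg
    rw [Subgroup.mem_normalizer_iff_map_conj_eq]
    refine Subgroup.eq_of_le_of_card_ge ?_ (by rw [Subgroup.card_map_of_injective (MulAut.conj _).injective])
    rintro _ ⟨v, hv, rfl⟩
    exact (h g).mpr hg v hv

theorem mem_normalizer_zpowers {G : Type*} [Group G] [Finite G] (x g : G) :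
    g ∈ Subgroup.normalizer (Subgroup.zpowers x : Set G) ↔ g * x * g⁻¹ ∈ Subgroup.zpowers x := by
  constructor
  · intro hg
    exact (Subgroup.mem_normalizer_iff.mp hg x).mp (Subgroup.mem_zpowers x)
  · intro hg
    rw [Subgroup.mem_normalizer_iff_map_conj_eq]
    refine Subgroup.eq_of_le_of_card_ge ?_ (by rw [Subgroup.card_map_of_injective (MulAut.conj g).injective])
    rw [MonoidHom.map_zpowers, Subgroup.zpowers_le]
    exact hg

theorem normalizer_T0_eq : Subgroup.normalizer (T0 : Set T) = T0 :=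
  le_antisymm (fun g hg => normalizer_T0 g fun t ht => (Subgroup.mem_normalizer_iff.mp hg t).mp ht)
    Subgroup.le_normalizer

theorem normalizer_V1_eq : Subgroup.normalizer (V1 : Set T) = SA := normalizer_eq V1 SA normalizer_V.1

theorem normalizer_V2_eq : Subgroup.normalizer (V2 : Set T) = SB := normalizer_eq V2 SB normalizer_V.2

/-- The Sylow subgroup. -/
noncomputable def T0syl : Sylow 2 T :=
  haveI : Fact (Nat.Prime 2) := ⟨Nat.prime_two⟩
  Sylow.ofCard T0 (by rw [card_subgroups.1, card_T]; decide +kernel)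

theorem exists_equiv_sylow {G : Type*} [Group G] [Finite G] [IsSimpleGroup G] (h : Nat.card G = 168)
    (P : Sylow 2 G) : ∃ φ : G ≃* T, (P : Subgroup G).map φ.toMonoidHom = T0 := by
  haveI : Fact (Nat.Prime 2) := ⟨Nat.prime_two⟩
  obtain ⟨e⟩ := exists_equiv h
  let Q : Sylow 2 T := Sylow.ofCard ((P : Subgroup G).map e.toMonoidHom) (by
    rw [Subgroup.card_map_of_injective e.injective, card_T, ← h]
    exact P.card_eq_multiplicity)
  obtain ⟨g, hg⟩ := MulAction.exists_smul_eq T Q T0syl
  refine ⟨e.trans (MulAut.conj g), ?_⟩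
  show (P : Subgroup G).map ((MulAut.conj g).toMonoidHom.comp e.toMonoidHom) = T0
  rw [← Subgroup.map_map]
  exact congrArg (fun R : Sylow 2 T => (R : Subgroup T)) hg

theorem card_sylow_congr {G : Type*} [Group G] [Finite G] (h : Nat.card G = 168) (e : G ≃* T) (p : ℕ)
    [Fact p.Prime] (Q : Sylow p T) : Nat.card (Sylow p G) = Nat.card (Sylow p T) := by
  let P : Sylow p G := Sylow.ofCard ((Q : Subgroup T).map e.symm.toMonoidHom) (by
    rw [Subgroup.card_map_of_injective e.symm.injective, h, ← card_T]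
    exact Q.card_eq_multiplicity)
  rw [P.card_eq_index_normalizer, Q.card_eq_index_normalizer]
  show (Subgroup.normalizer (((Q : Subgroup T).map e.symm.toMonoidHom : Subgroup G) : Set G)).index = _
  rw [← Subgroup.map_equiv_normalizer_eq]
  exact Subgroup.index_map_equiv _ e.symm

theorem card_sylow_two : Nat.card (Sylow 2 T) = 21 := by
  haveI : Fact (Nat.Prime 2) := ⟨Nat.prime_two⟩
  have h := SmallOrder.card_normalizer_mul_card_sylow T0syl
  have e : Nat.card (Subgroup.normalizer (T0 : Set T)) = 8 := by rw [normalizer_T0_eq]; exact card_subgroups.1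
  change Nat.card (Subgroup.normalizer (T0 : Set T)) * _ = _ at h
  rw [e, card_T] at h
  omega

theorem card_normalizer_zpowers (x : T) {k : ℕ} (hx : orderOf x = k) :
    Nat.card (Subgroup.normalizer (Subgroup.zpowers x : Set T)) =
      Fintype.card {g : T // ∃ i : Fin k, g * x * g⁻¹ = x ^ i.val} := by
  rw [← Nat.card_eq_fintype_card]
  refine Nat.card_congr (Equiv.subtypeEquivRight fun g => ?_)
  rw [mem_normalizer_zpowers]
  constructor
  · intro hg
    obtain ⟨i, hi⟩ := ((isOfFinOrder_of_finite x).mem_powers_iff_mem_zpowers).mpr hg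
    exact ⟨⟨i % k, Nat.mod_lt _ (hx ▸ orderOf_pos x)⟩, by simp only [← hx, pow_mod_orderOf]; exact hi.symm⟩
  · rintro ⟨i, hi⟩
    rw [hi]
    exact Subgroup.npow_mem_zpowers x _

theorem card_sylow_three : Nat.card (Sylow 3 T) = 28 := by
  haveI : Fact (Nat.Prime 3) := ⟨by norm_num⟩
  have ho : orderOf (mkT 282) = 3 := (orderOf_three_iff _).mpr ⟨orders.1, orders.2.1⟩
  let Q : Sylow 3 T := Sylow.ofCard (Subgroup.zpowers (mkT 282)) (by rw [Nat.card_zpowers, ho, card_T]; decide +kernel)
  have h := SmallOrder.card_normalizer_mul_card_sylow Q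
  have hN : Nat.card (Subgroup.normalizer (Subgroup.zpowers (mkT 282) : Set T)) = 6 := by
    rw [card_normalizer_zpowers _ ho, ← normalizer_three]
    refine Fintype.card_congr (Equiv.subtypeEquivRight fun g => ?_)
    constructor
    · rintro ⟨i, hi⟩
      fin_cases i
      · simp only [pow_zero] at hi
        exact absurd (conj_eq_one_iff.mp hi) orders.2.1
      · exact Or.inl (by simpa using hi)
      · exact Or.inr (by simpa using hi)
    · rintro (hi | hi)
      · exact ⟨1, by simpa using hi⟩
      · exact ⟨2, by simpa using hi⟩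
  change Nat.card (Subgroup.normalizer (Subgroup.zpowers (mkT 282) : Set T)) * _ = _ at h
  rw [hN, card_T] at h
  omega

theorem card_normalizer_seven {x : T} (hx : orderOf x = 7) :
    Nat.card (Subgroup.normalizer (Subgroup.zpowers x : Set T)) = 21 := by
  have key : Nat.card (Subgroup.normalizer (Subgroup.zpowers (mkT 94) : Set T)) = 21 := by
    rw [card_normalizer_zpowers _ ((orderOf_seven_iff _).mpr ⟨orders.2.2.1, orders.2.2.2⟩)]
    exact normalizer_seven
  obtain ⟨c, hc⟩ := conj_seven x ((orderOf_seven_iff x).mp hx).1 ((orderOf_seven_iff x).mp hx).2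
  have hz : (Subgroup.zpowers x).map (MulAut.conj c).toMonoidHom = Subgroup.zpowers (mkT 94) := by
    rw [MonoidHom.map_zpowers, MulEquiv.coe_toMonoidHom, MulAut.conj_apply]
    rcases hc with e | e <;> rw [e]
    exact Subgroup.zpowers_inv
  rw [← key, ← hz, ← Subgroup.map_equiv_normalizer_eq, Subgroup.card_map_of_injective (MulAut.conj c).injective]

theorem card_sylow_seven : Nat.card (Sylow 7 T) = 8 := by
  haveI : Fact (Nat.Prime 7) := ⟨by norm_num⟩
  have ho : orderOf (mkT 94) = 7 := (orderOf_seven_iff _).mpr ⟨orders.2.2.1, orders.2.2.2⟩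
  let Q : Sylow 7 T := Sylow.ofCard (Subgroup.zpowers (mkT 94)) (by rw [Nat.card_zpowers, ho, card_T]; decide +kernel)
  have h := SmallOrder.card_normalizer_mul_card_sylow Q
  change Nat.card (Subgroup.normalizer (Subgroup.zpowers (mkT 94) : Set T)) * _ = _ at h
  rw [card_normalizer_seven ho, card_T] at h
  omega

theorem card_class_seven {x : T} (hx : orderOf x = 7) : Nat.card {g : T // IsConj x g} = 24 ∧ ¬ IsConj x x⁻¹ := by
  have hconj : ∀ y : T, ∀ c : T, ∀ r : T, c * y * c⁻¹ = r → (∀ d : T, d * r * d⁻¹ ≠ r⁻¹) →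
      Fintype.card {d : T // d * r = r * d} = 7 → Nat.card {g : T // IsConj y g} = 24 ∧ ¬ IsConj y y⁻¹ := by
    intro y c r hcr hreal hcent
    constructor
    · have h1 : Nat.card {g : T // IsConj y g} = Nat.card (ConjClasses.mk r).carrier :=
        Nat.card_congr (Equiv.subtypeEquivRight fun g => by
          rw [ConjClasses.mem_carrier_iff_mk_eq, ConjClasses.mk_eq_mk_iff_isConj]
          have hyr : IsConj y r := isConj_iff.mpr ⟨c, hcr⟩
          exact ⟨fun h => h.symm.trans hyr, fun h => hyr.trans h.symm⟩)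
      have h2 := CfsgLib.TwoByTwo.card_carrier_mul_centralizer r
      have h3 : Nat.card (Subgroup.centralizer ({r} : Set T)) = 7 := by
        rw [← hcent, ← Nat.card_eq_fintype_card]
        exact Nat.card_congr (Equiv.subtypeEquivRight fun d => Subgroup.mem_centralizer_singleton_iff)
      rw [h3, card_T] at h2
      omega
    · intro h
      obtain ⟨d, hd⟩ := isConj_iff.mp h
      refine hreal (c * d * c⁻¹) ?_
      calc c * d * c⁻¹ * r * (c * d * c⁻¹)⁻¹ = c * (d * y * d⁻¹) * c⁻¹ := by rw [← hcr]; group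
        _ = r⁻¹ := by rw [hd, ← hcr]; group
  obtain ⟨c, hc⟩ := conj_seven x ((orderOf_seven_iff x).mp hx).1 ((orderOf_seven_iff x).mp hx).2
  rcases hc with e | e
  · exact hconj x c _ e seven_real seven_cent.1
  · refine hconj x c _ e (fun d hd => ?_) seven_cent.2
    rw [inv_inv] at hd
    refine seven_real d ?_
    have := congrArg (·⁻¹) hd
    simpa [mul_assoc] using this

/-! ### Subgroups -/

theorem card_le_of_proper {K : Subgroup T} (hK : K ≠ ⊤) : Nat.card K ≤ 24 := by
  haveI := isSimpleGroup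
  have h := SmallOrder.card_dvd_factorial_index hK
  have hm := K.card_mul_index
  rw [card_T] at h hm
  have h7 : 7 ≤ K.index := by
    by_contra hcon
    have hlt : K.index < 7 := not_le.mp hcon
    generalize K.index = i at h hlt
    interval_cases i <;> revert h <;> decide
  have := Nat.mul_le_mul_left (Nat.card K) h7
  omega

theorem ne_top_of_card {K : Subgroup T} (h : Nat.card K < 168) : K ≠ ⊤ := fun e => by
  rw [e, Subgroup.card_top, card_T] at h; omega

theorem klein_cases {U : Subgroup T} (hU : IsKleinFour U) (hle : U ≤ T0) : U = V1 ∨ U = V2 := by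
  haveI := hU
  haveI := Fintype.ofFinite U
  haveI : Nontrivial U := Fintype.one_lt_card_iff_nontrivial.mp (by rw [← Nat.card_eq_fintype_card, hU.card_four]; norm_num)
  obtain ⟨x, hx⟩ := exists_ne (1 : U)
  obtain ⟨y, hy1, hyx⟩ : ∃ y : U, y ≠ 1 ∧ y ≠ x := by
    by_contra! hcon
    have h : Fintype.card U ≤ ({1, x} : Finset U).card := Finset.card_le_card fun v _ => by
      by_cases e : v = 1
      · simp [e]
      · simp [hcon v e]
    have h' : ({1, x} : Finset U).card ≤ 2 := Finset.card_le_two
    rw [← Nat.card_eq_fintype_card, hU.card_four] at h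
    omega
  have hxy : (x : T) * y = y * x := congrArg Subtype.val (mul_comm_of_exponent_two IsKleinFour.exponent_two x y)
  have hsq : ∀ u : U, (u : T) * u = 1 := fun u => congrArg Subtype.val (IsKleinFour.mul_self u)
  have cov : ∀ V : Subgroup T, Nat.card V = 4 → (x : T) ∈ V → (y : T) ∈ V → U = V := by
    intro V hV hxV hyV
    refine Subgroup.eq_of_le_of_card_ge (fun u hu => ?_) (by rw [hV, hU.card_four])
    obtain ⟨z, hz⟩ : ∃ z : U, (z : T) = u := ⟨⟨u, hu⟩, rfl⟩
    rw [← hz]
    by_cases e1 : z = 1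
    · rw [e1]; exact one_mem V
    by_cases e2 : z = x
    · rw [e2]; exact hxV
    by_cases e3 : z = y
    · rw [e3]; exact hyV
    · have h3 : z = x * y := by
        by_contra e4
        have hn : (x : U) * y ≠ 1 ∧ x * y ≠ x ∧ x * y ≠ y := ⟨fun e => hyx (Subtype.ext (by
            have := congrArg Subtype.val e
            exact (mul_left_cancel (this.trans (hsq x).symm)))),
          fun e => hy1 (mul_eq_left.mp e), fun e => hx (mul_eq_right.mp e)⟩
        have : ({1, x, y, x * y, z} : Finset U).card ≤ 4 := by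
          rw [← hU.card_four, Nat.card_eq_fintype_card]; exact Finset.card_le_univ _
        simp [Ne.symm hx, Ne.symm hy1, Ne.symm hn.1, Ne.symm e1, Ne.symm hyx, Ne.symm hn.2.1, Ne.symm e2,
          Ne.symm hn.2.2, Ne.symm e3, Ne.symm e4] at this
      rw [h3]
      exact mul_mem hxV hyV
  rcases klein_T0 x (hle x.2) y (hle y.2) (fun e => hx (Subtype.ext e)) (fun e => hy1 (Subtype.ext e))
    (fun e => hyx (Subtype.ext e.symm)) (hsq x) (hsq y) hxy with ⟨a, b⟩ | ⟨a, b⟩
  · exact Or.inl (cov V1 card_subgroups.2.1 a b)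
  · exact Or.inr (cov V2 card_subgroups.2.2.1 a b)

theorem klein_V : IsKleinFour V1 ∧ IsKleinFour V2 ∧ V1 ≤ T0 ∧ V2 ≤ T0 ∧ V1 ≠ V2 := by
  haveI : Fact (Nat.Prime 2) := ⟨Nat.prime_two⟩
  have key : ∀ V : Subgroup T, Nat.card V = 4 → (∀ g : T, g ∈ V → g * g = 1) → IsKleinFour V := by
    intro V hV hsq
    refine ⟨hV, Nat.dvd_antisymm (Monoid.exponent_dvd_of_forall_pow_eq_one fun g => Subtype.ext (by
      rw [SubmonoidClass.coe_pow, pow_two]; exact hsq g g.2)) ?_⟩
    haveI := Fintype.ofFinite V
    haveI : Nontrivial V := Fintype.one_lt_card_iff_nontrivial.mp (by rw [← Nat.card_eq_fintype_card, hV]; norm_num)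
    obtain ⟨x, hx⟩ := exists_ne (1 : V)
    have ho : orderOf x = 2 := orderOf_eq_prime (Subtype.ext (by
      rw [SubmonoidClass.coe_pow, pow_two]; exact hsq x x.2)) hx
    exact ho ▸ Monoid.order_dvd_exponent x
  refine ⟨key V1 card_subgroups.2.1 fun g hg => (V_sq.1 g hg).1, key V2 card_subgroups.2.2.1 fun g hg => (V_sq.2 g hg).1,
    fun g hg => (V_sq.1 g hg).2, fun g hg => (V_sq.2 g hg).2, fun e => ?_⟩
  obtain ⟨v, hv, hv'⟩ := V_not_conj.1 1
  rw [← e] at hv'
  exact hv' (by simpa using hv)

theorem isCoatom_of_card_24 {K : Subgroup T} (hK : Nat.card K = 24) : IsCoatom K := by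
  refine ⟨ne_top_of_card (by omega), fun L hL => ?_⟩
  by_contra htop
  have h1 := card_le_of_proper htop
  exact hL.ne (Subgroup.eq_of_le_of_card_ge hL.le (by omega))

theorem isCoatom_of_card_21 {K : Subgroup T} (hK : Nat.card K = 21) : IsCoatom K := by
  refine ⟨ne_top_of_card (by omega), fun L hL => ?_⟩
  by_contra htop
  have h1 := card_le_of_proper htop
  obtain ⟨c, hc⟩ := Subgroup.card_dvd_of_le hL.le
  have hpos : 0 < Nat.card L := Nat.card_pos
  rw [hK] at hc
  have : c = 1 := by
    rcases Nat.lt_or_ge c 2 with h | h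
    · rcases Nat.eq_zero_or_pos c with rfl | hc'
      · omega
      · omega
    · have := Nat.mul_le_mul_left 21 h
      omega
  exact hL.ne (Subgroup.eq_of_le_of_card_ge hL.le (by rw [hc, this, mul_one, hK]))

theorem maximal_cases {K : Subgroup T} (hK : IsCoatom K) :
    (Nat.card K = 21 ∧ ∃ x : T, orderOf x = 7 ∧ K = Subgroup.normalizer (Subgroup.zpowers x : Set T)) ∨
      ∃ c : T, K.map (MulAut.conj c).toMonoidHom = SA ∨ K.map (MulAut.conj c).toMonoidHom = SB := by
  haveI := isSimpleGroup
  have h24 := card_le_of_proper hK.1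
  by_cases h7 : 7 ∣ Nat.card K
  · left
    haveI : Fact (Nat.Prime 7) := ⟨by norm_num⟩
    obtain ⟨x, hx⟩ := exists_prime_orderOf_dvd_card' (G := K) 7 h7
    have hxT : orderOf (x : T) = 7 := by rw [Subgroup.orderOf_coe, hx]
    have hle : K ≤ Subgroup.normalizer (Subgroup.zpowers (x : T) : Set T) := by
      intro a ha
      rw [mem_normalizer_zpowers]
      by_contra hnot
      set y := a * (x : T) * a⁻¹
      have hy : orderOf y = 7 := (MulEquiv.orderOf_eq (MulAut.conj a) (x : T)).trans hxT
      let ψ : Fin 7 × Fin 7 → K := fun p =>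
        ⟨(x : T) ^ p.1.val * y ^ p.2.val, mul_mem (pow_mem x.2 _) (pow_mem (mul_mem (mul_mem ha x.2) (inv_mem ha)) _)⟩
      have hψ : Function.Injective ψ := by
        rintro ⟨i, j⟩ ⟨i', j'⟩ e
        have e' : (x : T) ^ i.val * y ^ j.val = (x : T) ^ i'.val * y ^ j'.val := congrArg Subtype.val e
        by_cases hj : j = j'
        · subst hj
          have := pow_injOn_Iio_orderOf (x := (x : T)) (by rw [Set.mem_Iio, hxT]; exact i.2)
            (by rw [Set.mem_Iio, hxT]; exact i'.2) (mul_right_cancel e')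
          exact Prod.ext (Fin.ext this) rfl
        · exfalso
          have hmem : y ^ ((j : ℤ) - j') ∈ Subgroup.zpowers (x : T) := by
            refine ⟨(i' : ℤ) - i, ?_⟩
            simp only
            rw [zpow_sub, zpow_sub, zpow_natCast, zpow_natCast, zpow_natCast, zpow_natCast]
            have : (x : T) ^ i'.val = (x : T) ^ i.val * (y ^ j.val * (y ^ j'.val)⁻¹) := by
              rw [← mul_assoc, e', mul_inv_cancel_right]
            rw [this, mul_inv_eq_iff_eq_mul]
            have hc : Commute ((x : T) ^ i.val) ((x : T) ^ i'.val) := Commute.pow_pow_self _ _ _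
            have h2 : y ^ j.val * (y ^ j'.val)⁻¹ = ((x : T) ^ i.val)⁻¹ * (x : T) ^ i'.val := by
              rw [this, inv_mul_cancel_left]
            rw [h2, mul_inv_cancel_left, mul_assoc, hc.symm.eq, inv_mul_cancel_left]
          obtain ⟨u, v, huv⟩ : ∃ u v : ℤ, ((j : ℤ) - j') * u + 7 * v = 1 := by
            have hp : IsCoprime ((j : ℤ) - j') 7 := by
              have h7p : Prime (7 : ℤ) := by norm_num
              refine (h7p.coprime_iff_not_dvd.mpr fun hd => hj (Fin.ext ?_)).symm
              have := j.2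
              have := j'.2
              omega
            obtain ⟨u, v, huv⟩ := hp
            exact ⟨u, v, by linarith⟩
          refine hnot ?_
          have : y = (y ^ ((j : ℤ) - j')) ^ u := by
            have e7 : y ^ (7 : ℤ) = 1 := by
              rw [show (7 : ℤ) = ((7 : ℕ) : ℤ) from rfl, zpow_natCast, ← hy, pow_orderOf_eq_one]
            conv_lhs => rw [← zpow_one y, ← huv, zpow_add, zpow_mul, zpow_mul, e7, one_zpow, mul_one]
          rw [this]
          exact zpow_mem hmem u
      have := Nat.card_le_card_of_injective ψ hψ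
      rw [Nat.card_prod, Nat.card_fin] at this
      omega
    have hN := card_normalizer_seven hxT
    have hne := ne_top_of_card (K := Subgroup.normalizer (Subgroup.zpowers (x : T) : Set T)) (by omega)
    have heq : K = Subgroup.normalizer (Subgroup.zpowers (x : T) : Set T) := by
      by_contra hcon
      exact hne (hK.2 _ (lt_of_le_of_ne hle hcon))
    exact ⟨by rw [heq, hN], x, hxT, heq⟩
  · right
    haveI : Fact (Nat.Prime 2) := ⟨Nat.prime_two⟩
    haveI : Fact (Nat.Prime 3) := ⟨by norm_num⟩
    have hmaxA : ∀ (c : T) (S : Subgroup T), S ≠ ⊤ → K.map (MulAut.conj c).toMonoidHom ≤ S →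
        K.map (MulAut.conj c).toMonoidHom = S := by
      intro c S hS hle
      have hco : IsCoatom (K.map (MulAut.conj c).toMonoidHom) := ((MulAut.conj c).mapSubgroup.isCoatom_iff K).mpr hK
      by_contra hcon
      exact hS (hco.2 _ (lt_of_le_of_ne hle hcon))
    have hA := ne_top_of_card (K := SA) (by rw [card_subgroups.2.2.2.1]; norm_num)
    have hB := ne_top_of_card (K := SB) (by rw [card_subgroups.2.2.2.2]; norm_num)
    by_cases h3 : 3 ∣ Nat.card K
    · obtain ⟨x, hx⟩ := exists_prime_orderOf_dvd_card' (G := K) 3 h3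
      have hx' := (orderOf_three_iff (x : T)).mp (by rw [Subgroup.orderOf_coe, hx])
      obtain ⟨c, hc⟩ := conj_three _ hx'.1 hx'.2
      set K' := K.map (MulAut.conj c).toMonoidHom with hK'
      have hx0 : mkT 282 ∈ K' := ⟨x, x.2, hc⟩
      have hK'7 : ¬ 7 ∣ Nat.card K' := by
        rw [hK', Subgroup.card_map_of_injective (MulAut.conj c).injective]; exact h7
      have hno : ∀ w ∈ K', ¬ (w ^ 7 = 1 ∧ w ≠ 1) := fun w hw hw7 => hK'7 (by
        rw [← (orderOf_seven_iff w).mpr hw7, ← Subgroup.orderOf_mk w hw]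
        exact orderOf_dvd_natCard _)
      let CA : Subgroup T := SA.comap (MulAut.conj (mkT 84)).toMonoidHom
      have hor : ∀ a ∈ K', a ∈ CA ∨ a ∈ SB := by
        intro a ha
        by_contra hcon
        push Not at hcon
        have hr : rowv a.1.1 4 ≠ 4 := fun e => hcon.2 (show pB a = true by simp [pB, e])
        have hcl : colv a.1.1 4 ≠ 4 := fun e => hcon.1 ((colv_four a).mp e)
        rcases three_words a hcl hr with w | w
        · exact hno _ (mul_mem (mul_mem (mul_mem (mul_mem hx0 ha) (inv_mem hx0)) ha) ha) w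
        · exact hno _ (mul_mem (mul_mem (mul_mem hx0 ha) hx0) (inv_mem ha)) w
      have hsub : K' ≤ CA ∨ K' ≤ SB := by
        by_contra hcon
        push Not at hcon
        obtain ⟨a, ha, haC⟩ := SetLike.not_le_iff_exists.mp hcon.1
        obtain ⟨b, hb, hbB⟩ := SetLike.not_le_iff_exists.mp hcon.2
        have haB := (hor a ha).resolve_left haC
        have hbC := (hor b hb).resolve_right hbB
        rcases hor _ (mul_mem ha hb) with e | e
        · exact haC ((Subgroup.mul_mem_cancel_right CA hbC).mp e)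
        · exact hbB ((Subgroup.mul_mem_cancel_left SB haB).mp e)
      rcases hsub with h | h
      · refine ⟨mkT 84 * c, Or.inl (hmaxA _ _ hA ?_)⟩
        rintro _ ⟨a, ha, rfl⟩
        have := h (Subgroup.mem_map_of_mem (MulAut.conj c).toMonoidHom ha)
        show MulAut.conj (mkT 84 * c) a ∈ SA
        rw [map_mul]
        exact this
      · exact ⟨c, Or.inr (hmaxA _ _ hB h)⟩
    · have hd : Nat.card K ∣ 2 ^ 3 := by
        have hd := K.card_subgroup_dvd_card
        rw [card_T] at hd
        have hcop : Nat.Coprime (Nat.card K) (3 * 7) := Nat.Coprime.mul_right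
          ((Nat.Prime.coprime_iff_not_dvd (by norm_num)).mpr h3).symm
          ((Nat.Prime.coprime_iff_not_dvd (by norm_num)).mpr h7).symm
        exact hcop.dvd_of_dvd_mul_right (by norm_num; exact hd)
      obtain ⟨i, -, hi⟩ := (Nat.dvd_prime_pow Nat.prime_two).mp hd
      obtain ⟨Q, hQ⟩ := (IsPGroup.of_card hi).exists_le_sylow
      obtain ⟨g, hg⟩ := MulAction.exists_smul_eq T Q T0syl
      refine ⟨g, Or.inl (hmaxA g SA hA ((Subgroup.map_mono hQ).trans fun a ha => T0_le_SA a ?_))⟩
      have e : (Q : Subgroup T).map (MulAut.conj g).toMonoidHom = T0 := congrArg (fun R : Sylow 2 T => (R : Subgroup T)) hg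
      rw [e] at ha
      exact ha

end CfsgLib.Order168Model
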