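import Mathlib
import Cfsg.Prelude.Def_Classical
import Cfsg.Agent.Lib.UnitaryOrder
import Cfsg.Agent.Lib.UnitarySimple
import Cfsg.Agent.S0280
import Cfsg.Agent.S0279

/-! The group `SU₃(2)` by codes: a homomorphism onto the quaternion group. -/

set_option autoImplicit false
set_option linter.style.haveILetI false
set_option maxRecDepth 20000

namespace CfsgLib.PSU32

/-- Product in the field with four elements, `2` a primitive cube root of unity. -/
def M (a b : ℕ) : ℕ := if a = 0 ∨ b = 0 then 0 else (a - 1 + (b - 1)) % 3 + 1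

/-- An entry. -/
def dg (c j : ℕ) : ℕ := c / 4 ^ j % 4

/-- An entry of a product. -/
def ent (A B i j : ℕ) : ℕ :=
  M (dg A (3 * i)) (dg B j) ^^^ M (dg A (3 * i + 1)) (dg B (3 + j)) ^^^ M (dg A (3 * i + 2)) (dg B (6 + j))

/-- Assemble. -/
def asm (a b c d e f g h i : ℕ) : ℕ :=
  a + 4 * (b + 4 * (c + 4 * (d + 4 * (e + 4 * (f + 4 * (g + 4 * (h + 4 * i)))))))

/-- Product of codes. -/
def mulC (A B : ℕ) : ℕ :=
  asm (ent A B 0 0) (ent A B 0 1) (ent A B 0 2) (ent A B 1 0) (ent A B 1 1) (ent A B 1 2)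
    (ent A B 2 0) (ent A B 2 1) (ent A B 2 2)

/-- The form on columns. -/
def hC (a b : ℕ) : ℕ :=
  M (dg a 0) (M (dg b 0) (dg b 0)) ^^^ M (dg a 1) (M (dg b 1) (dg b 1)) ^^^ M (dg a 2) (M (dg b 2) (dg b 2))

/-- The code from three columns. -/
def cols (a b c : ℕ) : ℕ :=
  asm (dg a 0) (dg b 0) (dg c 0) (dg a 1) (dg b 1) (dg c 1) (dg a 2) (dg b 2) (dg c 2)

/-- Determinant. -/
def detC (A : ℕ) : ℕ :=
  M (M (dg A 0) (dg A 4)) (dg A 8) ^^^ M (M (dg A 1) (dg A 5)) (dg A 6) ^^^ M (M (dg A 2) (dg A 3)) (dg A 7) ^^^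
    M (M (dg A 2) (dg A 4)) (dg A 6) ^^^ M (M (dg A 0) (dg A 5)) (dg A 7) ^^^ M (M (dg A 1) (dg A 3)) (dg A 8)

/-- The generators. -/
def gens : List ℕ := [229035, 261750]

/-- Their images. -/
def imgs : List ℕ := [1, 4]

/-- Code, image, predecessor, generator. -/
def table : List (ℕ × ℕ × ℕ × ℕ) :=
  [(65793, 0, 0, 0), (229035, 1, 0, 0), (261750, 4, 0, 1), (8976, 2, 1, 0), (256998, 7, 1, 1),
   (120489, 5, 2, 0), (131208, 2, 2, 1), (252279, 3, 3, 0), (113151, 6, 3, 1), (223902, 4, 4, 0),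
   (92151, 3, 4, 1), (234861, 6, 5, 0), (192189, 1, 5, 1), (106335, 3, 6, 0), (87774, 6, 6, 1),
   (131586, 0, 7, 0), (243390, 5, 7, 1), (257373, 7, 8, 0), (49248, 0, 8, 1), (171759, 5, 9, 0),
   (33795, 2, 9, 1), (196866, 0, 10, 0), (122238, 5, 10, 1), (108951, 7, 11, 0), (11268, 0, 11, 1),
   (4896, 2, 12, 0), (171003, 7, 12, 1), (14340, 0, 13, 0), (98037, 5, 13, 1), (159663, 7, 14, 0),
   (197379, 0, 14, 1), (104445, 1, 15, 0), (87963, 4, 15, 1), (161142, 6, 16, 0), (106134, 1, 16, 1),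
   (225273, 4, 17, 0), (92526, 3, 17, 1), (154329, 1, 18, 0), (163221, 4, 18, 1), (186858, 6, 19, 0),
   (251487, 1, 19, 1), (130518, 3, 20, 0), (126957, 6, 20, 1), (175707, 4, 21, 1), (237558, 6, 22, 0),
   (190806, 1, 22, 1), (241131, 3, 23, 1), (252858, 1, 24, 0), (113337, 4, 24, 1), (178521, 3, 25, 0),
   (223701, 6, 25, 1), (187047, 4, 26, 0), (251865, 3, 26, 1), (91770, 1, 27, 0), (185721, 4, 27, 1),
   (177765, 1, 28, 1), (126378, 4, 29, 0), (226719, 3, 29, 1), (174573, 4, 30, 1), (12576, 2, 31, 0),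
   (97659, 7, 31, 1), (158718, 5, 32, 0), (196812, 2, 32, 1), (219561, 7, 33, 0), (7176, 0, 33, 1),
   (13104, 2, 34, 0), (97245, 7, 34, 1), (169818, 5, 35, 0), (34818, 2, 35, 1), (197121, 0, 36, 0),
   (219750, 5, 38, 0), (4656, 2, 38, 1), (16464, 0, 39, 1), (131268, 2, 40, 0), (243189, 7, 40, 1),
   (16560, 0, 41, 0), (221085, 5, 41, 1), (194391, 7, 42, 0), (65676, 2, 43, 1), (108393, 7, 44, 0),
   (10248, 0, 44, 1), (169629, 7, 45, 1), (49296, 0, 46, 0), (196518, 5, 46, 1), (131148, 2, 47, 0),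
   (244335, 7, 47, 1), (257754, 5, 48, 0), (50178, 2, 48, 1), (66051, 0, 49, 0), (157335, 5, 49, 1),
   (171366, 7, 50, 0), (32880, 0, 50, 1), (17409, 2, 51, 1), (131331, 0, 52, 0), (245079, 5, 52, 1),
   (120303, 7, 53, 1), (96666, 5, 54, 0), (19458, 2, 54, 1), (65736, 2, 55, 0), (157146, 7, 55, 1),
   (195195, 5, 56, 0), (12816, 2, 56, 1), (255861, 5, 57, 1), (65604, 2, 58, 1), (93849, 3, 59, 0),
   (187989, 6, 59, 1), (114663, 4, 60, 0), (125622, 6, 61, 0), (227286, 1, 61, 1), (189861, 3, 62, 0),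
   (174951, 6, 62, 1), (260013, 4, 63, 0), (155133, 3, 63, 1), (179103, 1, 64, 0), (178158, 3, 66, 1),
   (128637, 3, 68, 0), (124251, 6, 68, 1), (190443, 1, 69, 0), (174006, 4, 69, 1), (260958, 6, 70, 0),
   (155511, 1, 70, 1), (223146, 6, 71, 1), (240375, 1, 72, 0), (236991, 4, 72, 1), (103866, 3, 73, 0),
   (88953, 6, 73, 1), (161535, 4, 74, 0), (105189, 3, 74, 1), (241518, 1, 75, 0), (235242, 4, 75, 1),
   (261561, 6, 76, 0), (153006, 1, 76, 1), (129963, 3, 77, 1), (229221, 3, 78, 0), (259815, 6, 78, 1),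
   (89709, 4, 79, 0), (240573, 3, 79, 1), (111966, 4, 80, 1), (253614, 3, 81, 1), (175518, 6, 83, 0),
   (128439, 1, 83, 1), (89511, 6, 84, 1), (162666, 4, 85, 0), (163803, 6, 87, 1), (188382, 4, 90, 0),
   (129774, 1, 91, 0), (104811, 1, 94, 1), (191199, 3, 95, 1), (112533, 6, 96, 0), (179706, 1, 96, 1),
   (236187, 6, 97, 1), (124629, 4, 99, 0), (228090, 3, 99, 1), (130905, 1, 100, 1), (186303, 6, 101, 1),
   (224895, 6, 102, 0), (93093, 1, 102, 1), (121815, 5, 104, 1), (95910, 7, 105, 0), (51201, 2, 106, 1),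
   (196329, 7, 107, 0), (13320, 0, 107, 1), (8496, 2, 108, 0), (32928, 0, 112, 0), (110523, 5, 112, 1),
   (158325, 7, 113, 1), (159081, 5, 114, 1), (16608, 0, 115, 0), (218619, 5, 115, 1), (195006, 7, 116, 0),
   (15372, 0, 116, 1), (4368, 2, 117, 0), (244713, 5, 118, 0), (110334, 7, 120, 1), (32976, 0, 121, 1),
   (109149, 5, 123, 0), (8736, 2, 123, 1), (96111, 5, 124, 1), (121434, 7, 130, 0), (35841, 2, 131, 0),
   (122805, 7, 134, 0), (131841, 0, 134, 1), (196740, 2, 135, 1), (256431, 5, 137, 0), (52227, 2, 137, 1),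
   (219006, 7, 140, 1), (6156, 0, 143, 1), (18435, 2, 144, 1), (5124, 0, 147, 0), (170421, 5, 147, 1),
   (49392, 0, 148, 1), (9228, 0, 150, 1), (220887, 7, 153, 1), (196680, 2, 156, 0), (179895, 3, 158, 1),
   (153195, 3, 159, 0), (93663, 1, 161, 0), (114282, 6, 162, 1), (239001, 1, 164, 1), (125823, 4, 165, 0),
   (227709, 1, 166, 1), (236373, 4, 167, 1), (162477, 6, 172, 0), (88566, 4, 173, 0), (239190, 3, 173, 1),
   (192378, 3, 178, 1), (173817, 6, 182, 1), (154518, 3, 184, 0), (222567, 4, 186, 1), (253413, 1, 189, 1),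
   (260571, 4, 192, 0), (66306, 0, 194, 0), (108006, 5, 195, 1), (255675, 7, 197, 0), (194013, 5, 199, 0),
   (245658, 7, 206, 0)]

/-- The element of the quaternion group with the given number. -/
def toQ (n : ℕ) : QuaternionGroup 2 := if n < 4 then .a n else .xa (n - 4 : ℕ)

/-- The image of a code. -/
def img (c : ℕ) : QuaternionGroup 2 := toQ (((table.find? fun p => p.1 == c).map fun p => p.2.1).getD 0)

/-- The codes. -/
def codes : List ℕ := table.map Prod.fst

/-- The code of a scalar. -/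
def isScalar (A : ℕ) : Bool :=
  dg A 1 == 0 && dg A 2 == 0 && dg A 3 == 0 && dg A 5 == 0 && dg A 6 == 0 && dg A 7 == 0 && dg A 4 == dg A 0 && dg A 8 == dg A 0

/-- The unit columns. -/
def units : List ℕ := (List.range 64).filter fun a => hC a a == 1

theorem cover : (units.all fun a => units.all fun b => hC a b != 0 || units.all fun c =>
    hC a c != 0 || hC b c != 0 || detC (cols a b c) != 1 || codes.contains (cols a b c)) = true := by
  decide +kernel

theorem table_step : (table.all fun p => (List.range 2).all fun k =>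
    decide (img (mulC p.1 (gens.getD k 0)) = img p.1 * img (gens.getD k 0))) = true := by
  decide +kernel

theorem table_parent : ((List.range 216).all fun i => i == 0 ||
    (decide ((table.getD i (0, 0, 0, 0)).2.2.1 < i) && decide ((table.getD i (0, 0, 0, 0)).2.2.2 < 2) &&
      mulC (table.getD (table.getD i (0, 0, 0, 0)).2.2.1 (0, 0, 0, 0)).1 (gens.getD (table.getD i (0, 0, 0, 0)).2.2.2 0) ==
        (table.getD i (0, 0, 0, 0)).1)) = true := by
  decide +kernel

theorem table_basic : codes.length = 216 ∧ (table.getD 0 (0, 0, 0, 0)).1 = 65793 ∧ img 65793 = 1 ∧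
    codes.Nodup ∧ (∀ k < 2, gens.getD k 0 ∈ codes) := by
  decide +kernel

theorem image_onto : ∀ n < 8, ∃ i < 216, img (table.getD i (0, 0, 0, 0)).1 = toQ n := by decide +kernel

theorem kernel_cube : (table.all fun p => !decide (img p.1 = 1) || isScalar (mulC (mulC p.1 p.1) p.1)) = true := by
  decide +kernel

theorem toQ_surj : ∀ x : QuaternionGroup 2, ∃ n < 8, toQ n = x := by decide +kernel

theorem M_lt (a b : ℕ) : M a b < 4 := by unfold M; split_ifs <;> omega

theorem xor_lt {a b : ℕ} (ha : a < 4) (hb : b < 4) : a ^^^ b < 4 := Nat.xor_lt_two_pow (n := 2) ha hb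

theorem dg_lt (c j : ℕ) : dg c j < 4 := Nat.mod_lt _ (by norm_num)

attribute [local irreducible] img table mulC detC hC isScalar

section

variable {F : Type*} [Field F] [Fintype F] (hF : Fintype.card F = 4)

include hF in
theorem exists_phi : ∃ φ : F → ℕ, (∀ x, φ x < 4) ∧ Function.Injective φ ∧ φ 0 = 0 ∧ φ 1 = 1 ∧
    (∀ x y, φ (x + y) = φ x ^^^ φ y) ∧ (∀ x y, φ (x * y) = M (φ x) (φ y)) ∧ ∀ n < 4, ∃ x, φ x = n := by
  classical
  haveI : CharP F 2 := by
    obtain ⟨p, hp⟩ := CharP.exists F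
    obtain ⟨n, hpp, hn⟩ := FiniteField.card F p
    have : p ∣ 4 := by rw [← hF, hn]; exact dvd_pow_self p n.ne_zero
    obtain rfl := (Nat.prime_dvd_prime_iff_eq hpp Nat.prime_two).mp (hpp.dvd_of_dvd_pow (n := 2) (by norm_num [this]))
    exact hp
  have h11 : (1 : F) + 1 = 0 := CharTwo.add_self_eq_zero 1
  obtain ⟨w, hw0, hw1⟩ : ∃ w : F, w ≠ 0 ∧ w ≠ 1 := by
    by_contra! hcon
    have hsub : (Finset.univ : Finset F) ⊆ {0, 1} := fun x _ => by
      by_cases h : x = 0
      · simp [h]
      · simp [hcon x h]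
    have := (Finset.card_le_card hsub).trans Finset.card_le_two
    rw [Finset.card_univ, hF] at this
    omega
  have hww : w * w = w + 1 := by
    have h4 : w ^ 4 = w := hF ▸ FiniteField.pow_card w
    have h : w * (w + 1) * (w * w + w + 1) = 0 := by linear_combination h4 + (w ^ 3 + w ^ 2 + w) * h11
    have hw1' : w + 1 ≠ 0 := fun e => hw1 (by linear_combination e - h11)
    have := (mul_eq_zero.mp h).resolve_left (mul_ne_zero hw0 hw1')
    linear_combination this - (w + 1) * h11
  let v : Fin 4 → F := ![0, 1, w, w + 1]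
  have hw10 : w + 1 ≠ 0 := fun e => hw1 (by linear_combination e - h11)
  have hw1w : w + 1 ≠ w := fun e => one_ne_zero (α := F) (by linear_combination e)
  have hw11 : w + 1 ≠ 1 := fun e => hw0 (by linear_combination e)
  have hv : Function.Injective v := by
    intro a b e
    fin_cases a <;> fin_cases b <;>
      first
        | rfl
        | (exfalso; simp [v, hw0, hw0.symm, hw1, hw1.symm, hw10, hw10.symm, hw1w, hw1w.symm, hw11, hw11.symm] at e)
  have hbij : Function.Bijective v := hv.bijective_of_nat_card_le (by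
    rw [Nat.card_eq_fintype_card, Nat.card_eq_fintype_card, hF, Fintype.card_fin])
  let e : Fin 4 ≃ F := Equiv.ofBijective v hbij
  have eadd : ∀ a b : Fin 4, ∃ c : Fin 4, (c : ℕ) = (a : ℕ) ^^^ (b : ℕ) ∧ v a + v b = v c := by
    intro a b
    refine ⟨⟨(a : ℕ) ^^^ (b : ℕ), xor_lt a.2 b.2⟩, rfl, ?_⟩
    fin_cases a <;> fin_cases b <;> simp [v] <;>
      first
        | linear_combination h11
        | linear_combination w * h11
        | linear_combination (w + 1) * h11
        | ring
  have emul : ∀ a b : Fin 4, ∃ c : Fin 4, (c : ℕ) = M a b ∧ v a * v b = v c := by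
    intro a b
    refine ⟨⟨M a b, M_lt _ _⟩, rfl, ?_⟩
    fin_cases a <;> fin_cases b <;> simp [v, M] <;>
      first
        | linear_combination hww
        | linear_combination hww + w * h11
        | linear_combination hww + (w + 1) * h11
  refine ⟨fun x => (e.symm x : ℕ), fun x => (e.symm x).2, fun x y h => e.symm.injective (Fin.ext h), ?_, ?_, ?_, ?_, ?_⟩
  · show ((e.symm 0 : Fin 4) : ℕ) = 0
    rw [show e.symm 0 = 0 from e.symm_apply_eq.mpr rfl]; rfl
  · show ((e.symm 1 : Fin 4) : ℕ) = 1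
    rw [show e.symm 1 = 1 from e.symm_apply_eq.mpr rfl]; rfl
  · intro x y
    obtain ⟨a, rfl⟩ := e.surjective x
    obtain ⟨b, rfl⟩ := e.surjective y
    obtain ⟨c, hc, hab⟩ := eadd a b
    show ((e.symm (v a + v b) : Fin 4) : ℕ) = _
    rw [hab, show v c = e c from rfl]
    simp only [Equiv.symm_apply_apply]
    exact hc
  · intro x y
    obtain ⟨a, rfl⟩ := e.surjective x
    obtain ⟨b, rfl⟩ := e.surjective y
    obtain ⟨c, hc, hab⟩ := emul a b
    show ((e.symm (v a * v b) : Fin 4) : ℕ) = _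
    rw [hab, show v c = e c from rfl]
    simp only [Equiv.symm_apply_apply]
    exact hc
  · exact fun n hn => ⟨e ⟨n, hn⟩, by simp⟩

theorem dg_asm {a b c d e f g h i : ℕ} (ha : a < 4) (hb : b < 4) (hc : c < 4) (hd : d < 4) (he : e < 4) (hf : f < 4)
    (hg : g < 4) (hh : h < 4) (hi : i < 4) :
    dg (asm a b c d e f g h i) 0 = a ∧ dg (asm a b c d e f g h i) 1 = b ∧ dg (asm a b c d e f g h i) 2 = c ∧
      dg (asm a b c d e f g h i) 3 = d ∧ dg (asm a b c d e f g h i) 4 = e ∧ dg (asm a b c d e f g h i) 5 = f ∧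
      dg (asm a b c d e f g h i) 6 = g ∧ dg (asm a b c d e f g h i) 7 = h ∧ dg (asm a b c d e f g h i) 8 = i := by
  simp only [dg, asm]
  norm_num
  omega

/-- The code of a matrix. -/
def code (φ : F → ℕ) (A : Matrix (Fin 3) (Fin 3) F) : ℕ :=
  asm (φ (A 0 0)) (φ (A 0 1)) (φ (A 0 2)) (φ (A 1 0)) (φ (A 1 1)) (φ (A 1 2)) (φ (A 2 0)) (φ (A 2 1)) (φ (A 2 2))

omit [Fintype F] in
theorem dg_code {φ : F → ℕ} (hlt : ∀ x, φ x < 4) (A : Matrix (Fin 3) (Fin 3) F) (i j : Fin 3) :
    dg (code φ A) (3 * i + j) = φ (A i j) := by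
  have h := dg_asm (hlt (A 0 0)) (hlt (A 0 1)) (hlt (A 0 2)) (hlt (A 1 0)) (hlt (A 1 1)) (hlt (A 1 2)) (hlt (A 2 0))
    (hlt (A 2 1)) (hlt (A 2 2))
  obtain ⟨h0, h1, h2, h3, h4, h5, h6, h7, h8⟩ := h
  fin_cases i <;> fin_cases j <;> assumption

set_option maxHeartbeats 1600000 in
include hF in
/-- The homomorphism onto the quaternion group, and the cubes in its kernel. -/
theorem exists_hom : ∃ f : Cfsg.SU 3 F 2 →* QuaternionGroup 2, Function.Surjective f ∧
    ∀ g, f g = 1 → g ^ 3 ∈ Subgroup.center (Cfsg.SU 3 F 2) := by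
  classical
  obtain ⟨φ, hlt, hinj, h0, h1, hadd, hmul, -⟩ := exists_phi hF
  have hF2 : Fintype.card F = 2 ^ 2 := by rw [hF]; norm_num
  let enc : Cfsg.SU 3 F 2 → ℕ := fun g => code φ (UnitarySimple.mat g)
  have hd : ∀ (g : Cfsg.SU 3 F 2) (i j : Fin 3), dg (enc g) (3 * i + j) = φ (UnitarySimple.mat g i j) :=
    fun g => dg_code hlt _
  have encinj : Function.Injective enc := fun g k e => by
    refine Subtype.ext (Subtype.ext (Matrix.ext fun i j => hinj ?_))
    show φ (UnitarySimple.mat g i j) = φ (UnitarySimple.mat k i j)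
    rw [← hd, ← hd, e]
  have encmul : ∀ g k, enc (g * k) = mulC (enc g) (enc k) := by
    intro g k
    have hent : ∀ i j : Fin 3, φ ((UnitarySimple.mat g * UnitarySimple.mat k) i j) = ent (enc g) (enc k) i j := by
      intro i j
      rw [Matrix.mul_apply, Fin.sum_univ_three, hadd, hadd, hmul, hmul, hmul, ← hd g i 0, ← hd g i 1, ← hd g i 2,
        ← hd k 0 j, ← hd k 1 j, ← hd k 2 j]
      simp [ent]
    show code φ (UnitarySimple.mat (g * k)) = _
    rw [UnitarySimple.mat_mul]
    simp only [code, mulC, hent]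
    rfl
  -- every element is in the table
  have hcov : ∀ g, enc g ∈ codes := by
    intro g
    let col : Fin 3 → ℕ := fun j => φ (UnitarySimple.mat g 0 j) + 4 * (φ (UnitarySimple.mat g 1 j) + 4 * φ (UnitarySimple.mat g 2 j))
    have hcd : ∀ j, dg (col j) 0 = φ (UnitarySimple.mat g 0 j) ∧ dg (col j) 1 = φ (UnitarySimple.mat g 1 j) ∧
        dg (col j) 2 = φ (UnitarySimple.mat g 2 j) := by
      intro j
      have := hlt (UnitarySimple.mat g 0 j)
      have := hlt (UnitarySimple.mat g 1 j)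
      have := hlt (UnitarySimple.mat g 2 j)
      simp only [col, dg]
      norm_num
      omega
    have hherm : ∀ a b : Fin 3, hC (col a) (col b) = if a = b then 1 else 0 := by
      intro a b
      have h := UnitarySimple.su_h g (Pi.single a 1) (Pi.single b 1)
      simp only [Cfsg.hermForm, Fin.sum_univ_three, Matrix.mulVec_single_one, Matrix.col_apply] at h
      have h' := congrArg φ h
      simp only [hadd, hmul, pow_two] at h'
      simp only [hC, (hcd a).1, (hcd a).2.1, (hcd a).2.2, (hcd b).1, (hcd b).2.1, (hcd b).2.2]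
      rw [h']
      fin_cases a <;> fin_cases b <;> simp [h0, h1, M]
    have hunit : ∀ a, col a ∈ units := fun a => by
      refine List.mem_filter.mpr ⟨List.mem_range.mpr ?_, by simp [hherm]⟩
      have := hlt (UnitarySimple.mat g 0 a)
      have := hlt (UnitarySimple.mat g 1 a)
      have := hlt (UnitarySimple.mat g 2 a)
      simp only [col]
      omega
    have hcols : cols (col 0) (col 1) (col 2) = enc g := by
      simp only [cols, (hcd _).1, (hcd _).2.1, (hcd _).2.2]
      rfl
    have hneg : ∀ x : F, -x = x := by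
      intro x
      refine hinj ?_
      have h := hadd x (-x)
      rw [add_neg_cancel, h0] at h
      exact (Nat.xor_eq_zero_iff.mp h.symm).symm
    have hdet : detC (enc g) = 1 := by
      have h : (UnitarySimple.mat g).det = 1 := (g : Matrix.SpecialLinearGroup (Fin 3) F).2
      rw [Matrix.det_fin_three] at h
      simp only [sub_eq_add_neg, hneg] at h
      have h' := congrArg φ h
      simp only [hadd, hmul, h1] at h'
      rw [← h']
      simp only [detC, show dg (enc g) 0 = φ (UnitarySimple.mat g 0 0) from hd g 0 0,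
        show dg (enc g) 1 = φ (UnitarySimple.mat g 0 1) from hd g 0 1,
        show dg (enc g) 2 = φ (UnitarySimple.mat g 0 2) from hd g 0 2,
        show dg (enc g) 3 = φ (UnitarySimple.mat g 1 0) from hd g 1 0,
        show dg (enc g) 4 = φ (UnitarySimple.mat g 1 1) from hd g 1 1,
        show dg (enc g) 5 = φ (UnitarySimple.mat g 1 2) from hd g 1 2,
        show dg (enc g) 6 = φ (UnitarySimple.mat g 2 0) from hd g 2 0,
        show dg (enc g) 7 = φ (UnitarySimple.mat g 2 1) from hd g 2 1,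
        show dg (enc g) 8 = φ (UnitarySimple.mat g 2 2) from hd g 2 2]
      ac_rfl
    have h := cover
    simp only [List.all_eq_true, Bool.or_eq_true, bne_iff_ne, List.contains_iff_mem] at h
    have h01 := (h _ (hunit 0) _ (hunit 1)).resolve_left (by simp [hherm])
    rcases h01 _ (hunit 2) with ((e | e) | e) | e
    · exact absurd (by simp [hherm]) e
    · exact absurd (by simp [hherm]) e
    · exact absurd (by rw [hcols]; exact hdet) e
    · rwa [hcols] at e
  -- and conversely
  have hcard : Nat.card (Cfsg.SU 3 F 2) = 216 := by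
    have h := CfsgLib.UnitaryOrder.card_GU hF2 3
    rw [CfsgLib.UnitaryOrder.card_GU_eq hF2 (by norm_num)] at h
    norm_num [Finset.prod_range_succ, Nat.even_iff] at h
    rw [Nat.card_eq_fintype_card]
    omega
  have hsurj : ∀ c ∈ codes, ∃ g, enc g = c := by
    let f : Cfsg.SU 3 F 2 → {c // c ∈ codes} := fun g => ⟨enc g, hcov g⟩
    have hf : Function.Bijective f := Function.Injective.bijective_of_nat_card_le
      (fun g k e => encinj (congrArg Subtype.val e)) (by
        rw [hcard, Nat.card_eq_fintype_card, Fintype.card_of_subtype codes.toFinset (fun x => List.mem_toFinset),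
          List.toFinset_card_of_nodup table_basic.2.2.2.1, table_basic.1])
    exact fun c hc => (hf.2 ⟨c, hc⟩).imp fun g hg => congrArg Subtype.val hg
  have hmem : ∀ c ∈ codes, ∃ p ∈ table, p.1 = c := fun c hc => List.mem_map.mp hc
  have enc1 : enc 1 = 65793 := by
    show code φ (UnitarySimple.mat 1) = 65793
    rw [UnitarySimple.mat_one]
    simp [code, h0, h1, asm]
  have hlen : table.length = 216 := by rw [← table_basic.1, codes, List.length_map]
  let Good : Cfsg.SU 3 F 2 → Prop := fun b => ∀ a, img (enc (a * b)) = img (enc a) * img (enc b)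
  have hgood : ∀ i < 216, ∀ b, enc b = (table.getD i (0, 0, 0, 0)).1 → Good b := by
    intro i
    induction i using Nat.strong_induction_on with
    | _ i ih =>
      intro hi b hb a
      rcases Nat.eq_zero_or_pos i with rfl | hpos
      · have hb1 : b = 1 := encinj (hb.trans (table_basic.2.1.trans enc1.symm))
        rw [hb1, mul_one, enc1, table_basic.2.2.1, mul_one]
      · have h := table_parent
        simp only [List.all_eq_true, List.mem_range, Bool.or_eq_true, beq_iff_eq, Bool.and_eq_true,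
          decide_eq_true_eq] at h
        obtain ⟨⟨hp, hk⟩, hpar⟩ := (h i hi).resolve_left (by omega)
        generalize (table.getD i (0, 0, 0, 0)).2.2.1 = p at hp hpar
        generalize (table.getD i (0, 0, 0, 0)).2.2.2 = k at hk hpar
        have hpm : (table.getD p (0, 0, 0, 0)).1 ∈ codes := by
          rw [List.getD_eq_getElem _ _ (by omega)]
          exact List.mem_map_of_mem (List.getElem_mem _)
        obtain ⟨c, hc⟩ := hsurj _ hpm
        obtain ⟨s, hs⟩ := hsurj _ (table_basic.2.2.2.2 k hk)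
        have hb' : b = c * s := encinj (by rw [hb, encmul, hc, hs, hpar])
        have hstep : ∀ x : Cfsg.SU 3 F 2, img (enc (x * s)) = img (enc x) * img (enc s) := by
          intro x
          obtain ⟨r, hr, hrx⟩ := hmem _ (hcov x)
          have h' := table_step
          simp only [List.all_eq_true, List.mem_range, decide_eq_true_eq] at h'
          rw [encmul, ← hrx, hs]
          exact h' r hr k hk
        rw [hb', ← mul_assoc, hstep, ih p hp (by omega) c hc a, hstep, mul_assoc]
  have hidx : ∀ g, ∃ i < 216, enc g = (table.getD i (0, 0, 0, 0)).1 := by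
    intro g
    obtain ⟨r, hr, hrg⟩ := hmem _ (hcov g)
    obtain ⟨i, hi, rfl⟩ := List.getElem_of_mem hr
    exact ⟨i, hlen ▸ hi, by rw [List.getD_eq_getElem _ _ hi]; exact hrg.symm⟩
  refine ⟨MonoidHom.mk' (fun g => img (enc g)) fun a b => ?_, fun x => ?_, fun g hg => ?_⟩
  · obtain ⟨i, hi, e⟩ := hidx b
    exact hgood i hi b e a
  · obtain ⟨n, hn, rfl⟩ := toQ_surj x
    obtain ⟨i, hi, e⟩ := image_onto n hn
    have hm : (table.getD i (0, 0, 0, 0)).1 ∈ codes := by
      rw [List.getD_eq_getElem _ _ (by omega)]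
      exact List.mem_map_of_mem (List.getElem_mem _)
    obtain ⟨g, hg⟩ := hsurj _ hm
    exact ⟨g, (congrArg img hg).trans e⟩
  · obtain ⟨r, hr, hrg⟩ := hmem _ (hcov g)
    have h := kernel_cube
    simp only [List.all_eq_true, Bool.or_eq_true, Bool.not_eq_true', decide_eq_false_iff_not] at h
    have hs := (h r hr).resolve_left (fun hne => hne (by rw [hrg]; exact hg))
    rw [hrg, ← encmul, ← encmul, show g * g * g = g ^ 3 by simp [pow_succ]] at hs
    simp only [isScalar, Bool.and_eq_true, beq_iff_eq] at hs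
    set A := UnitarySimple.mat (g ^ 3) with hA
    have e : ∀ i j : Fin 3, dg (enc (g ^ 3)) (3 * i + j) = φ (A i j) := hd _
    obtain ⟨⟨⟨⟨⟨⟨⟨s1, s2⟩, s3⟩, s5⟩, s6⟩, s7⟩, s4⟩, s8⟩ := hs
    have hscal : A = Matrix.scalar (Fin 3) (A 0 0) := by
      ext i j
      refine hinj ?_
      fin_cases i <;> fin_cases j <;> simp [h0]
      · rw [← e 0 1]; exact s1
      · rw [← e 0 2]; exact s2
      · rw [← e 1 0]; exact s3
      · rw [← e 1 1, ← e 0 0]; exact s4
      · rw [← e 1 2]; exact s5
      · rw [← e 2 0]; exact s6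
      · rw [← e 2 1]; exact s7
      · rw [← e 2 2, ← e 0 0]; exact s8
    rw [Subgroup.mem_center_iff]
    intro k
    refine Subtype.ext (Subtype.ext ?_)
    show UnitarySimple.mat k * A = A * UnitarySimple.mat k
    rw [hscal]
    exact ((Matrix.scalar_commute _ (fun r => Commute.all _ _) _).eq).symm

include hF in
theorem summary : Nat.card (Cfsg.PSU 3 F 2) = 72 ∧ ∃ (N : Subgroup (Cfsg.PSU 3 F 2)) (_ : N.Normal),
    Nat.card N = 9 ∧ (∀ x ∈ N, x ^ 3 = 1) ∧ Nonempty (Cfsg.PSU 3 F 2 ⧸ N ≃* QuaternionGroup 2) := by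
  classical
  have hF2 : Fintype.card F = 2 ^ 2 := by rw [hF]; norm_num
  have hcard : Nat.card (Cfsg.PSU 3 F 2) = 72 := by
    have h := Cfsg.Agent.S0280.result hF2 3 (by norm_num)
    norm_num [Finset.prod_range_succ, Nat.even_iff] at h
    rw [Nat.card_eq_fintype_card]
    omega
  obtain ⟨f, hsurj, hcube⟩ := exists_hom hF
  have hZ3 : Nat.card (Subgroup.center (Cfsg.SU 3 F 2)) = 3 := by
    rw [Cfsg.Agent.S0279.result hF2 3 le_rfl]
    decide
  have hQ : Nat.card (QuaternionGroup 2) = 8 := by rw [Nat.card_eq_fintype_card, QuaternionGroup.card]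
  have hZker : Subgroup.center (Cfsg.SU 3 F 2) ≤ f.ker := by
    intro z hz
    rw [MonoidHom.mem_ker, ← orderOf_eq_one_iff]
    refine Nat.eq_one_of_dvd_coprimes (show Nat.Coprime 3 8 by decide) ?_ (hQ ▸ orderOf_dvd_natCard _)
    refine (orderOf_map_dvd f z).trans ?_
    have h' := orderOf_dvd_natCard (⟨z, hz⟩ : Subgroup.center (Cfsg.SU 3 F 2))
    rwa [hZ3, Subgroup.orderOf_mk] at h'
  let fb : Cfsg.PSU 3 F 2 →* QuaternionGroup 2 := QuotientGroup.lift _ f hZker
  have hfb : Function.Surjective fb := fun x => by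
    obtain ⟨g, hg⟩ := hsurj x
    exact ⟨QuotientGroup.mk g, hg⟩
  refine ⟨hcard, fb.ker, inferInstance, ?_, fun x hx => ?_, ⟨QuotientGroup.quotientKerEquivOfSurjective fb hfb⟩⟩
  · have h := fb.ker.card_mul_index
    rw [Subgroup.index_ker, MonoidHom.range_eq_top.mpr hfb, Subgroup.card_top, hQ, hcard] at h
    omega
  · obtain ⟨g, rfl⟩ := QuotientGroup.mk_surjective x
    have hg : f g = 1 := hx
    show ((g ^ 3 : Cfsg.SU 3 F 2) : Cfsg.PSU 3 F 2) = 1
    exact (QuotientGroup.eq_one_iff _).mpr (hcube g hg)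

end

end CfsgLib.PSU32
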